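import Mathlib

/-!
# Transvections generate `SL_n(F)`; commutator subgroups of `SL_n`, `GL_n`; Iwasawa for `PSL_n`
-/

set_option autoImplicit false

namespace Cfsg.Agent.Helper2

namespace SLGen

open Matrix Matrix.SpecialLinearGroup
open scoped commutatorElement

variable {F : Type*} [Field F] {ι : Type*} [DecidableEq ι] [Fintype ι]

theorem w_ring {R : Type*} [Ring R] (X Y : R) (hXX : X * X = 0) (hXYX : X * Y * X = X) :
    (1 + X) * (1 - Y) * (1 + X) = 1 + X - Y - X * Y - Y * X := by
  have e : (1 + X) * (1 - Y) * (1 + X)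
      = 1 + X - Y - X * Y - Y * X + (X - X * Y * X) + X * X := by
    noncomm_ring
  rw [e, hXX, hXYX]
  abel

theorem comm_ring3 {R : Type*} [Ring R] (X Y : R) (hXX : X * X = 0) (hYY : Y * Y = 0)
    (hYX : Y * X = 0) : (1 + X) * (1 + Y) * (1 - X) * (1 - Y) = 1 + X * Y := by
  have e : (1 + X) * (1 + Y) * (1 - X) * (1 - Y)
      = 1 + X * Y - (X * X) * (1 - Y) - (Y * X) * (1 - Y) - X * (Y * X) * (1 - Y)
        - (Y * Y) - X * (Y * Y) := by
    noncomm_ring
  rw [e, hXX, hYY, hYX]
  simp

theorem w_coe {i j : ι} (hij : i ≠ j) (c : F) (hc : c ≠ 0) :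
    ((transvection hij c * transvection hij.symm (-c⁻¹) * transvection hij c :
        SpecialLinearGroup ι F) : Matrix ι ι F)
      = 1 + single i j c - single j i c⁻¹ - single i i 1 - single j j 1 := by
  have h1 : (single i j c : Matrix ι ι F) * single i j c = 0 :=
    single_mul_single_of_ne c i j i hij.symm c
  have h2 : (single i j c : Matrix ι ι F) * single j i c⁻¹ = single i i 1 := by
    rw [single_mul_single_same, mul_inv_cancel₀ hc]
  have h3 : (single j i c⁻¹ : Matrix ι ι F) * single i j c = single j j 1 := by
    rw [single_mul_single_same, inv_mul_cancel₀ hc]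
  have h4 : (single i j c : Matrix ι ι F) * single j i c⁻¹ * single i j c = single i j c := by
    rw [h2, single_mul_single_same, one_mul]
  have h5 := w_ring (single i j c : Matrix ι ι F) (single j i c⁻¹) h1 h4
  rw [h2, h3] at h5
  rw [← h5]
  simp only [coe_mul, transvection_coe]
  rw [← single_neg, ← sub_eq_add_neg]

theorem diag_mul_w {i j : ι} (hij : i ≠ j) (c : F) :
    diagonal (fun k ↦ if k = i then c else if k = j then c⁻¹ else 1)
        * (1 + single i j 1 - single j i 1⁻¹ - single i i 1 - single j j 1 : Matrix ι ι F)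
      = 1 + single i j c - single j i c⁻¹ - single i i 1 - single j j 1 := by
  ext k l
  rw [diagonal_mul]
  simp only [Matrix.sub_apply, Matrix.add_apply, Matrix.one_apply, single_apply]
  by_cases hk : k = i
  · subst hk
    by_cases hl : l = k
    · subst hl
      simp [hij, hij.symm]
    · by_cases hl' : l = j
      · subst hl'
        simp [hij, hij.symm]
      · have h1 : ¬ k = l := fun h => hl h.symm
        have h2 : ¬ j = l := fun h => hl' h.symm
        simp [hij, hij.symm, h1, h2, hl, hl']
  · by_cases hk' : k = j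
    · subst hk'
      by_cases hl : l = i
      · subst hl
        simp [hij, hij.symm]
      · by_cases hl' : l = k
        · subst hl'
          simp [hij, hij.symm]
        · have h1 : ¬ k = l := fun h => hl' h.symm
          have h2 : ¬ i = l := fun h => hl h.symm
          simp [hij, hij.symm, h1, h2, hl, hl', hk]
    · have h1 : ¬ i = k := fun h => hk h.symm
      have h2 : ¬ j = k := fun h => hk' h.symm
      simp [hk, hk', h1, h2]

theorem diag2n_eq {i j : ι} (hij : i ≠ j) (c : F) (hc : c ≠ 0) :
    diag2n hij c hc = (transvection hij c * transvection hij.symm (-c⁻¹) * transvection hij c)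
      * (transvection hij 1 * transvection hij.symm (-1⁻¹) * transvection hij 1)⁻¹ := by
  rw [eq_mul_inv_iff_mul_eq]
  apply Subtype.ext
  rw [coe_mul, w_coe hij 1 one_ne_zero, w_coe hij c hc, diag2n_coe]
  exact diag_mul_w hij c

/-- A subgroup of `SL_n(F)` containing all transvections is everything. -/
theorem eq_top_of_transvection_mem [Nontrivial ι] (K : Subgroup (SpecialLinearGroup ι F))
    (h : ∀ (i j : ι) (hij : i ≠ j) (a : F), transvection hij a ∈ K) : K = ⊤ := by
  rw [eq_top_iff]
  intro M _
  refine diagonal_transvection_induction' (fun M => M ∈ K) M ?_ h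
    (fun A B hA hB => K.mul_mem hA hB)
  intro i j hij c hc
  rw [diag2n_eq hij c hc]
  exact K.mul_mem (K.mul_mem (K.mul_mem (h _ _ _ _) (h _ _ _ _)) (h _ _ _ _))
    (K.inv_mem (K.mul_mem (K.mul_mem (h _ _ _ _) (h _ _ _ _)) (h _ _ _ _)))

theorem transvection_eq_commutator {i j k : ι} (hij : i ≠ j) (hjk : j ≠ k) (hik : i ≠ k)
    (a : F) :
    transvection hik a = ⁅transvection hij a, transvection hjk (1 : F)⁆ := by
  rw [commutatorElement_def, transvection_inv, transvection_inv]
  apply Subtype.ext
  simp only [coe_mul, transvection_coe]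
  rw [← single_neg, ← single_neg, ← sub_eq_add_neg, ← sub_eq_add_neg]
  rw [comm_ring3 (single i j a : Matrix ι ι F) (single j k 1)
    (single_mul_single_of_ne a i j i hij.symm a)
    (single_mul_single_of_ne 1 j k j hjk.symm 1)
    (single_mul_single_of_ne 1 j k i hik.symm a), single_mul_single_same, mul_one]

/-- `SL_n(F)` is perfect as soon as every pair of indices has a third one. -/
theorem commutator_SL_eq_top [Nontrivial ι]
    (h3 : ∀ i j : ι, ∃ k, k ≠ i ∧ k ≠ j) :
    commutator (SpecialLinearGroup ι F) = ⊤ := by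
  apply eq_top_of_transvection_mem
  intro i j hij a
  obtain ⟨k, hki, hkj⟩ := h3 i j
  rw [transvection_eq_commutator (Ne.symm hki) hkj hij a]
  exact Subgroup.commutator_mem_commutator (Subgroup.mem_top _) (Subgroup.mem_top _)

theorem exists_third (n : ℕ) (hn : 3 ≤ n) (i j : Fin n) : ∃ k, k ≠ i ∧ k ≠ j := by
  by_contra hcon
  push Not at hcon
  have h0 := hcon ⟨0, by omega⟩
  have h1 := hcon ⟨1, by omega⟩
  have h2 := hcon ⟨2, by omega⟩
  simp only [Ne, Fin.ext_iff] at h0 h1 h2
  omega

/-! ### GL -/

/-- the diagonal matrix with `a` at position `i`, as an element of `GL` -/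
noncomputable def dg (i : ι) (a : F) (ha : a ≠ 0) : GL ι F :=
  Matrix.GeneralLinearGroup.mkOfDetNeZero (diagonal fun k => if k = i then a else 1) (by
    rw [det_diagonal]
    apply Finset.prod_ne_zero_iff.2
    intro k _
    split_ifs
    · exact ha
    · exact one_ne_zero)

theorem dg_mul (i j : ι) (hij : i ≠ j) (a b : F) :
    (diagonal fun k => if k = i then a else 1 : Matrix ι ι F) * (1 + single i j b)
      = (1 + single i j (a * b)) * diagonal fun k => if k = i then a else 1 := by
  ext k l
  rw [diagonal_mul, mul_diagonal, Matrix.add_apply, Matrix.add_apply, Matrix.one_apply,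
    single_apply, single_apply]
  by_cases h : i = k ∧ j = l
  · obtain ⟨rfl, rfl⟩ := h
    simp [hij, hij.symm]
  · by_cases hkl : k = l
    · subst hkl
      simp [h]
    · simp [h, hkl]

theorem toGL_transvection_mem_commutator_of_ne_one {a : F} (ha : a ≠ 0) (ha1 : a ≠ 1)
    {i j : ι} (hij : i ≠ j) (c : F) :
    SpecialLinearGroup.toGL (transvection hij c) ∈ commutator (GL ι F) := by
  obtain ⟨b, hb⟩ : ∃ b : F, a * b = c + b := by
    refine ⟨c / (a - 1), ?_⟩
    have h1 : a - 1 ≠ 0 := sub_ne_zero.2 ha1
    field_simp
    ring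
  have key : dg i a ha * SpecialLinearGroup.toGL (transvection hij b)
      = SpecialLinearGroup.toGL (transvection hij c) * SpecialLinearGroup.toGL (transvection hij b)
        * dg i a ha := by
    rw [← map_mul, ← transvection_add, ← hb]
    apply Units.ext
    exact dg_mul i j hij a b
  have h2 : SpecialLinearGroup.toGL (transvection hij c)
      = ⁅dg i a ha, SpecialLinearGroup.toGL (transvection hij b)⁆ := by
    rw [commutatorElement_def, key]
    group
  rw [h2]
  exact Subgroup.commutator_mem_commutator (Subgroup.mem_top _) (Subgroup.mem_top _)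

theorem toGL_transvection_mem_commutator_of_three {i j k : ι} (hij : i ≠ j) (hjk : j ≠ k)
    (hik : i ≠ k) (a : F) :
    SpecialLinearGroup.toGL (transvection hik a) ∈ commutator (GL ι F) := by
  rw [transvection_eq_commutator hij hjk hik a, map_commutatorElement]
  exact Subgroup.commutator_mem_commutator (Subgroup.mem_top _) (Subgroup.mem_top _)

/-- `GL_n(F)' = ker det` when the transvections are commutators. -/
theorem commutator_GL_eq_ker_det [Nontrivial ι]
    (h : ∀ (i j : ι) (hij : i ≠ j) (c : F),
      SpecialLinearGroup.toGL (transvection hij c) ∈ commutator (GL ι F)) :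
    commutator (GL ι F) = (Matrix.GeneralLinearGroup.det : GL ι F →* Fˣ).ker := by
  apply le_antisymm
  · exact Abelianization.commutator_subset_ker _
  · intro A hA
    have hA' : (A : Matrix ι ι F).det = 1 := by
      have h1 : Matrix.GeneralLinearGroup.det A = 1 := hA
      have h2 := congrArg Units.val h1
      rwa [Matrix.GeneralLinearGroup.val_det_apply] at h2
    have hK : (commutator (GL ι F)).comap (SpecialLinearGroup.toGL : SpecialLinearGroup ι F →* GL ι F)
        = ⊤ :=
      eq_top_of_transvection_mem
        ((commutator (GL ι F)).comap (SpecialLinearGroup.toGL : SpecialLinearGroup ι F →* GL ι F)) h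
    obtain ⟨M, hM⟩ : ∃ M : SpecialLinearGroup ι F, (M : Matrix ι ι F) = (A : Matrix ι ι F) :=
      ⟨⟨(A : Matrix ι ι F), hA'⟩, rfl⟩
    have hmem : M
        ∈ (commutator (GL ι F)).comap (SpecialLinearGroup.toGL : SpecialLinearGroup ι F →* GL ι F) := by
      rw [hK]; exact Subgroup.mem_top M
    have hAeq : SpecialLinearGroup.toGL M = A := Units.ext hM
    rw [← hAeq]
    exact hmem

/-! ### Iwasawa structure on `PSL_n` -/

open scoped LinearAlgebra.Projectivization

theorem iSup_lineStab_eq_top [Nontrivial ι] :
    (⨆ p : ℙ F (ι → F), lineStab p.submodule) = (⊤ : Subgroup (SpecialLinearGroup ι F)) := by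
  apply eq_top_of_transvection_mem
  intro i j hij a
  have h1 := SL2Gen.transvection_mem_lineStab (F := F) hij a
  rw [← Projectivization.submodule_mk (K := F) _ (Pi.single_ne_zero_iff.2 one_ne_zero)] at h1
  exact Subgroup.mem_iSup_of_mem _ h1

theorem iSup_iwasawaT_eq_top [Nontrivial ι] :
    iSup (PSL.iwasawaT (F := F) (ι := ι)) = ⊤ := by
  have step1 : iSup (PSL.iwasawaT (F := F) (ι := ι)) =
      Subgroup.map (QuotientGroup.mk' (Subgroup.center (Matrix.SpecialLinearGroup ι F)))
        (⨆ p : ℙ F (ι → F),
          Matrix.SpecialLinearGroup.lineStab (F := F) (ι := ι) p.submodule) := by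
    rw [Subgroup.map_iSup]
  rw [step1, iSup_lineStab_eq_top]
  exact Subgroup.map_top_of_surjective _ (QuotientGroup.mk'_surjective _)

/-- The Iwasawa structure on `PSL_n(F)`. -/
noncomputable def iwasawa [Nontrivial ι] :
    MulAction.IwasawaStructure (Matrix.ProjectiveSpecialLinearGroup ι F) (ℙ F (ι → F)) where
  T := PSL.iwasawaT
  is_comm p := by
    have hSL : IsMulCommutative (lineStab (F := F) (ι := ι) p.submodule) := by
      rw [← Projectivization.mk_rep p, Projectivization.submodule_mk]
      exact lineStab_isMulCommutative_of_span p.rep p.rep_nonzero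
    exact Subgroup.map_isMulCommutative _ _
  is_conj g p := by
    obtain ⟨g_SL, rfl⟩ := QuotientGroup.mk_surjective g
    rw [Matrix.ProjectiveSpecialLinearGroup.smul_proj_mk]
    change Subgroup.map _ _ = _
    rw [PSL.smul_submodule, Matrix.SpecialLinearGroup.lineStab_smul,
      PSL.iwasawaT_map_conj]
  is_generator := iSup_iwasawaT_eq_top

/-- `PSL_n(F)` is simple as soon as `SL_n(F)` is perfect. -/
theorem isSimpleGroup_PSL [Nontrivial ι]
    (hperf : commutator (SpecialLinearGroup ι F) = ⊤) :
    IsSimpleGroup (Matrix.ProjectiveSpecialLinearGroup ι F) := by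
  have h1 : Group.IsPerfect (SpecialLinearGroup ι F) := ⟨hperf⟩
  have h2 : Group.IsPerfect (Matrix.ProjectiveSpecialLinearGroup ι F) := inferInstance
  exact MulAction.IwasawaStructure.isSimpleGroup h2.commutator_eq_top iwasawa inferInstance

end SLGen

end Cfsg.Agent.Helper2
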