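import Mathlib
import Cfsg.Prelude.Def_GeometricClasses
import Cfsg.Agent.Helper2.SLGen

/-!
# Stabilisers of subspaces in `GL_n` and `SL_n` are maximal

Rank one perturbations `1 + u φᵀ`, transitivity of the stabiliser of a subspace `W` on the
vectors outside `W` (up to scalars, inside `SL`), and the consequence that a subgroup
containing `Stab(W) ∩ SL` and an element moving `W` contains `SL`.
-/

set_option autoImplicit false

namespace Cfsg.Agent.Helper2

namespace Parab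

open Matrix

variable {F : Type*} [Field F] {ι : Type} [Fintype ι] [DecidableEq ι]

theorem tmat_mulVec (u φ x : ι → F) :
    (1 + Matrix.vecMulVec u φ) *ᵥ x = x + (φ ⬝ᵥ x) • u := by
  rw [Matrix.add_mulVec, Matrix.one_mulVec, Matrix.vecMulVec_mulVec, op_smul_eq_smul]

theorem tmat_det (u φ : ι → F) : (1 + Matrix.vecMulVec u φ).det = 1 + φ ⬝ᵥ u := by
  rw [Matrix.vecMulVec_eq (Fin 1), Matrix.det_one_add_replicateCol_mul_replicateRow]

/-- The element `1 + u φᵀ` of `GL` when `1 + φ·u ≠ 0`. -/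
noncomputable def tgl (u φ : ι → F) (h : 1 + φ ⬝ᵥ u ≠ 0) : Matrix.GeneralLinearGroup ι F :=
  Matrix.GeneralLinearGroup.mkOfDetNeZero (1 + Matrix.vecMulVec u φ)
    (by rw [tmat_det]; exact h)

theorem tgl_val (u φ : ι → F) (h : 1 + φ ⬝ᵥ u ≠ 0) :
    ((tgl u φ h : Matrix.GeneralLinearGroup ι F) : Matrix ι ι F) = 1 + Matrix.vecMulVec u φ :=
  rfl

theorem mem_sl_iff (g : Matrix.GeneralLinearGroup ι F) :
    g ∈ Cfsg.Geo.specialLinear ι F ↔ (g : Matrix ι ι F).det = 1 := by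
  constructor
  · intro h
    have h1 : Matrix.GeneralLinearGroup.det g = 1 := h
    exact congrArg Units.val h1
  · intro h
    show Matrix.GeneralLinearGroup.det g = 1
    exact Units.ext h

theorem mem_stab_iff (S : Set (ι → F)) (g : Matrix.GeneralLinearGroup ι F) :
    g ∈ Cfsg.stabilizing (Cfsg.glToMat ι F) S ↔
      ∀ v, v ∈ S ↔ (g : Matrix ι ι F) *ᵥ v ∈ S := Iff.rfl

theorem gl_mulVec_inj (g : Matrix.GeneralLinearGroup ι F) {a b : ι → F}
    (h : (g : Matrix ι ι F) *ᵥ a = (g : Matrix ι ι F) *ᵥ b) : a = b := by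
  have h1 := congrArg (fun x => ((g⁻¹ : Matrix.GeneralLinearGroup ι F) : Matrix ι ι F) *ᵥ x) h
  simpa [Matrix.mulVec_mulVec] using h1

theorem inv_mulVec_mulVec (g : Matrix.GeneralLinearGroup ι F) (a : ι → F) :
    ((g⁻¹ : Matrix.GeneralLinearGroup ι F) : Matrix ι ι F) *ᵥ ((g : Matrix ι ι F) *ᵥ a) = a := by
  rw [Matrix.mulVec_mulVec, Units.inv_mul, Matrix.one_mulVec]

theorem mulVec_inv_mulVec (g : Matrix.GeneralLinearGroup ι F) (a : ι → F) :
    (g : Matrix ι ι F) *ᵥ (((g⁻¹ : Matrix.GeneralLinearGroup ι F) : Matrix ι ι F) *ᵥ a) = a := by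
  rw [Matrix.mulVec_mulVec, Units.mul_inv, Matrix.one_mulVec]

/-- An element fixing `S` pointwise stabilises `S`. -/
theorem stab_of_fix (S : Set (ι → F)) (g : Matrix.GeneralLinearGroup ι F)
    (h : ∀ w ∈ S, (g : Matrix ι ι F) *ᵥ w = w) :
    g ∈ Cfsg.stabilizing (Cfsg.glToMat ι F) S := by
  rw [mem_stab_iff]
  intro v
  constructor
  · intro hv
    rw [h v hv]
    exact hv
  · intro hv
    have h1 := h _ hv
    have h2 : (g : Matrix ι ι F) *ᵥ v = v := gl_mulVec_inj g h1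
    rw [← h2]
    exact hv

/-- An element mapping `S` into itself, whose inverse does too, stabilises `S`. -/
theorem stab_of_maps (S : Set (ι → F)) (g : Matrix.GeneralLinearGroup ι F)
    (h1 : ∀ w ∈ S, (g : Matrix ι ι F) *ᵥ w ∈ S)
    (h2 : ∀ w ∈ S, ((g⁻¹ : Matrix.GeneralLinearGroup ι F) : Matrix ι ι F) *ᵥ w ∈ S) :
    g ∈ Cfsg.stabilizing (Cfsg.glToMat ι F) S := by
  rw [mem_stab_iff]
  intro v
  constructor
  · exact h1 v
  · intro hv
    have h3 := h2 _ hv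
    rw [inv_mulVec_mulVec] at h3
    exact h3

/-- An element `1 + u φᵀ` with `u ∈ W` stabilises `W`. -/
theorem mem_stab_of_mem (W : Submodule F (ι → F)) (g : Matrix.GeneralLinearGroup ι F)
    (u φ : ι → F) (hg : (g : Matrix ι ι F) = 1 + Matrix.vecMulVec u φ) (hu : u ∈ W) :
    g ∈ Cfsg.stabilizing (Cfsg.glToMat ι F) (W : Set (ι → F)) := by
  rw [mem_stab_iff]
  intro v
  rw [hg, tmat_mulVec]
  constructor
  · intro hv
    exact W.add_mem hv (W.smul_mem _ hu)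
  · intro hv
    have h1 := W.sub_mem hv (W.smul_mem (φ ⬝ᵥ v) hu)
    rw [add_sub_cancel_right] at h1
    exact h1

/-- A row vector vanishing on `W` but not at `x ∉ W`. -/
theorem exists_row (W : Submodule F (ι → F)) {x : ι → F} (hx : x ∉ W) :
    ∃ ψ : ι → F, (∀ w ∈ W, ψ ⬝ᵥ w = 0) ∧ ψ ⬝ᵥ x ≠ 0 := by
  obtain ⟨f, hfx, hfW⟩ := Submodule.exists_dual_map_eq_bot_of_notMem hx inferInstance
  have key : ∀ y : ι → F, (fun i => f (fun j => if i = j then 1 else 0)) ⬝ᵥ y = f y := by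
    intro y
    rw [LinearMap.pi_apply_eq_sum_univ f y]
    show ∑ i, f (fun j => if i = j then 1 else 0) * y i = _
    exact Finset.sum_congr rfl (fun i _ => by rw [smul_eq_mul, mul_comm])
  refine ⟨fun i => f (fun j => if i = j then 1 else 0), ?_, ?_⟩
  · intro w hw
    rw [key]
    exact (Submodule.eq_bot_iff _).1 hfW (f w) (Submodule.mem_map_of_mem hw)
  · rw [key]
    exact hfx

theorem exists_row2 (W : Submodule F (ι → F)) {x y : ι → F} (hx : x ∉ W) (hy : y ∉ W) :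
    ∃ ψ : ι → F, (∀ w ∈ W, ψ ⬝ᵥ w = 0) ∧ ψ ⬝ᵥ x = 1 ∧ ψ ⬝ᵥ y ≠ 0 := by
  have main : ∃ ψ : ι → F, (∀ w ∈ W, ψ ⬝ᵥ w = 0) ∧ ψ ⬝ᵥ x ≠ 0 ∧ ψ ⬝ᵥ y ≠ 0 := by
    obtain ⟨ψ₁, h1W, h1x⟩ := exists_row W hx
    obtain ⟨ψ₂, h2W, h2y⟩ := exists_row W hy
    by_cases h1 : ψ₁ ⬝ᵥ y = 0
    · by_cases h2 : ψ₂ ⬝ᵥ x = 0
      · refine ⟨ψ₁ + ψ₂, ?_, ?_, ?_⟩
        · intro w hw
          rw [add_dotProduct, h1W w hw, h2W w hw, add_zero]
        · rw [add_dotProduct, h2, add_zero]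
          exact h1x
        · rw [add_dotProduct, h1, zero_add]
          exact h2y
      · exact ⟨ψ₂, h2W, h2, h2y⟩
    · exact ⟨ψ₁, h1W, h1x, h1⟩
  obtain ⟨ψ, hW, hx', hy'⟩ := main
  refine ⟨(ψ ⬝ᵥ x)⁻¹ • ψ, ?_, ?_, ?_⟩
  · intro w hw
    rw [smul_dotProduct, hW w hw, smul_zero]
  · rw [smul_dotProduct, smul_eq_mul, inv_mul_cancel₀ hx']
  · rw [smul_dotProduct, smul_eq_mul]
    exact mul_ne_zero (inv_ne_zero hx') hy'

/-- The stabiliser of `W` in `SL` is transitive, up to scalars, on the vectors outside `W`. -/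
theorem exists_move (W : Submodule F (ι → F)) {x y : ι → F} (hx : x ∉ W) (hy : y ∉ W) :
    ∃ g : Matrix.GeneralLinearGroup ι F, (g : Matrix ι ι F).det = 1 ∧
      (∀ w ∈ W, (g : Matrix ι ι F) *ᵥ w = w) ∧
      ∃ c : F, c ≠ 0 ∧ (g : Matrix ι ι F) *ᵥ x = c • y := by
  obtain ⟨ψ, hW, hx1, hy1⟩ := exists_row2 W hx hy
  have hu0 : ψ ⬝ᵥ ((ψ ⬝ᵥ y)⁻¹ • y - x) = 0 := by
    rw [dotProduct_sub, dotProduct_smul, smul_eq_mul, inv_mul_cancel₀ hy1, hx1, sub_self]
  have hne : 1 + ψ ⬝ᵥ ((ψ ⬝ᵥ y)⁻¹ • y - x) ≠ 0 := by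
    rw [hu0, add_zero]
    exact one_ne_zero
  refine ⟨tgl ((ψ ⬝ᵥ y)⁻¹ • y - x) ψ hne, ?_, ?_, (ψ ⬝ᵥ y)⁻¹, inv_ne_zero hy1, ?_⟩
  · rw [tgl_val, tmat_det, hu0, add_zero]
  · intro w hw
    rw [tgl_val, tmat_mulVec, hW w hw, zero_smul, add_zero]
  · rw [tgl_val, tmat_mulVec, hx1, one_smul]
    exact add_sub_cancel _ _

theorem conj_tmat (A B : Matrix ι ι F) (hBA : B * A = 1) (u φ : ι → F) :
    B * (1 + Matrix.vecMulVec (A *ᵥ u) φ) * A = 1 + Matrix.vecMulVec u (φ ᵥ* A) := by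
  rw [Matrix.mul_add, Matrix.mul_one, Matrix.add_mul, hBA, Matrix.mul_vecMulVec,
    Matrix.mulVec_mulVec, hBA, Matrix.one_mulVec, Matrix.vecMulVec_mul]

/-- All elements of `GL` with matrix `1 + u φᵀ` lie in `K`. -/
def InK (K : Subgroup (Matrix.GeneralLinearGroup ι F)) (u φ : ι → F) : Prop :=
  ∀ g : Matrix.GeneralLinearGroup ι F, (g : Matrix ι ι F) = 1 + Matrix.vecMulVec u φ → g ∈ K

theorem inK_conj (K : Subgroup (Matrix.GeneralLinearGroup ι F))
    (h : Matrix.GeneralLinearGroup ι F) (hh : h ∈ K) (u φ : ι → F)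
    (H : InK K u (φ ᵥ* (h : Matrix ι ι F))) : InK K ((h : Matrix ι ι F) *ᵥ u) φ := by
  intro g hg
  have h1 : h⁻¹ * g * h ∈ K := by
    apply H
    rw [Units.val_mul, Units.val_mul, hg]
    exact conj_tmat _ _ (Units.inv_mul h) u φ
  have h2 : g = h * (h⁻¹ * g * h) * h⁻¹ := by group
  rw [h2]
  exact K.mul_mem (K.mul_mem hh h1) (K.inv_mem hh)

/-- **Key lemma**: a subgroup containing `Stab(W) ∩ SL` and an element not stabilising `W`
contains `SL`. -/
theorem sl_le_of_stab [Nontrivial ι] (W : Submodule F (ι → F))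
    (K : Subgroup (Matrix.GeneralLinearGroup ι F))
    (hK : Cfsg.stabilizing (Cfsg.glToMat ι F) (W : Set (ι → F)) ⊓ Cfsg.Geo.specialLinear ι F ≤ K)
    (h : ∃ g ∈ K, g ∉ Cfsg.stabilizing (Cfsg.glToMat ι F) (W : Set (ι → F))) :
    Cfsg.Geo.specialLinear ι F ≤ K := by
  -- an element of K moving a vector of W outside W
  have h0 : ∃ h' ∈ K, ∃ x₀ ∈ W, (h' : Matrix ι ι F) *ᵥ x₀ ∉ W := by
    obtain ⟨g, hgK, hg⟩ := h
    rw [mem_stab_iff] at hg
    obtain ⟨v, hv⟩ := not_forall.1 hg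
    by_cases hvW : v ∈ W
    · refine ⟨g, hgK, v, hvW, ?_⟩
      intro hgv
      exact hv ⟨fun _ => hgv, fun _ => hvW⟩
    · have hgv : (g : Matrix ι ι F) *ᵥ v ∈ W := by
        by_contra hgv
        exact hv ⟨fun h1 => absurd h1 hvW, fun h1 => absurd h1 hgv⟩
      refine ⟨g⁻¹, K.inv_mem hgK, _, hgv, ?_⟩
      rw [inv_mulVec_mulVec]
      exact hvW
  obtain ⟨h', hh'K, x₀, hx₀, hy₀⟩ := h0
  -- Step 1
  have step1 : ∀ u ∈ W, ∀ φ : ι → F, φ ⬝ᵥ u = 0 → InK K u φ := by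
    intro u hu φ hφ g hg
    apply hK
    exact ⟨mem_stab_of_mem W g u φ hg hu,
      (mem_sl_iff g).2 (by rw [hg, tmat_det, hφ, add_zero])⟩
  -- Step 2
  have step2 : ∀ φ : ι → F, φ ⬝ᵥ ((h' : Matrix ι ι F) *ᵥ x₀) = 0 →
      InK K ((h' : Matrix ι ι F) *ᵥ x₀) φ := by
    intro φ hφ
    apply inK_conj K h' hh'K
    apply step1 x₀ hx₀
    rw [← Matrix.dotProduct_mulVec]
    exact hφ
  -- Step 3
  have step3 : ∀ y : ι → F, y ∉ W → ∀ φ : ι → F, φ ⬝ᵥ y = 0 → InK K y φ := by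
    intro y hy φ hφ
    obtain ⟨g, hdet, hfix, c, hc, hgy⟩ := exists_move W hy₀ hy
    have hgK : g ∈ K := hK ⟨stab_of_fix _ g hfix, (mem_sl_iff g).2 hdet⟩
    have h1 : InK K ((g : Matrix ι ι F) *ᵥ ((h' : Matrix ι ι F) *ᵥ x₀)) (c⁻¹ • φ) := by
      apply inK_conj K g hgK
      apply step2
      rw [← Matrix.dotProduct_mulVec, hgy, smul_dotProduct, dotProduct_smul, hφ, smul_zero,
        smul_zero]
    intro g' hg'
    apply h1
    rw [hg', hgy, Matrix.smul_vecMulVec, Matrix.vecMulVec_smul, smul_smul, mul_inv_cancel₀ hc,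
      one_smul]
  -- Step 4: elementary transvections
  have step4 : ∀ (i j : ι) (hij : i ≠ j) (a : F),
      Matrix.SpecialLinearGroup.toGL (Matrix.SpecialLinearGroup.transvection hij a) ∈ K := by
    intro i j hij a
    have hs : (Matrix.single i j a : Matrix ι ι F)
        = Matrix.vecMulVec (Pi.single i 1) (a • Pi.single j 1) := by
      rw [Matrix.vecMulVec_smul, ← Matrix.single_eq_single_vecMulVec_single, Matrix.smul_single,
        smul_eq_mul, mul_one]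
    have hφ : (a • (Pi.single j 1 : ι → F)) ⬝ᵥ (Pi.single i 1 : ι → F) = 0 := by
      rw [smul_dotProduct, single_dotProduct, Pi.single_apply, if_neg hij.symm, mul_zero,
        smul_zero]
    have hval : ((Matrix.SpecialLinearGroup.toGL
        (Matrix.SpecialLinearGroup.transvection hij a) : Matrix.GeneralLinearGroup ι F) :
          Matrix ι ι F) = 1 + Matrix.vecMulVec (Pi.single i 1) (a • Pi.single j 1) := by
      rw [← hs]
      rfl
    by_cases hi : (Pi.single i 1 : ι → F) ∈ W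
    · exact step1 _ hi _ hφ _ hval
    · exact step3 _ hi _ hφ _ hval
  have htop : K.comap (Matrix.SpecialLinearGroup.toGL :
      Matrix.SpecialLinearGroup ι F →* Matrix.GeneralLinearGroup ι F) = ⊤ := by
    apply SLGen.eq_top_of_transvection_mem
    intro i j hij a
    exact step4 i j hij a
  intro g hg
  rw [mem_sl_iff] at hg
  have h1 : ∀ s : Matrix.SpecialLinearGroup ι F, Matrix.SpecialLinearGroup.toGL s ∈ K := by
    intro s
    have h3 : s ∈ K.comap (Matrix.SpecialLinearGroup.toGL :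
        Matrix.SpecialLinearGroup ι F →* Matrix.GeneralLinearGroup ι F) := by
      rw [htop]
      exact Subgroup.mem_top _
    exact h3
  have h2 : Matrix.SpecialLinearGroup.toGL
      (⟨(g : Matrix ι ι F), hg⟩ : Matrix.SpecialLinearGroup ι F) = g := Units.ext rfl
  rw [← h2]
  exact h1 _

/-- Some element of `SL` does not stabilise a proper non-zero subspace. -/
theorem exists_sl_not_stab (W : Submodule F (ι → F)) (hW0 : W ≠ ⊥) (hW1 : W ≠ ⊤) :
    ∃ g ∈ Cfsg.Geo.specialLinear ι F,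
      g ∉ Cfsg.stabilizing (Cfsg.glToMat ι F) (W : Set (ι → F)) := by
  obtain ⟨x, hxW, hx0⟩ := Submodule.exists_mem_ne_zero_of_ne_bot hW0
  have hy : ∃ y, y ∉ W := by
    by_contra hcon
    exact hW1 (Submodule.eq_top_iff'.2 (fun y => by_contra (fun hy => hcon ⟨y, hy⟩)))
  obtain ⟨y, hy⟩ := hy
  have hx' : x ∉ (⊥ : Submodule F (ι → F)) := by
    rw [Submodule.mem_bot]
    exact hx0
  have hy' : y ∉ (⊥ : Submodule F (ι → F)) := by
    rw [Submodule.mem_bot]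
    intro h0
    exact hy (h0 ▸ W.zero_mem)
  obtain ⟨g, hdet, -, c, hc, hgx⟩ := exists_move (⊥ : Submodule F (ι → F)) hx' hy'
  refine ⟨g, (mem_sl_iff g).2 hdet, ?_⟩
  intro hg
  have h1 := ((mem_stab_iff _ g).1 hg x).1 hxW
  rw [hgx] at h1
  exact hy ((Submodule.smul_mem_iff W hc).1 h1)

/-- The stabiliser determines the subspace (one inclusion). -/
theorem le_of_stab_le (U U' : Submodule F (ι → F)) (hU' : U' ≠ ⊤)
    (h : Cfsg.stabilizing (Cfsg.glToMat ι F) (U : Set (ι → F)) ≤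
      Cfsg.stabilizing (Cfsg.glToMat ι F) (U' : Set (ι → F))) : U' ≤ U := by
  by_contra hne
  obtain ⟨y, hyU', hyU⟩ := SetLike.not_le_iff_exists.1 hne
  have h1 : ∀ z : ι → F, z ∉ U → z ∈ U' := by
    intro z hz
    obtain ⟨g, -, hfix, c, hc, hgy⟩ := exists_move U hyU hz
    have hg : g ∈ Cfsg.stabilizing (Cfsg.glToMat ι F) (U' : Set (ι → F)) :=
      h (stab_of_fix _ g hfix)
    have h2 := ((mem_stab_iff _ g).1 hg y).1 hyU'
    rw [hgy] at h2
    exact (Submodule.smul_mem_iff U' hc).1 h2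
  apply hU'
  rw [Submodule.eq_top_iff']
  intro z
  by_cases hz : z ∈ U
  · have h2 : z + y ∉ U := by
      intro h3
      apply hyU
      have h4 := U.sub_mem h3 hz
      rw [add_sub_cancel_left] at h4
      exact h4
    have h5 := U'.sub_mem (h1 _ h2) hyU'
    rw [add_sub_cancel_right] at h5
    exact h5
  · exact h1 z hz

end Parab

end Cfsg.Agent.Helper2
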