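import Mathlib
import Cfsg.Prelude.Def_GeometricClasses
import Cfsg.Agent.Helper2.Parab
import Cfsg.Agent.S0764
import Cfsg.Agent.S0765
import Cfsg.Agent.S0766
import Cfsg.Agent.S0768
import Cfsg.Agent.S2585

/-!
# Stabilisers of totally isotropic subspaces are maximal in `Sp_2m(F)`

An abstract closure lemma (`T_univ`) on the set of vectors whose transvections lie in a
subgroup, and its application to the symplectic group in the matrix form of the Prelude.
-/

set_option autoImplicit false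

namespace Cfsg.Agent.Helper2

namespace SpParab

open Matrix

/-- Abstract closure lemma: a set `T` of vectors containing `W^⊥`, closed under scalars,
under the transvections of its own members and under the maps
`x ↦ x + B(x,w) u + B(x,u) w` (`w ∈ W`, `B(w,u) = 0`), and containing a vector outside
`W^⊥`, is everything. -/
theorem T_univ {F V : Type*} [Field F] [AddCommGroup V] [Module F V]
    (B : LinearMap.BilinForm F V) (hB : B.IsAlt) (W : Submodule F V)
    (hW : ∀ a ∈ W, ∀ b ∈ W, B a b = 0) (T : Set V)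
    (T1 : ∀ y, (∀ w ∈ W, B y w = 0) → y ∈ T)
    (T2a : ∀ y ∈ T, ∀ a : F, a • y ∈ T)
    (T2b : ∀ y ∈ T, ∀ t ∈ T, ∀ c : F, y + (c * B y t) • t ∈ T)
    (T3 : ∀ y ∈ T, ∀ w ∈ W, ∀ u, B w u = 0 → y + B y w • u + B y u • w ∈ T)
    (T4 : ∃ y₁ ∈ T, ∃ w ∈ W, B y₁ w ≠ 0) : ∀ z, z ∈ T := by
  have P : ∀ y ∈ T, ∀ t ∈ T, B y t ≠ 0 → ∀ b : F, y + b • t ∈ T := by
    intro y hy t ht hne b
    have h := T2b y hy t ht (b / B y t)
    rw [div_mul_cancel₀ b hne] at h
    exact h
  have skew : ∀ a b : V, B a b = - B b a := fun a b => (hB.neg_eq b a).symm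
  have S1 : ∀ y ∈ T, (∃ w ∈ W, B y w ≠ 0) → ∀ t, (∀ w ∈ W, B t w = 0) → y + t ∈ T := by
    intro y hy hex t ht
    obtain ⟨w₀, hw₀, hne⟩ := hex
    have htT : t ∈ T := T1 t ht
    by_cases hyt : B y t = 0
    · have hw₀T : w₀ ∈ T := T1 w₀ (fun w hw => hW w₀ hw₀ w hw)
      have h1 : y + w₀ ∈ T := by
        have h := P y hy w₀ hw₀T hne 1
        rw [one_smul] at h
        exact h
      have h2 : t - w₀ ∈ T := T1 _ (fun w hw => by
        rw [map_sub, LinearMap.sub_apply, ht w hw, hW w₀ hw₀ w hw, sub_zero])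
      have h3 : B (y + w₀) (t - w₀) ≠ 0 := by
        have e : B (y + w₀) (t - w₀) = - B y w₀ := by
          have h5 : B w₀ t = 0 := by rw [skew w₀ t, ht w₀ hw₀, neg_zero]
          have h6 : B w₀ w₀ = 0 := hB.self_eq_zero w₀
          simp only [map_add, map_sub, LinearMap.add_apply]
          linear_combination hyt + h5 - h6
        rw [e]
        exact neg_ne_zero.2 hne
      have h4 := P _ h1 _ h2 h3 1
      rw [one_smul] at h4
      have e2 : y + w₀ + (t - w₀) = y + t := by abel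
      rw [e2] at h4
      exact h4
    · have h := P y hy t htT hyt 1
      rw [one_smul] at h
      exact h
  obtain ⟨y₁, hy₁, w, hw, hc⟩ := T4
  have star : ∀ u, B w u = 0 → y₁ + u ∈ T := by
    have star0 : ∀ u, B w u = 0 → y₁ + B y₁ w • u ∈ T := by
      intro u hu
      have h1 := T3 y₁ hy₁ w hw u hu
      have h2 : B (y₁ + B y₁ w • u + B y₁ u • w) w ≠ 0 := by
        have e : B (y₁ + B y₁ w • u + B y₁ u • w) w = B y₁ w := by
          have h3 : B u w = 0 := by rw [skew u w, hu, neg_zero]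
          have h4 : B w w = 0 := hB.self_eq_zero w
          simp only [map_add, map_smul, LinearMap.add_apply, LinearMap.smul_apply, smul_eq_mul]
          linear_combination (B y₁ w) * h3 + (B y₁ u) * h4
        rw [e]
        exact hc
      have h5 := S1 _ h1 ⟨w, hw, h2⟩ (-(B y₁ u) • w) (fun w' hw' => by
        rw [map_smul, LinearMap.smul_apply, hW w hw w' hw', smul_zero])
      have e2 : y₁ + B y₁ w • u + B y₁ u • w + -(B y₁ u) • w = y₁ + B y₁ w • u := by
        rw [neg_smul]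
        abel
      rw [e2] at h5
      exact h5
    intro u hu
    have h := star0 ((B y₁ w)⁻¹ • u) (by rw [map_smul, smul_eq_mul, hu, mul_zero])
    rw [smul_smul, mul_inv_cancel₀ hc, one_smul] at h
    exact h
  have S2 : ∀ u, B w u = 0 → u ∈ T := by
    intro u hu
    by_cases hu' : ∀ w' ∈ W, B u w' = 0
    · exact T1 u hu'
    · obtain ⟨w', hw'⟩ := not_forall.1 hu'
      obtain ⟨hw'W, hne⟩ := Classical.not_imp.1 hw'
      have hs : ∃ s, B w s = 0 ∧ B u (y₁ + s) ≠ 0 := by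
        by_cases h0 : B u y₁ = 0
        · refine ⟨w', hW w hw w' hw'W, ?_⟩
          rw [map_add, h0, zero_add]
          exact hne
        · refine ⟨0, by rw [map_zero], ?_⟩
          rw [add_zero]
          exact h0
      obtain ⟨s, hs1, hs2⟩ := hs
      have h2 : y₁ + s ∈ T := star s hs1
      have h3 : y₁ + (s + u) ∈ T := star (s + u) (by rw [map_add, hs1, hu, add_zero])
      have h4 : B (y₁ + (s + u)) (y₁ + s) ≠ 0 := by
        have e : B (y₁ + (s + u)) (y₁ + s) = B u (y₁ + s) := by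
          have h6 : B (y₁ + s) (y₁ + s) = 0 := hB.self_eq_zero _
          have e1 : y₁ + (s + u) = (y₁ + s) + u := by abel
          rw [e1, LinearMap.map_add₂, h6, zero_add]
        rw [e]
        exact hs2
      have h5 := P _ h3 _ h2 h4 (-1)
      have e3 : y₁ + (s + u) + (-1 : F) • (y₁ + s) = u := by
        rw [neg_one_smul]
        abel
      rw [e3] at h5
      exact h5
  intro z
  by_cases hz : B w z = 0
  · exact S2 z hz
  · have hzw : B z w ≠ 0 := by
      rw [skew z w]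
      exact neg_ne_zero.2 hz
    obtain ⟨a, ha⟩ : ∃ a : F, a = B z w / B y₁ w := ⟨_, rfl⟩
    have ha0 : a ≠ 0 := by
      rw [ha]
      exact div_ne_zero hzw hc
    have hs : B w (a⁻¹ • (z - a • y₁)) = 0 := by
      have e : B w (z - a • y₁) = 0 := by
        have h7 : B z w / B y₁ w * B y₁ w = B z w := div_mul_cancel₀ _ hc
        rw [map_sub, map_smul, smul_eq_mul, skew w z, skew w y₁, ha]
        linear_combination h7
      rw [map_smul, e, smul_zero]
    have h1 := star _ hs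
    have h2 := T2a _ h1 a
    have e2 : a • (y₁ + a⁻¹ • (z - a • y₁)) = z := by
      rw [smul_add, smul_smul, mul_inv_cancel₀ ha0, one_smul]
      abel
    rw [e2] at h2
    exact h2

variable {F : Type*} [Field F] {m : ℕ}

theorem mem_spGL_iff (g : Matrix.GeneralLinearGroup (Fin m ⊕ Fin m) F) :
    g ∈ Cfsg.spGL m F ↔ ∀ u v : Fin m ⊕ Fin m → F,
      Cfsg.sympForm m F ((g : Matrix (Fin m ⊕ Fin m) (Fin m ⊕ Fin m) F) *ᵥ u)
        ((g : Matrix (Fin m ⊕ Fin m) (Fin m ⊕ Fin m) F) *ᵥ v) = Cfsg.sympForm m F u v :=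
  Iff.rfl

theorem sB_skew (a b : Fin m ⊕ Fin m → F) : S0766.sB m F a b = - S0766.sB m F b a :=
  ((S0766.sB_alt m F).neg_eq b a).symm

/-- The matrix of an element of `spGL` is symplectic in Mathlib's sense. -/
theorem val_mem_symplectic (g : Matrix.GeneralLinearGroup (Fin m ⊕ Fin m) F)
    (hg : g ∈ Cfsg.spGL m F) :
    (g : Matrix (Fin m ⊕ Fin m) (Fin m ⊕ Fin m) F) ∈ Matrix.symplecticGroup (Fin m) F := by
  rw [SymplecticGroup.mem_iff']
  have h2 : ∀ u v : Fin m ⊕ Fin m → F,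
      u ⬝ᵥ (((g : Matrix (Fin m ⊕ Fin m) (Fin m ⊕ Fin m) F).transpose * Matrix.J (Fin m) F *
        (g : Matrix (Fin m ⊕ Fin m) (Fin m ⊕ Fin m) F)) *ᵥ v) = u ⬝ᵥ (Matrix.J (Fin m) F *ᵥ v) := by
    intro u v
    have h1 := (mem_spGL_iff g).1 hg u v
    unfold Cfsg.sympForm at h1
    rw [← Matrix.vecMul_transpose, ← Matrix.dotProduct_mulVec, Matrix.mulVec_mulVec,
      Matrix.mulVec_mulVec] at h1
    exact h1
  ext i j
  have h3 := h2 (Pi.single i 1) (Pi.single j 1)
  rw [single_dotProduct, single_dotProduct, one_mul, one_mul, Matrix.mulVec_single_one,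
    Matrix.mulVec_single_one] at h3
  exact h3

/-- The symplectic transvection as an element of `GL`. -/
noncomputable def tv (m : ℕ) {F : Type*} [Field F] (w : Fin m ⊕ Fin m → F) (c : F) :
    Matrix.GeneralLinearGroup (Fin m ⊕ Fin m) F :=
  S0768.toGL m F ⟨Cfsg.sympTransvection m w c, S0764.result m w c⟩

theorem tv_val (w : Fin m ⊕ Fin m → F) (c : F) :
    ((tv m w c : Matrix.GeneralLinearGroup (Fin m ⊕ Fin m) F) :
      Matrix (Fin m ⊕ Fin m) (Fin m ⊕ Fin m) F) = Cfsg.sympTransvection m w c := rfl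

theorem tv_mem (w : Fin m ⊕ Fin m → F) (c : F) : tv m w c ∈ Cfsg.spGL m F :=
  S0768.toGL_mem m _

theorem tv_mulVec (w : Fin m ⊕ Fin m → F) (c : F) (v : Fin m ⊕ Fin m → F) :
    ((tv m w c : Matrix.GeneralLinearGroup (Fin m ⊕ Fin m) F) :
      Matrix (Fin m ⊕ Fin m) (Fin m ⊕ Fin m) F) *ᵥ v = v + (c * S0766.sB m F v w) • w := by
  rw [tv_val, S0766.transv_mulVec, S0766.sB_apply]

theorem conj_tv (h : Matrix.GeneralLinearGroup (Fin m ⊕ Fin m) F) (hh : h ∈ Cfsg.spGL m F)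
    (y : Fin m ⊕ Fin m → F) (c : F) :
    ((h⁻¹ : Matrix.GeneralLinearGroup (Fin m ⊕ Fin m) F) :
      Matrix (Fin m ⊕ Fin m) (Fin m ⊕ Fin m) F) *
      Cfsg.sympTransvection m ((h : Matrix (Fin m ⊕ Fin m) (Fin m ⊕ Fin m) F) *ᵥ y) c *
      (h : Matrix (Fin m ⊕ Fin m) (Fin m ⊕ Fin m) F) = Cfsg.sympTransvection m y c := by
  have key : (Matrix.J (Fin m) F *ᵥ ((h : Matrix (Fin m ⊕ Fin m) (Fin m ⊕ Fin m) F) *ᵥ y)) ᵥ*
      (h : Matrix (Fin m ⊕ Fin m) (Fin m ⊕ Fin m) F) = Matrix.J (Fin m) F *ᵥ y := by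
    funext i
    have h1 := (mem_spGL_iff h).1 hh (Pi.single i 1) y
    unfold Cfsg.sympForm at h1
    rw [single_dotProduct, one_mul] at h1
    rw [← h1, Matrix.mulVec_single_one, dotProduct_comm]
    rfl
  unfold Cfsg.sympTransvection
  rw [Matrix.mul_add, Matrix.mul_one, Matrix.add_mul, Units.inv_mul, Matrix.mul_smul,
    Matrix.smul_mul, Matrix.mul_vecMulVec, Parab.inv_mulVec_mulVec, Matrix.vecMulVec_mul, key]

theorem tv_conj (h : Matrix.GeneralLinearGroup (Fin m ⊕ Fin m) F) (hh : h ∈ Cfsg.spGL m F)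
    (y : Fin m ⊕ Fin m → F) (c : F) :
    tv m ((h : Matrix (Fin m ⊕ Fin m) (Fin m ⊕ Fin m) F) *ᵥ y) c = h * tv m y c * h⁻¹ := by
  have e : h⁻¹ * tv m ((h : Matrix (Fin m ⊕ Fin m) (Fin m ⊕ Fin m) F) *ᵥ y) c * h = tv m y c := by
    apply Units.ext
    rw [Units.val_mul, Units.val_mul, tv_val, tv_val]
    exact conj_tv h hh y c
  rw [← e]
  group

theorem tv_smul (a : F) (y : Fin m ⊕ Fin m → F) (c : F) :
    tv m (a • y) c = tv m y (c * a * a) := by
  apply Units.ext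
  rw [tv_val, tv_val]
  unfold Cfsg.sympTransvection
  rw [Matrix.mulVec_smul, Matrix.smul_vecMulVec, Matrix.vecMulVec_smul, smul_smul, smul_smul]

/-- The vectors all of whose transvections lie in `K`. -/
def TK (K : Subgroup (Matrix.GeneralLinearGroup (Fin m ⊕ Fin m) F)) :
    Set (Fin m ⊕ Fin m → F) :=
  {y | ∀ c : F, tv m y c ∈ K}

theorem mem_TK (K : Subgroup (Matrix.GeneralLinearGroup (Fin m ⊕ Fin m) F))
    (y : Fin m ⊕ Fin m → F) : y ∈ TK K ↔ ∀ c : F, tv m y c ∈ K := Iff.rfl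

theorem TK_smul_mem (K : Subgroup (Matrix.GeneralLinearGroup (Fin m ⊕ Fin m) F))
    (h : Matrix.GeneralLinearGroup (Fin m ⊕ Fin m) F) (hK : h ∈ K) (hh : h ∈ Cfsg.spGL m F)
    (y : Fin m ⊕ Fin m → F) (hy : y ∈ TK K) :
    (h : Matrix (Fin m ⊕ Fin m) (Fin m ⊕ Fin m) F) *ᵥ y ∈ TK K := by
  rw [mem_TK]
  intro c
  rw [tv_conj h hh]
  exact K.mul_mem (K.mul_mem hK (hy c)) (K.inv_mem hK)

theorem rho_mulVec (w u : Fin m ⊕ Fin m → F) (hwu : S0766.sB m F w u = 0)
    (x : Fin m ⊕ Fin m → F) :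
    ((tv m (w + u) 1 * tv m w (-1) * tv m u (-1) : Matrix.GeneralLinearGroup (Fin m ⊕ Fin m) F) :
      Matrix (Fin m ⊕ Fin m) (Fin m ⊕ Fin m) F) *ᵥ x
      = x + S0766.sB m F x w • u + S0766.sB m F x u • w := by
  have huw : S0766.sB m F u w = 0 := by rw [sB_skew, hwu, neg_zero]
  have hww : S0766.sB m F w w = 0 := (S0766.sB_alt m F).self_eq_zero w
  have huu : S0766.sB m F u u = 0 := (S0766.sB_alt m F).self_eq_zero u
  rw [Units.val_mul, Units.val_mul, ← Matrix.mulVec_mulVec, ← Matrix.mulVec_mulVec, tv_mulVec,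
    tv_mulVec, tv_mulVec]
  simp only [map_add, map_smul, LinearMap.add_apply, LinearMap.smul_apply, smul_eq_mul, huw, hwu,
    hww, huu, mul_zero, add_zero, one_mul]
  module

/-- Over a finite field, an element of `GL` mapping a set into itself stabilises it. -/
theorem stab_of_maps_finite [Finite F] {ι : Type} [Fintype ι] [DecidableEq ι] (S : Set (ι → F))
    (g : Matrix.GeneralLinearGroup ι F) (h : ∀ w ∈ S, (g : Matrix ι ι F) *ᵥ w ∈ S) :
    g ∈ Cfsg.stabilizing (Cfsg.glToMat ι F) S := by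
  rw [Parab.mem_stab_iff]
  intro v
  refine ⟨h v, fun hv => ?_⟩
  have hinj : Function.Injective
      (fun s : S => (⟨(g : Matrix ι ι F) *ᵥ s.1, h s.1 s.2⟩ : S)) := by
    intro a b hab
    exact Subtype.ext (Parab.gl_mulVec_inj g (congrArg Subtype.val hab))
  obtain ⟨s, hs⟩ := (Finite.injective_iff_surjective.1 hinj) ⟨_, hv⟩
  have h2 : (g : Matrix ι ι F) *ᵥ s.1 = (g : Matrix ι ι F) *ᵥ v := congrArg Subtype.val hs
  rw [← Parab.gl_mulVec_inj g h2]
  exact s.2

/-- **Key lemma**: a subgroup of `Sp` containing the stabiliser of a totally isotropic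
subspace `W` and an element not stabilising `W` is all of `Sp`. -/
theorem sp_le_of_stab [Finite F] (W : Submodule F (Fin m ⊕ Fin m → F))
    (hW : Cfsg.Geo.IsTotallySingularFor (Cfsg.sympForm m F) W)
    (K : Subgroup (Matrix.GeneralLinearGroup (Fin m ⊕ Fin m) F))
    (hK : Cfsg.stabilizing (Cfsg.glToMat (Fin m ⊕ Fin m) F) (W : Set (Fin m ⊕ Fin m → F)) ⊓
      Cfsg.spGL m F ≤ K)
    (hK2 : K ≤ Cfsg.spGL m F)
    (hex : ∃ g ∈ K, g ∉ Cfsg.stabilizing (Cfsg.glToMat (Fin m ⊕ Fin m) F)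
      (W : Set (Fin m ⊕ Fin m → F))) :
    Cfsg.spGL m F ≤ K := by
  have hW' : ∀ a ∈ W, ∀ b ∈ W, S0766.sB m F a b = 0 := by
    intro a ha b hb
    rw [S0766.sB_apply]
    exact hW a ha b hb
  have T1 : ∀ y, (∀ w ∈ W, S0766.sB m F y w = 0) → y ∈ TK K := by
    intro y hy
    rw [mem_TK]
    intro c
    apply hK
    refine Subgroup.mem_inf.2 ⟨?_, tv_mem y c⟩
    apply Parab.stab_of_fix
    intro w hw
    rw [tv_mulVec, sB_skew, hy w hw, neg_zero, mul_zero, zero_smul, add_zero]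
  have T2a : ∀ y ∈ TK K, ∀ a : F, a • y ∈ TK K := by
    intro y hy a
    rw [mem_TK]
    intro c
    rw [tv_smul]
    exact hy _
  have T2b : ∀ y ∈ TK K, ∀ t ∈ TK K, ∀ c : F, y + (c * S0766.sB m F y t) • t ∈ TK K := by
    intro y hy t ht c
    rw [← tv_mulVec t c y]
    exact TK_smul_mem K _ (ht c) (tv_mem t c) y hy
  have T3 : ∀ y ∈ TK K, ∀ w ∈ W, ∀ u, S0766.sB m F w u = 0 →
      y + S0766.sB m F y w • u + S0766.sB m F y u • w ∈ TK K := by
    intro y hy w hw u hwu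
    rw [← rho_mulVec w u hwu y]
    have hsp : tv m (w + u) 1 * tv m w (-1) * tv m u (-1) ∈ Cfsg.spGL m F :=
      Subgroup.mul_mem _ (Subgroup.mul_mem _ (tv_mem _ _) (tv_mem _ _)) (tv_mem _ _)
    refine TK_smul_mem K _ (hK (Subgroup.mem_inf.2 ⟨?_, hsp⟩)) hsp y hy
    apply stab_of_maps_finite
    intro x hx
    rw [rho_mulVec w u hwu x, hW' x hx w hw, zero_smul, add_zero]
    exact W.add_mem hx (W.smul_mem _ hw)
  have T4 : ∃ y₁ ∈ TK K, ∃ w ∈ W, S0766.sB m F y₁ w ≠ 0 := by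
    by_contra hcon
    have hcon' : ∀ y ∈ TK K, ∀ w ∈ W, S0766.sB m F y w = 0 := by
      intro y hy w hw
      by_contra hne
      exact hcon ⟨y, hy, w, hw, hne⟩
    have hperp : ∀ g ∈ K, ∀ x, (∀ w ∈ W, S0766.sB m F x w = 0) → ∀ w ∈ W,
        S0766.sB m F ((g : Matrix (Fin m ⊕ Fin m) (Fin m ⊕ Fin m) F) *ᵥ x) w = 0 := by
      intro g hg x hx
      exact hcon' _ (TK_smul_mem K g hg (hK2 hg) x (T1 x hx))
    have hmaps : ∀ g ∈ K, ∀ w ∈ W,
        (g : Matrix (Fin m ⊕ Fin m) (Fin m ⊕ Fin m) F) *ᵥ w ∈ W := by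
      intro g hg w hw
      by_contra hgw
      obtain ⟨ψ, hψW, hψ⟩ := Parab.exists_row W hgw
      obtain ⟨z, hz⟩ := S2585.symp_repr ψ
      have hzW : ∀ w' ∈ W, S0766.sB m F z w' = 0 := by
        intro w' hw'
        rw [sB_skew, S0766.sB_apply, hz, dotProduct_comm, hψW w' hw', neg_zero]
      have h1 := hperp g⁻¹ (K.inv_mem hg) z hzW w hw
      have h2 : S0766.sB m F ((g : Matrix (Fin m ⊕ Fin m) (Fin m ⊕ Fin m) F) *ᵥ w) z
          = S0766.sB m F w (((g⁻¹ : Matrix.GeneralLinearGroup (Fin m ⊕ Fin m) F) :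
            Matrix (Fin m ⊕ Fin m) (Fin m ⊕ Fin m) F) *ᵥ z) := by
        have h3 := (mem_spGL_iff g).1 (hK2 hg) w
          (((g⁻¹ : Matrix.GeneralLinearGroup (Fin m ⊕ Fin m) F) :
            Matrix (Fin m ⊕ Fin m) (Fin m ⊕ Fin m) F) *ᵥ z)
        rw [Parab.mulVec_inv_mulVec] at h3
        rw [S0766.sB_apply, S0766.sB_apply]
        exact h3
      apply hψ
      rw [dotProduct_comm, ← hz, ← S0766.sB_apply, h2, sB_skew, h1, neg_zero]
    obtain ⟨h, hhK, hh⟩ := hex
    exact hh (Parab.stab_of_maps _ h (hmaps h hhK) (hmaps h⁻¹ (K.inv_mem hhK)))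
  have hall := T_univ (S0766.sB m F) (S0766.sB_alt m F) W hW' (TK K) T1 T2a T2b T3 T4
  have htop : K.comap (S0768.toGL m F) = ⊤ := by
    rw [eq_top_iff, ← S0765.result m, Subgroup.closure_le]
    rintro A ⟨w, c, hA⟩
    have e : S0768.toGL m F A = tv m w c := by
      apply Units.ext
      rw [S0768.toGL_coe, tv_val, hA]
    show S0768.toGL m F A ∈ K
    rw [e]
    exact hall w c
  intro g hg
  have h1 : ∀ A : Matrix.symplecticGroup (Fin m) F, S0768.toGL m F A ∈ K := by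
    intro A
    have h3 : A ∈ K.comap (S0768.toGL m F) := by
      rw [htop]
      exact Subgroup.mem_top _
    exact h3
  have h2 : S0768.toGL m F ⟨(g : Matrix (Fin m ⊕ Fin m) (Fin m ⊕ Fin m) F),
      val_mem_symplectic g hg⟩ = g := Units.ext rfl
  rw [← h2]
  exact h1 _

/-- Some element of `Sp` does not stabilise a non-zero totally isotropic subspace. -/
theorem exists_sp_not_stab (W : Submodule F (Fin m ⊕ Fin m → F)) (hW0 : W ≠ ⊥)
    (hW : Cfsg.Geo.IsTotallySingularFor (Cfsg.sympForm m F) W) :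
    ∃ g ∈ Cfsg.spGL m F, g ∉ Cfsg.stabilizing (Cfsg.glToMat (Fin m ⊕ Fin m) F)
      (W : Set (Fin m ⊕ Fin m → F)) := by
  obtain ⟨x, hxW, hx0⟩ := Submodule.exists_mem_ne_zero_of_ne_bot hW0
  have hz : ∃ z, S0766.sB m F x z ≠ 0 := by
    by_contra hcon
    apply hx0
    apply (S0766.sB_nondeg m F).1 x
    intro y
    by_contra hne
    exact hcon ⟨y, hne⟩
  obtain ⟨z, hz⟩ := hz
  have hzW : z ∉ W := by
    intro hzW
    apply hz
    rw [S0766.sB_apply]
    exact hW x hxW z hzW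
  refine ⟨tv m z 1, tv_mem z 1, ?_⟩
  intro hg
  have h1 := ((Parab.mem_stab_iff _ _).1 hg x).1 hxW
  rw [tv_mulVec, one_mul] at h1
  have h2 := W.sub_mem h1 hxW
  rw [add_sub_cancel_left] at h2
  exact hzW ((Submodule.smul_mem_iff W hz).1 h2)

end SpParab

end Cfsg.Agent.Helper2
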