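import Mathlib
import Cfsg.Prelude.Def_GeometricClasses
import Cfsg.Agent.Helper2.SpParab

/-!
# Stabilisers of non-degenerate subspaces of dimension `< m` are maximal in `Sp_2m(F)`
-/

set_option autoImplicit false

namespace Cfsg.Agent.Helper2

namespace SpParab

open Matrix

/-- Moving the `A`-component of a vector of `T` by transvections in `A`. -/
theorem T_move {F V : Type*} [Field F] [AddCommGroup V] [Module F V]
    (B : LinearMap.BilinForm F V) (hB : B.IsAlt) (A A' : Submodule F V)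
    (h0 : ∀ a ∈ A, ∀ a' ∈ A', B a a' = 0)
    (h2 : ∀ a ∈ A, a ≠ 0 → ∃ w ∈ A, B a w ≠ 0)
    (T : Set V) (hA : ∀ a ∈ A, a ∈ T)
    (T2b : ∀ y ∈ T, ∀ t ∈ T, ∀ c : F, y + (c * B y t) • t ∈ T) :
    ∀ a ∈ A, ∀ a' ∈ A', a ≠ 0 → a + a' ∈ T → ∀ b ∈ A, b ≠ 0 → b + a' ∈ T := by
  have skew : ∀ a b : V, B a b = - B b a := fun a b => (hB.neg_eq b a).symm
  have E0 : ∀ a ∈ A, ∀ a' ∈ A', a + a' ∈ T → ∀ b ∈ A, B a b ≠ 0 → b + a' ∈ T := by
    intro a ha a' ha' hy b hb hab
    have ht : b - a ∈ T := hA _ (A.sub_mem hb ha)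
    have e : B (a + a') (b - a) = B a b := by
      have e1 : B a' b = 0 := by rw [skew a' b, h0 b hb a' ha', neg_zero]
      have e2 : B a' a = 0 := by rw [skew a' a, h0 a ha a' ha', neg_zero]
      have e3 : B a a = 0 := hB.self_eq_zero a
      simp only [map_add, map_sub, LinearMap.add_apply]
      linear_combination e1 - e2 - e3
    have h := T2b _ hy _ ht (1 / B a b)
    rw [e, one_div, inv_mul_cancel₀ hab, one_smul] at h
    have e4 : a + a' + (b - a) = b + a' := by abel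
    rw [e4] at h
    exact h
  intro a ha a' ha' ha0 hy b hb hb0
  by_cases hab : B a b = 0
  · obtain ⟨w₁, hw₁, h1⟩ := h2 a ha ha0
    obtain ⟨w₂, hw₂, h2b⟩ := h2 b hb hb0
    have hw : ∃ w ∈ A, B a w ≠ 0 ∧ B b w ≠ 0 := by
      by_cases h3 : B b w₁ = 0
      · by_cases h4 : B a w₂ = 0
        · refine ⟨w₁ + w₂, A.add_mem hw₁ hw₂, ?_, ?_⟩
          · rw [map_add, h4, add_zero]
            exact h1
          · rw [map_add, h3, zero_add]
            exact h2b
        · exact ⟨w₂, hw₂, h4, h2b⟩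
      · exact ⟨w₁, hw₁, h1, h3⟩
    obtain ⟨w, hw, hw1, hw2⟩ := hw
    have h5 := E0 a ha a' ha' hy w hw hw1
    have h6 : B w b ≠ 0 := by
      rw [skew w b]
      exact neg_ne_zero.2 hw2
    exact E0 w hw a' ha' h5 b hb h6
  · exact E0 a ha a' ha' hy b hb hab

/-- Abstract closure lemma for an orthogonal decomposition `V = A ⊕ A'` with both summands
non-degenerate: a set `T ⊇ A ∪ A'` closed under the transvections of its own members and
containing a vector outside `A ∪ A'` is everything. -/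
theorem T_univ2 {F V : Type*} [Field F] [AddCommGroup V] [Module F V]
    (B : LinearMap.BilinForm F V) (hB : B.IsAlt) (A A' : Submodule F V)
    (h0 : ∀ a ∈ A, ∀ a' ∈ A', B a a' = 0)
    (h1 : ∀ v, ∃ a ∈ A, ∃ a' ∈ A', v = a + a')
    (h2 : ∀ a ∈ A, a ≠ 0 → ∃ w ∈ A, B a w ≠ 0)
    (h2' : ∀ a ∈ A', a ≠ 0 → ∃ w ∈ A', B a w ≠ 0)
    (T : Set V) (hA : ∀ a ∈ A, a ∈ T) (hA' : ∀ a ∈ A', a ∈ T)
    (T2b : ∀ y ∈ T, ∀ t ∈ T, ∀ c : F, y + (c * B y t) • t ∈ T)
    (hC : ∃ y ∈ T, y ∉ A ∧ y ∉ A') : ∀ z, z ∈ T := by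
  have skew : ∀ a b : V, B a b = - B b a := fun a b => (hB.neg_eq b a).symm
  have h0' : ∀ a' ∈ A', ∀ a ∈ A, B a' a = 0 := by
    intro a' ha' a ha
    rw [skew a' a, h0 a ha a' ha', neg_zero]
  have M1 := T_move B hB A A' h0 h2 T hA T2b
  have M2 := T_move B hB A' A h0' h2' T hA' T2b
  obtain ⟨y, hyT, hyA, hyA'⟩ := hC
  obtain ⟨a₀, ha₀, a₀', ha₀', rfl⟩ := h1 y
  have ha₀0 : a₀ ≠ 0 := by
    intro h
    apply hyA'
    rw [h, zero_add]
    exact ha₀'
  have ha₀'0 : a₀' ≠ 0 := by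
    intro h
    apply hyA
    rw [h, add_zero]
    exact ha₀
  intro z
  obtain ⟨b, hb, b', hb', rfl⟩ := h1 z
  by_cases hb0 : b = 0
  · rw [hb0, zero_add]
    exact hA' b' hb'
  · by_cases hb'0 : b' = 0
    · rw [hb'0, add_zero]
      exact hA b hb
    · have h3 : b + a₀' ∈ T := M1 a₀ ha₀ a₀' ha₀' ha₀0 hyT b hb hb0
      have h4 : a₀' + b ∈ T := by
        rw [add_comm]
        exact h3
      have h5 := M2 a₀' ha₀' b hb ha₀'0 h4 b' hb' hb'0
      rw [add_comm]
      exact h5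

variable {F : Type*} [Field F] {m : ℕ}

/-- If the transvections of all vectors lie in `K` then `K` contains `Sp`. -/
theorem sp_le_of_TK (K : Subgroup (Matrix.GeneralLinearGroup (Fin m ⊕ Fin m) F))
    (hall : ∀ z, z ∈ TK K) : Cfsg.spGL m F ≤ K := by
  have htop : K.comap (S0768.toGL m F) = ⊤ := by
    rw [eq_top_iff, ← S0765.result m, Subgroup.closure_le]
    rintro A ⟨w, c, hA⟩
    have e : S0768.toGL m F A = tv m w c := by
      apply Units.ext
      rw [S0768.toGL_coe, tv_val, hA]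
    show S0768.toGL m F A ∈ K
    rw [e]
    exact hall w c
  intro g hg
  have h1 : ∀ A : Matrix.symplecticGroup (Fin m) F, S0768.toGL m F A ∈ K := by
    intro A
    have h3 : A ∈ K.comap (S0768.toGL m F) := by
      rw [htop]
      exact Subgroup.mem_top _
    exact h3
  have h2 : S0768.toGL m F ⟨(g : Matrix (Fin m ⊕ Fin m) (Fin m ⊕ Fin m) F),
      val_mem_symplectic g hg⟩ = g := Units.ext rfl
  rw [← h2]
  exact h1 _

theorem TK_transv (K : Subgroup (Matrix.GeneralLinearGroup (Fin m ⊕ Fin m) F)) :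
    ∀ y ∈ TK K, ∀ t ∈ TK K, ∀ c : F, y + (c * S0766.sB m F y t) • t ∈ TK K := by
  intro y hy t ht c
  rw [← tv_mulVec t c y]
  exact TK_smul_mem K _ (ht c) (tv_mem t c) y hy

theorem finrank_space : Module.finrank F (Fin m ⊕ Fin m → F) = m + m := by
  rw [Module.finrank_fintype_fun_eq_card, Fintype.card_sum, Fintype.card_fin]

/-- **Key lemma**: a subgroup of `Sp` containing the stabiliser of a non-degenerate subspace
`W` of dimension `< m` and an element not stabilising `W` is all of `Sp`. -/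
theorem sp_le_of_stab_nondeg [Finite F] (W : Submodule F (Fin m ⊕ Fin m → F))
    (hW : Cfsg.Geo.IsNondegenerateOn (Cfsg.sympForm m F) W)
    (hdim : Module.finrank F W < m)
    (K : Subgroup (Matrix.GeneralLinearGroup (Fin m ⊕ Fin m) F))
    (hK : Cfsg.stabilizing (Cfsg.glToMat (Fin m ⊕ Fin m) F) (W : Set (Fin m ⊕ Fin m → F)) ⊓
      Cfsg.spGL m F ≤ K)
    (hK2 : K ≤ Cfsg.spGL m F)
    (hex : ∃ g ∈ K, g ∉ Cfsg.stabilizing (Cfsg.glToMat (Fin m ⊕ Fin m) F)
      (W : Set (Fin m ⊕ Fin m → F))) :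
    Cfsg.spGL m F ≤ K := by
  have hrefl : (S0766.sB m F).IsRefl := (S0766.sB_alt m F).isRefl
  have hnd := S0766.sB_nondeg m F
  have hres : ((S0766.sB m F).restrict W).Nondegenerate := by
    refine ⟨?_, ?_⟩
    · intro x hx
      by_contra hx0
      have hx0' : (x : Fin m ⊕ Fin m → F) ≠ 0 := fun h => hx0 (Subtype.ext h)
      obtain ⟨-, y, hyW, hy⟩ := hW x.1 x.2 hx0'
      apply hy
      have h3 : S0766.sB m F x.1 y = 0 := hx ⟨y, hyW⟩
      rw [← S0766.sB_apply]
      exact h3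
    · intro y hy
      by_contra hy0
      have hy0' : (y : Fin m ⊕ Fin m → F) ≠ 0 := fun h => hy0 (Subtype.ext h)
      obtain ⟨⟨x, hxW, hx⟩, -⟩ := hW y.1 y.2 hy0'
      apply hx
      have h3 : S0766.sB m F x y.1 = 0 := hy ⟨x, hxW⟩
      rw [← S0766.sB_apply]
      exact h3
  have hcompl := LinearMap.BilinForm.isCompl_orthogonal_of_restrict_nondegenerate hrefl hres
  have h0 : ∀ a ∈ W, ∀ a' ∈ (S0766.sB m F).orthogonal W, S0766.sB m F a a' = 0 :=
    fun a ha a' ha' => LinearMap.BilinForm.mem_orthogonal_iff.1 ha' a ha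
  have h1 : ∀ v, ∃ a ∈ W, ∃ a' ∈ (S0766.sB m F).orthogonal W, v = a + a' := by
    intro v
    have hv : v ∈ W ⊔ (S0766.sB m F).orthogonal W := by
      rw [hcompl.sup_eq_top]
      exact Submodule.mem_top
    obtain ⟨a, ha, a', ha', e⟩ := Submodule.mem_sup.1 hv
    exact ⟨a, ha, a', ha', e.symm⟩
  have h2 : ∀ a ∈ W, a ≠ 0 → ∃ w ∈ W, S0766.sB m F a w ≠ 0 := by
    intro a ha ha0
    obtain ⟨-, y, hyW, hy⟩ := hW a ha ha0
    exact ⟨y, hyW, by rw [S0766.sB_apply]; exact hy⟩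
  have h2' : ∀ a ∈ (S0766.sB m F).orthogonal W, a ≠ 0 →
      ∃ w ∈ (S0766.sB m F).orthogonal W, S0766.sB m F a w ≠ 0 := by
    intro a ha ha0
    by_contra hcon
    apply ha0
    apply hnd.1 a
    intro v
    obtain ⟨b, hb, b', hb', rfl⟩ := h1 v
    rw [map_add, sB_skew a b, LinearMap.BilinForm.mem_orthogonal_iff.1 ha b hb, neg_zero, zero_add]
    by_contra hne
    exact hcon ⟨b', hb', hne⟩
  have hA : ∀ a ∈ W, a ∈ TK K := by
    intro a ha
    rw [mem_TK]
    intro c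
    apply hK
    refine Subgroup.mem_inf.2 ⟨?_, tv_mem a c⟩
    apply stab_of_maps_finite
    intro x hx
    rw [tv_mulVec]
    exact W.add_mem hx (W.smul_mem _ ha)
  have hA' : ∀ a ∈ (S0766.sB m F).orthogonal W, a ∈ TK K := by
    intro a ha
    rw [mem_TK]
    intro c
    apply hK
    refine Subgroup.mem_inf.2 ⟨?_, tv_mem a c⟩
    apply Parab.stab_of_fix
    intro w hw
    rw [tv_mulVec, LinearMap.BilinForm.mem_orthogonal_iff.1 ha w hw, mul_zero, zero_smul, add_zero]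
  have hC : ∃ y ∈ TK K, y ∉ W ∧ y ∉ (S0766.sB m F).orthogonal W := by
    by_contra hcon
    have hcon' : ∀ y ∈ TK K, y ∈ W ∨ y ∈ (S0766.sB m F).orthogonal W := by
      intro y hy
      by_contra hne
      rw [not_or] at hne
      exact hcon ⟨y, hy, hne.1, hne.2⟩
    have hperp : ∀ h ∈ K, ∀ z ∈ (S0766.sB m F).orthogonal W,
        (h : Matrix (Fin m ⊕ Fin m) (Fin m ⊕ Fin m) F) *ᵥ z ∈ (S0766.sB m F).orthogonal W := by
      intro h hh
      by_contra hbad
      obtain ⟨z₁, hbad1⟩ := not_forall.1 hbad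
      obtain ⟨hz₁, hz₁'⟩ := Classical.not_imp.1 hbad1
      have hall : ∀ z ∈ (S0766.sB m F).orthogonal W,
          (Matrix.toLin' (h : Matrix (Fin m ⊕ Fin m) (Fin m ⊕ Fin m) F)) z ∈ W := by
        intro z hz
        rw [Matrix.toLin'_apply]
        have hz1W : (h : Matrix (Fin m ⊕ Fin m) (Fin m ⊕ Fin m) F) *ᵥ z₁ ∈ W :=
          (hcon' _ (TK_smul_mem K h hh (hK2 hh) z₁ (hA' z₁ hz₁))).resolve_right hz₁'
        rcases hcon' _ (TK_smul_mem K h hh (hK2 hh) z (hA' z hz)) with h3 | h3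
        · exact h3
        · rcases hcon' _ (TK_smul_mem K h hh (hK2 hh) (z + z₁)
            (hA' _ (Submodule.add_mem _ hz hz₁))) with h4 | h4
          · rw [Matrix.mulVec_add] at h4
            have h5 := W.sub_mem h4 hz1W
            rw [add_sub_cancel_right] at h5
            exact h5
          · rw [Matrix.mulVec_add] at h4
            have h5 := Submodule.sub_mem _ h4 h3
            rw [add_sub_cancel_left] at h5
            exact absurd h5 hz₁'
      have hinj : Function.Injective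
          ((Matrix.toLin' (h : Matrix (Fin m ⊕ Fin m) (Fin m ⊕ Fin m) F)).restrict hall) := by
        intro a b hab
        apply Subtype.ext
        have h5 : (Matrix.toLin' (h : Matrix (Fin m ⊕ Fin m) (Fin m ⊕ Fin m) F)) a.1
            = (Matrix.toLin' (h : Matrix (Fin m ⊕ Fin m) (Fin m ⊕ Fin m) F)) b.1 :=
          congrArg Subtype.val hab
        rw [Matrix.toLin'_apply, Matrix.toLin'_apply] at h5
        exact Parab.gl_mulVec_inj h h5
      have h6 := LinearMap.finrank_le_finrank_of_injective hinj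
      have h7 := LinearMap.BilinForm.finrank_orthogonal hnd W
      have h8 := finrank_space (F := F) (m := m)
      omega
    obtain ⟨g, hgK, hg⟩ := hex
    have hW_of : ∀ h ∈ K, ∀ w ∈ W,
        (h : Matrix (Fin m ⊕ Fin m) (Fin m ⊕ Fin m) F) *ᵥ w ∈ W := by
      intro h hh w hw
      suffices hsuff : (h : Matrix (Fin m ⊕ Fin m) (Fin m ⊕ Fin m) F) *ᵥ w ∈
          (S0766.sB m F).orthogonal ((S0766.sB m F).orthogonal W) by
        rw [LinearMap.BilinForm.orthogonal_orthogonal hnd hrefl W] at hsuff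
        exact hsuff
      rw [LinearMap.BilinForm.mem_orthogonal_iff]
      intro z hz
      have h3 := LinearMap.BilinForm.mem_orthogonal_iff.1
        (hperp h⁻¹ (K.inv_mem hh) z hz) w hw
      have h4 := (mem_spGL_iff h).1 (hK2 hh)
        (((h⁻¹ : Matrix.GeneralLinearGroup (Fin m ⊕ Fin m) F) :
          Matrix (Fin m ⊕ Fin m) (Fin m ⊕ Fin m) F) *ᵥ z) w
      rw [Parab.mulVec_inv_mulVec] at h4
      rw [S0766.sB_apply, h4, ← S0766.sB_apply, sB_skew, h3, neg_zero]
    exact hg (Parab.stab_of_maps _ g (hW_of g hgK) (hW_of g⁻¹ (K.inv_mem hgK)))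
  have hall := T_univ2 (S0766.sB m F) (S0766.sB_alt m F) W _ h0 h1 h2 h2' (TK K) hA hA'
    (TK_transv K) hC
  exact sp_le_of_TK K hall

/-- Some element of `Sp` does not stabilise a proper non-zero subspace. -/
theorem exists_sp_not_stab2 (W : Submodule F (Fin m ⊕ Fin m → F)) (hW0 : W ≠ ⊥) (hW1 : W ≠ ⊤) :
    ∃ g ∈ Cfsg.spGL m F, g ∉ Cfsg.stabilizing (Cfsg.glToMat (Fin m ⊕ Fin m) F)
      (W : Set (Fin m ⊕ Fin m → F)) := by
  obtain ⟨x, hxW, hx0⟩ := Submodule.exists_mem_ne_zero_of_ne_bot hW0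
  have hz : ∃ z, S0766.sB m F x z ≠ 0 := by
    by_contra hcon
    apply hx0
    apply (S0766.sB_nondeg m F).1 x
    intro y
    by_contra hne
    exact hcon ⟨y, hne⟩
  obtain ⟨z₀, hz₀⟩ := hz
  have hv : ∃ v, v ∉ W := by
    by_contra hcon
    exact hW1 (Submodule.eq_top_iff'.2 (fun y => by_contra (fun hy => hcon ⟨y, hy⟩)))
  obtain ⟨v, hvW⟩ := hv
  have hz' : ∃ z, z ∉ W ∧ S0766.sB m F x z ≠ 0 := by
    by_cases hz₀W : z₀ ∈ W
    · by_cases hxv : S0766.sB m F x v = 0
      · refine ⟨z₀ + v, ?_, ?_⟩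
        · intro h
          apply hvW
          have h5 := W.sub_mem h hz₀W
          rw [add_sub_cancel_left] at h5
          exact h5
        · rw [map_add, hxv, add_zero]
          exact hz₀
      · exact ⟨v, hvW, hxv⟩
    · exact ⟨z₀, hz₀W, hz₀⟩
  obtain ⟨z, hzW, hz⟩ := hz'
  refine ⟨tv m z 1, tv_mem z 1, ?_⟩
  intro hg
  have h1 := ((Parab.mem_stab_iff _ _).1 hg x).1 hxW
  rw [tv_mulVec, one_mul] at h1
  have h2 := W.sub_mem h1 hxW
  rw [add_sub_cancel_left] at h2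
  exact hzW ((Submodule.smul_mem_iff W hz).1 h2)

end SpParab

end Cfsg.Agent.Helper2
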