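import Mathlib
import Cfsg.Agent.Helper2.SpParab2

/-!
# Orthogonal decompositions for alternating forms: abstract core

* `core`: the "transvection closure" argument for a decomposition into pairwise orthogonal
  non-degenerate subspaces.
* `darboux`: hyperbolic bases of non-degenerate subspaces.
* `swap_abs`: an isometry interchanging two blocks of an orthogonal decomposition and fixing
  the others pointwise.
-/

set_option autoImplicit false

namespace Cfsg.Agent.Helper2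

namespace SpDecomp

variable {F V : Type*} [Field F] [AddCommGroup V] [Module F V]

theorem move (B : LinearMap.BilinForm F V) (hB : B.IsAlt) (A : Submodule F V)
    (h2 : ∀ a ∈ A, a ≠ 0 → ∃ w ∈ A, B a w ≠ 0) (T : Set V) (hA : ∀ a ∈ A, a ∈ T)
    (T2b : ∀ y ∈ T, ∀ t ∈ T, ∀ c : F, y + (c * B y t) • t ∈ T)
    (a : V) (ha : a ∈ A) (ha0 : a ≠ 0) (r : V) (hr : ∀ x ∈ A, B x r = 0) (h : a + r ∈ T)
    (b : V) (hb : b ∈ A) (hb0 : b ≠ 0) : b + r ∈ T :=
  SpParab.T_move B hB A (B.orthogonal A)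
    (fun x hx r' hr' => (LinearMap.BilinForm.mem_orthogonal_iff.1 hr') x hx) h2 T hA T2b a ha r
    (LinearMap.BilinForm.mem_orthogonal_iff.2 hr) ha0 h b hb hb0

theorem ex_one (B : LinearMap.BilinForm F V) (A : Submodule F V)
    (h2 : ∀ a ∈ A, a ≠ 0 → ∃ w ∈ A, B a w ≠ 0) (a : V) (ha : a ∈ A) (ha0 : a ≠ 0) :
    ∃ w ∈ A, B a w = 1 := by
  obtain ⟨w, hw, hne⟩ := h2 a ha ha0
  refine ⟨(B a w)⁻¹ • w, A.smul_mem _ hw, ?_⟩
  rw [map_smul, smul_eq_mul, inv_mul_cancel₀ hne]

/-- Two blocks are related when `T` contains a vector with non-zero components exactly in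
these two blocks. -/
def Rel {t : ℕ} (D : Fin t → Submodule F V) (T : Set V) (a b : Fin t) : Prop :=
  ∃ x ∈ D a, ∃ x' ∈ D b, x ≠ 0 ∧ x' ≠ 0 ∧ x + x' ∈ T

theorem core (B : LinearMap.BilinForm F V) (hB : B.IsAlt) {t : ℕ} (D : Fin t → Submodule F V)
    (hnd : ∀ i, ∀ a ∈ D i, a ≠ 0 → ∃ w ∈ D i, B a w ≠ 0)
    (horth : ∀ i j, i ≠ j → ∀ a ∈ D i, ∀ b ∈ D j, B a b = 0)
    (hspan : ∀ v : V, ∃ μ : Fin t → V, (∀ i, μ i ∈ D i) ∧ v = ∑ i, μ i)
    (hbig : ∀ i, ∀ a ∈ D i, a ≠ 0 → ∃ b ∈ D i, b ≠ 0 ∧ a + b ≠ 0 ∧ 1 + B a b ≠ 0)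
    (T : Set V) (hD : ∀ i, ∀ a ∈ D i, a ∈ T)
    (T2a : ∀ y ∈ T, ∀ a : F, a • y ∈ T)
    (T2b : ∀ y ∈ T, ∀ t ∈ T, ∀ c : F, y + (c * B y t) • t ∈ T)
    (hswap : ∀ a b c : Fin t, a ≠ b → a ≠ c → b ≠ c → ∃ h : V → V, (∀ y ∈ T, h y ∈ T) ∧
      (∀ x ∈ D a, h x ∈ D a) ∧ (∀ x ∈ D b, h x ∈ D c) ∧ (∀ x y, h (x + y) = h x + h y) ∧
      (∀ x, h x = 0 → x = 0))
    (i₀ : Fin t) (hC : ∃ y ∈ T, ∀ i, y ∉ D i) : ∀ z, z ∈ T := by
  classical
  have skew : ∀ a b : V, B a b = - B b a := fun a b => (hB.neg_eq b a).symm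
  have mv := fun (i : Fin t) => move B hB (D i) (hnd i) T (hD i) T2b
  have one := fun (i : Fin t) => ex_one B (D i) (hnd i)
  -- P
  have P : ∀ a b : Fin t, a ≠ b → ∀ x ∈ D a, x ≠ 0 → ∀ x' ∈ D b, x' ≠ 0 → ∀ r : V,
      (∀ d ∈ D a, B d r = 0) → (∀ d ∈ D b, B d r = 0) → x + x' + r ∈ T → Rel D T a b := by
    intro a b hab x hx hx0 x' hx' hx'0 r hra hrb hy
    obtain ⟨x₁, hx₁, hxx₁⟩ := one a x hx hx0
    obtain ⟨x₂, hx₂, hx₂0, hxx₂, hβ⟩ := hbig b x' hx' hx'0
    have hx₁0 : x₁ ≠ 0 := by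
      intro h
      rw [h, map_zero] at hxx₁
      exact zero_ne_one hxx₁
    have h1 : (-1 : F) • (x + x' + r) ∈ T := T2a _ hy (-1)
    have e1 : (-1 : F) • (x + x' + r) = -x + (-x' - r) := by
      rw [neg_one_smul]
      abel
    rw [e1] at h1
    have h2 : x₁ + (-x' - r) ∈ T := by
      refine mv a (-x) ((D a).neg_mem hx) (neg_ne_zero.2 hx0) (-x' - r) ?_ h1 x₁ hx₁ hx₁0
      intro d hd
      rw [map_sub, map_neg, horth a b hab d hd x' hx', hra d hd, neg_zero, sub_zero]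
    have e2 : x₁ + (-x' - r) = -x' + (x₁ - r) := by abel
    rw [e2] at h2
    have h3 : x₂ + (x₁ - r) ∈ T := by
      refine mv b (-x') ((D b).neg_mem hx') (neg_ne_zero.2 hx'0) (x₁ - r) ?_ h2 x₂ hx₂ hx₂0
      intro d hd
      rw [map_sub, horth b a hab.symm d hd x₁ hx₁, hrb d hd, sub_zero]
    have f1 : B x x₂ = 0 := horth a b hab x hx x₂ hx₂
    have f2 : B x r = 0 := hra x hx
    have f3 : B x' x₁ = 0 := horth b a hab.symm x' hx' x₁ hx₁
    have f4 : B x' r = 0 := hrb x' hx'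
    have f5 : B r x₂ = 0 := by rw [skew, hrb x₂ hx₂, neg_zero]
    have f6 : B r x₁ = 0 := by rw [skew, hra x₁ hx₁, neg_zero]
    have f7 : B r r = 0 := hB r
    have hval : B (x + x' + r) (x₂ + (x₁ - r)) = 1 + B x' x₂ := by
      simp only [map_add, map_sub, LinearMap.add_apply]
      linear_combination f1 - f2 + f3 - f4 + f5 + f6 - f7 + hxx₁
    have h4 := T2b _ hy _ h3 (1 + B x' x₂)⁻¹
    rw [hval, inv_mul_cancel₀ hβ, one_smul] at h4
    have e3 : x + x' + r + (x₂ + (x₁ - r)) = (x + x₁) + (x' + x₂) := by abel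
    rw [e3] at h4
    refine ⟨x + x₁, (D a).add_mem hx hx₁, x' + x₂, (D b).add_mem hx' hx₂, ?_, hxx₂, h4⟩
    intro h
    have h5 : B x (x + x₁) = 1 := by rw [map_add, hB x, zero_add, hxx₁]
    rw [h, map_zero] at h5
    exact zero_ne_one h5
  have rsymm : ∀ a b, Rel D T a b → Rel D T b a := by
    rintro a b ⟨x, hx, x', hx', h0, h0', hT⟩
    exact ⟨x', hx', x, hx, h0', h0, by rw [add_comm]; exact hT⟩
  have rtrans : ∀ a b c : Fin t, a ≠ b → b ≠ c → a ≠ c → Rel D T a b → Rel D T b c →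
      Rel D T a c := by
    rintro a b c hab hbc hac ⟨ya, hya, yb, hyb, hya0, hyb0, hy⟩ ⟨zb, hzb, zc, hzc, hzb0, hzc0, hz⟩
    obtain ⟨w, hw, hyw⟩ := one b yb hyb hyb0
    have hw0 : w ≠ 0 := by
      intro h
      rw [h, map_zero] at hyw
      exact zero_ne_one hyw
    have h1 : w + zc ∈ T := by
      refine mv b zb hzb hzb0 zc ?_ hz w hw hw0
      intro d hd
      exact horth b c hbc d hd zc hzc
    have hval : B (ya + yb) (w + zc) = 1 := by
      simp only [map_add, LinearMap.add_apply]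
      linear_combination horth a b hab ya hya w hw + horth a c hac ya hya zc hzc + hyw +
        horth b c hbc yb hyb zc hzc
    have h2 := T2b _ hy _ h1 1
    rw [hval, mul_one, one_smul] at h2
    have e : ya + yb + (w + zc) = ya + zc + (yb + w) := by abel
    rw [e] at h2
    refine P a c hac ya hya hya0 zc hzc hzc0 (yb + w) ?_ ?_ h2
    · intro d hd
      rw [map_add, horth a b hab d hd yb hyb, horth a b hab d hd w hw, add_zero]
    · intro d hd
      rw [map_add, horth c b hbc.symm d hd yb hyb, horth c b hbc.symm d hd w hw, add_zero]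
  have rswap : ∀ a b c : Fin t, a ≠ b → a ≠ c → b ≠ c → Rel D T a b → Rel D T a c := by
    rintro a b c hab hac hbc ⟨x, hx, x', hx', hx0, hx'0, hT⟩
    obtain ⟨h, hhT, hha, hhb, hadd, hinj⟩ := hswap a b c hab hac hbc
    refine ⟨h x, hha x hx, h x', hhb x' hx', fun h0 => hx0 (hinj x h0),
      fun h0 => hx'0 (hinj x' h0), ?_⟩
    rw [← hadd]
    exact hhT _ hT
  have hsum_orth : ∀ (μ : Fin t → V), (∀ i, μ i ∈ D i) → ∀ (j : Fin t) (s : Finset (Fin t)),
      j ∉ s → ∀ d ∈ D j, B d (∑ i ∈ s, μ i) = 0 := by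
    intro μ hμ j s hj d hd
    rw [map_sum]
    exact Finset.sum_eq_zero (fun i hi => horth j i (fun h => hj (h ▸ hi)) d hd (μ i) (hμ i))
  -- a first related pair
  have hpair : ∃ a b : Fin t, a ≠ b ∧ Rel D T a b := by
    obtain ⟨y, hyT, hyD⟩ := hC
    obtain ⟨μ, hμ, hy⟩ := hspan y
    have ha : ∃ a, μ a ≠ 0 := by
      by_contra hcon
      have h0 : y = 0 := by
        rw [hy]
        exact Finset.sum_eq_zero (fun i _ => by_contra (fun h => hcon ⟨i, h⟩))
      exact hyD i₀ (h0 ▸ (D i₀).zero_mem)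
    obtain ⟨a, ha⟩ := ha
    have hb : ∃ b, b ≠ a ∧ μ b ≠ 0 := by
      by_contra hcon
      apply hyD a
      have hs : ∑ i, μ i = μ a :=
        Finset.sum_eq_single a (fun b _ hba => by_contra (fun h => hcon ⟨b, hba, h⟩))
          (fun h => absurd (Finset.mem_univ a) h)
      rw [hy, hs]
      exact hμ a
    obtain ⟨b, hba, hb⟩ := hb
    refine ⟨a, b, hba.symm, ?_⟩
    have e1 : y = μ a + μ b + ∑ i ∈ (Finset.univ.erase a).erase b, μ i := by
      rw [hy, add_assoc,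
        Finset.add_sum_erase (Finset.univ.erase a) μ (Finset.mem_erase.2 ⟨hba, Finset.mem_univ b⟩),
        Finset.add_sum_erase Finset.univ μ (Finset.mem_univ a)]
    rw [e1] at hyT
    refine P a b hba.symm (μ a) (hμ a) ha (μ b) (hμ b) hb _ ?_ ?_ hyT
    · exact hsum_orth μ hμ a _
        (fun h => (Finset.mem_erase.1 (Finset.mem_erase.1 h).2).1 rfl)
    · exact hsum_orth μ hμ b _ (fun h => (Finset.mem_erase.1 h).1 rfl)
  obtain ⟨a₀, b₀, hab₀, hrel₀⟩ := hpair
  have S1 : ∀ c, c ≠ a₀ → Rel D T a₀ c := by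
    intro c hc
    by_cases hcb : c = b₀
    · rw [hcb]
      exact hrel₀
    · exact rswap a₀ b₀ c hab₀ (Ne.symm hc) (Ne.symm hcb) hrel₀
  have S2 : ∀ c d, c ≠ d → Rel D T c d := by
    intro c d hcd
    by_cases hc : c = a₀
    · rw [hc]
      exact S1 d (fun h => hcd (hc.trans h.symm))
    · by_cases hd : d = a₀
      · rw [hd]
        exact rsymm _ _ (S1 c hc)
      · exact rtrans c a₀ d hc (Ne.symm hd) hcd (rsymm _ _ (S1 c hc)) (S1 d hd)
  have h0T : (0 : V) ∈ T := by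
    obtain ⟨y, hyT, -⟩ := hC
    have := T2a y hyT 0
    rwa [zero_smul] at this
  have main : ∀ (μ : Fin t → V), (∀ i, μ i ∈ D i) → ∀ s : Finset (Fin t), ∑ i ∈ s, μ i ∈ T := by
    intro μ hμ s
    induction s using Finset.induction_on with
    | empty =>
      rw [Finset.sum_empty]
      exact h0T
    | insert a s ha ih =>
      rw [Finset.sum_insert ha]
      by_cases hμa : μ a = 0
      · rw [hμa, zero_add]
        exact ih
      by_cases hr0 : ∀ i ∈ s, μ i = 0
      · rw [Finset.sum_eq_zero hr0, add_zero]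
        exact hD a _ (hμ a)
      obtain ⟨b, hbs, hμb⟩ : ∃ b ∈ s, μ b ≠ 0 := by
        by_contra hcon
        exact hr0 (fun i hi => by_contra (fun h => hcon ⟨i, hi, h⟩))
      have hba : b ≠ a := fun h => ha (h ▸ hbs)
      have er : ∑ i ∈ s, μ i = μ b + ∑ i ∈ s.erase b, μ i :=
        (Finset.add_sum_erase s μ hbs).symm
      have hra : ∀ d ∈ D a, B d (∑ i ∈ s.erase b, μ i) = 0 :=
        hsum_orth μ hμ a _ (fun h => ha (Finset.mem_of_mem_erase h))
      have hrb : ∀ d ∈ D b, B d (∑ i ∈ s.erase b, μ i) = 0 :=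
        hsum_orth μ hμ b _ (fun h => (Finset.mem_erase.1 h).1 rfl)
      generalize ∑ i ∈ s.erase b, μ i = r' at er hra hrb
      rw [er] at ih ⊢
      obtain ⟨za, hza, zb, hzb, hza0, hzb0, hz⟩ := S2 a b hba.symm
      obtain ⟨w, hw, hbw⟩ := one b (μ b) (hμ b) hμb
      have hw0 : w ≠ 0 := by
        intro h
        rw [h, map_zero] at hbw
        exact zero_ne_one hbw
      have h1 : w + za ∈ T := by
        refine mv b zb hzb hzb0 za ?_ (by rw [add_comm]; exact hz) w hw hw0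
        intro d hd
        exact horth b a hba d hd za hza
      have h2 : μ a + w ∈ T := by
        refine mv a za hza hza0 w ?_ (by rw [add_comm]; exact h1) (μ a) (hμ a) hμa
        intro d hd
        exact horth a b hba.symm d hd w hw
      have hval : B (μ b + r') (μ a + w) = 1 := by
        have g1 : B (μ b) (μ a) = 0 := horth b a hba _ (hμ b) _ (hμ a)
        have g2 : B r' (μ a) = 0 := by rw [skew, hra _ (hμ a), neg_zero]
        have g3 : B r' w = 0 := by rw [skew, hrb _ hw, neg_zero]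
        simp only [map_add, LinearMap.add_apply]
        linear_combination g1 + hbw + g2 + g3
      have h3 := T2b _ ih _ h2 1
      rw [hval, mul_one, one_smul] at h3
      have e3 : μ b + r' + (μ a + w) = (μ b + w) + (μ a + r') := by abel
      rw [e3] at h3
      have hne : μ b + w ≠ 0 := by
        intro h
        have h5 : B (μ b) (μ b + w) = 1 := by rw [map_add, hB (μ b), zero_add, hbw]
        rw [h, map_zero] at h5
        exact zero_ne_one h5
      have h4 : μ b + (μ a + r') ∈ T := by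
        refine mv b (μ b + w) ((D b).add_mem (hμ b) hw) hne (μ a + r') ?_ h3 (μ b) (hμ b) hμb
        intro d hd
        rw [map_add, horth b a hba d hd _ (hμ a), hrb d hd, add_zero]
      have e4 : μ a + (μ b + r') = μ b + (μ a + r') := by abel
      rw [e4]
      exact h4
  intro z
  obtain ⟨μ, hμ, hz⟩ := hspan z
  rw [hz]
  exact main μ hμ Finset.univ

end SpDecomp

end Cfsg.Agent.Helper2
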