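import Mathlib
import Cfsg.Agent.Helper2.SpDecomp
import Cfsg.Agent.S0766

/-!
# Hyperbolic bases and block-swapping isometries for alternating forms
-/

set_option autoImplicit false

namespace Cfsg.Agent.Helper2

namespace SpDecomp

variable {F V : Type*} [Field F] [AddCommGroup V] [Module F V]

/-- `p, q` is a family of `j` pairwise orthogonal hyperbolic pairs. -/
def Hyp (B : LinearMap.BilinForm F V) {j : ℕ} (p q : Fin j → V) : Prop :=
  (∀ i l, B (p i) (p l) = 0) ∧ (∀ i l, B (q i) (q l) = 0) ∧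
    (∀ i l, B (p i) (q l) = if i = l then 1 else 0)

theorem hyp_li (B : LinearMap.BilinForm F V) {j : ℕ} (p q : Fin j → V)
    (h : Hyp B p q) : LinearIndependent F (Sum.elim p q) := by
  classical
  obtain ⟨hpp, hqq, hpq⟩ := h
  rw [Fintype.linearIndependent_iff]
  intro g hg
  rw [Fintype.sum_sum_type] at hg
  simp only [Sum.elim_inl, Sum.elim_inr] at hg
  have hA : ∀ l, g (Sum.inl l) = 0 := by
    intro l
    have h1 : B (∑ i, g (Sum.inl i) • p i + ∑ i, g (Sum.inr i) • q i) (q l) = 0 := by
      rw [hg, map_zero, LinearMap.zero_apply]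
    rw [map_add, LinearMap.add_apply, map_sum, map_sum, LinearMap.sum_apply,
      LinearMap.sum_apply] at h1
    have h2 : ∑ i, B (g (Sum.inl i) • p i) (q l) = g (Sum.inl l) := by
      rw [Finset.sum_eq_single l]
      · rw [map_smul, LinearMap.smul_apply, hpq, if_pos rfl, smul_eq_mul, mul_one]
      · intro i _ hil
        rw [map_smul, LinearMap.smul_apply, hpq, if_neg hil, smul_zero]
      · intro h
        exact absurd (Finset.mem_univ l) h
    have h3 : ∑ i, B (g (Sum.inr i) • q i) (q l) = 0 := by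
      apply Finset.sum_eq_zero
      intro i _
      rw [map_smul, LinearMap.smul_apply, hqq, smul_zero]
    rw [h2, h3, add_zero] at h1
    exact h1
  have hBr : ∀ l, g (Sum.inr l) = 0 := by
    intro l
    have h1 : B (p l) (∑ i, g (Sum.inl i) • p i + ∑ i, g (Sum.inr i) • q i) = 0 := by
      rw [hg, map_zero]
    rw [map_add, map_sum, map_sum] at h1
    have h2 : ∑ i, B (p l) (g (Sum.inl i) • p i) = 0 := by
      apply Finset.sum_eq_zero
      intro i _
      rw [map_smul, hpp, smul_zero]
    have h3 : ∑ i, B (p l) (g (Sum.inr i) • q i) = g (Sum.inr l) := by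
      rw [Finset.sum_eq_single l]
      · rw [map_smul, hpq, if_pos rfl, smul_eq_mul, mul_one]
      · intro i _ hil
        rw [map_smul, hpq, if_neg (Ne.symm hil), smul_zero]
      · intro h
        exact absurd (Finset.mem_univ l) h
    rw [h2, h3, zero_add] at h1
    exact h1
  intro i
  cases i with
  | inl l => exact hA l
  | inr l => exact hBr l

theorem hyp_ext (B : LinearMap.BilinForm F V) (hB : B.IsAlt) (W : Submodule F V)
    (hW : ∀ a ∈ W, a ≠ 0 → ∃ w ∈ W, B a w ≠ 0)
    {j : ℕ} (p q : Fin j → V) (h : Hyp B p q) (hp : ∀ i, p i ∈ W) (hq : ∀ i, q i ∈ W)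
    (hne : Submodule.span F (Set.range (Sum.elim p q)) ≠ W) :
    ∃ p' q' : Fin (j + 1) → V, Hyp B p' q' ∧ (∀ i, p' i ∈ W) ∧ (∀ i, q' i ∈ W) := by
  classical
  have skew : ∀ a b : V, B a b = - B b a := fun a b => (hB.neg_eq b a).symm
  obtain ⟨hpp, hqq, hpq⟩ := h
  have hqp : ∀ i l, B (q i) (p l) = if i = l then -1 else 0 := by
    intro i l
    rw [skew, hpq]
    by_cases h : l = i
    · rw [if_pos h, if_pos h.symm]
    · rw [if_neg h, if_neg (Ne.symm h), neg_zero]
  have hSW : Submodule.span F (Set.range (Sum.elim p q)) ≤ W := by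
    rw [Submodule.span_le]
    rintro _ ⟨i, rfl⟩
    cases i with
    | inl i => exact hp i
    | inr i => exact hq i
  have hpS : ∀ i, p i ∈ Submodule.span F (Set.range (Sum.elim p q)) :=
    fun i => Submodule.subset_span ⟨Sum.inl i, rfl⟩
  have hqS : ∀ i, q i ∈ Submodule.span F (Set.range (Sum.elim p q)) :=
    fun i => Submodule.subset_span ⟨Sum.inr i, rfl⟩
  obtain ⟨x, hxW, hxS⟩ := SetLike.exists_of_lt (lt_of_le_of_ne hSW hne)
  -- the orthogonal part of a vector
  have orth_part : ∀ z ∈ W, ∃ z' ∈ W, (∀ l, B z' (p l) = 0) ∧ (∀ l, B z' (q l) = 0) ∧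
      z - z' ∈ Submodule.span F (Set.range (Sum.elim p q)) ∧
      ∀ u, (∀ l, B u (p l) = 0) → (∀ l, B u (q l) = 0) → B u z' = B u z := by
    intro z hz
    have hprojS : ∑ i, B z (q i) • p i - ∑ i, B z (p i) • q i ∈
        Submodule.span F (Set.range (Sum.elim p q)) :=
      Submodule.sub_mem _ (Submodule.sum_mem _ (fun i _ => Submodule.smul_mem _ _ (hpS i)))
        (Submodule.sum_mem _ (fun i _ => Submodule.smul_mem _ _ (hqS i)))
    have hprojq : ∀ l, B (∑ i, B z (q i) • p i - ∑ i, B z (p i) • q i) (q l) = B z (q l) := by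
      intro l
      rw [map_sub, LinearMap.sub_apply, map_sum, map_sum, LinearMap.sum_apply,
        LinearMap.sum_apply]
      have h2 : ∑ i, B (B z (q i) • p i) (q l) = B z (q l) := by
        rw [Finset.sum_eq_single l]
        · rw [map_smul, LinearMap.smul_apply, hpq, if_pos rfl, smul_eq_mul, mul_one]
        · intro i _ hil
          rw [map_smul, LinearMap.smul_apply, hpq, if_neg hil, smul_zero]
        · intro h
          exact absurd (Finset.mem_univ l) h
      have h3 : ∑ i, B (B z (p i) • q i) (q l) = 0 := by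
        apply Finset.sum_eq_zero
        intro i _
        rw [map_smul, LinearMap.smul_apply, hqq, smul_zero]
      rw [h2, h3, sub_zero]
    have hprojp : ∀ l, B (∑ i, B z (q i) • p i - ∑ i, B z (p i) • q i) (p l) = B z (p l) := by
      intro l
      rw [map_sub, LinearMap.sub_apply, map_sum, map_sum, LinearMap.sum_apply,
        LinearMap.sum_apply]
      have h2 : ∑ i, B (B z (q i) • p i) (p l) = 0 := by
        apply Finset.sum_eq_zero
        intro i _
        rw [map_smul, LinearMap.smul_apply, hpp, smul_zero]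
      have h3 : ∑ i, B (B z (p i) • q i) (p l) = - B z (p l) := by
        rw [Finset.sum_eq_single l]
        · rw [map_smul, LinearMap.smul_apply, hqp, if_pos rfl, smul_eq_mul, mul_neg, mul_one]
        · intro i _ hil
          rw [map_smul, LinearMap.smul_apply, hqp, if_neg hil, smul_zero]
        · intro h
          exact absurd (Finset.mem_univ l) h
      rw [h2, h3, zero_sub, neg_neg]
    refine ⟨z - (∑ i, B z (q i) • p i - ∑ i, B z (p i) • q i), W.sub_mem hz (hSW hprojS),
      ?_, ?_, ?_, ?_⟩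
    · intro l
      rw [map_sub, LinearMap.sub_apply, hprojp, sub_self]
    · intro l
      rw [map_sub, LinearMap.sub_apply, hprojq, sub_self]
    · rw [sub_sub_cancel]
      exact hprojS
    · intro u hup huq
      have h2 : ∑ i, B u (B z (q i) • p i) = 0 :=
        Finset.sum_eq_zero (fun i _ => by rw [map_smul, hup, smul_zero])
      have h3 : ∑ i, B u (B z (p i) • q i) = 0 :=
        Finset.sum_eq_zero (fun i _ => by rw [map_smul, huq, smul_zero])
      rw [map_sub, map_sub, map_sum, map_sum, h2, h3, sub_zero, sub_zero]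
  obtain ⟨x', hx'W, hx'p, hx'q, hxx', -⟩ := orth_part x hxW
  have hx'0 : x' ≠ 0 := by
    intro h
    apply hxS
    rw [h, sub_zero] at hxx'
    exact hxx'
  obtain ⟨y, hyW, hxy⟩ := ex_one B W hW x' hx'W hx'0
  obtain ⟨y', hy'W, hy'p, hy'q, -, hy'⟩ := orth_part y hyW
  have hx'y' : B x' y' = 1 := by rw [hy' x' hx'p hx'q, hxy]
  refine ⟨Fin.cons x' p, Fin.cons y' q, ⟨?_, ?_, ?_⟩, ?_, ?_⟩
  · intro i l
    cases i using Fin.cases with
    | zero =>
      cases l using Fin.cases with
      | zero =>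
        rw [Fin.cons_zero]
        exact hB x'
      | succ l =>
        rw [Fin.cons_zero, Fin.cons_succ]
        exact hx'p l
    | succ i =>
      cases l using Fin.cases with
      | zero => rw [Fin.cons_zero, Fin.cons_succ, skew, hx'p i, neg_zero]
      | succ l =>
        rw [Fin.cons_succ, Fin.cons_succ]
        exact hpp i l
  · intro i l
    cases i using Fin.cases with
    | zero =>
      cases l using Fin.cases with
      | zero =>
        rw [Fin.cons_zero]
        exact hB y'
      | succ l =>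
        rw [Fin.cons_zero, Fin.cons_succ]
        exact hy'q l
    | succ i =>
      cases l using Fin.cases with
      | zero => rw [Fin.cons_zero, Fin.cons_succ, skew, hy'q i, neg_zero]
      | succ l =>
        rw [Fin.cons_succ, Fin.cons_succ]
        exact hqq i l
  · intro i l
    cases i using Fin.cases with
    | zero =>
      cases l using Fin.cases with
      | zero =>
        rw [Fin.cons_zero, Fin.cons_zero, if_pos rfl]
        exact hx'y'
      | succ l =>
        rw [Fin.cons_zero, Fin.cons_succ, if_neg (Fin.succ_ne_zero l).symm]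
        exact hx'q l
    | succ i =>
      cases l using Fin.cases with
      | zero =>
        rw [Fin.cons_succ, Fin.cons_zero, if_neg (Fin.succ_ne_zero i), skew, hy'p i, neg_zero]
      | succ l =>
        rw [Fin.cons_succ, Fin.cons_succ, hpq]
        by_cases h : i = l
        · rw [if_pos h, if_pos (congrArg Fin.succ h)]
        · rw [if_neg h, if_neg (fun h' => h (Fin.succ_injective _ h'))]
  · intro i
    cases i using Fin.cases with
    | zero =>
      rw [Fin.cons_zero]
      exact hx'W
    | succ i =>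
      rw [Fin.cons_succ]
      exact hp i
  · intro i
    cases i using Fin.cases with
    | zero =>
      rw [Fin.cons_zero]
      exact hy'W
    | succ i =>
      rw [Fin.cons_succ]
      exact hq i

/-- **Darboux**: a subspace on which an alternating form is non-degenerate has a hyperbolic
basis. -/
theorem darboux [FiniteDimensional F V] (B : LinearMap.BilinForm F V) (hB : B.IsAlt)
    (W : Submodule F V) (hW : ∀ a ∈ W, a ≠ 0 → ∃ w ∈ W, B a w ≠ 0) :
    ∃ (j : ℕ) (p q : Fin j → V), Hyp B p q ∧ (∀ i, p i ∈ W) ∧ (∀ i, q i ∈ W) ∧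
      Submodule.span F (Set.range (Sum.elim p q)) = W := by
  by_contra hcon
  have step : ∀ j : ℕ, ∃ p q : Fin j → V, Hyp B p q ∧ (∀ i, p i ∈ W) ∧ (∀ i, q i ∈ W) := by
    intro j
    induction j with
    | zero =>
      exact ⟨Fin.elim0, Fin.elim0, ⟨fun i => i.elim0, fun i => i.elim0, fun i => i.elim0⟩,
        fun i => i.elim0, fun i => i.elim0⟩
    | succ j ih =>
      obtain ⟨p, q, h, hp, hq⟩ := ih
      exact hyp_ext B hB W hW p q h hp hq (fun hsp => hcon ⟨j, p, q, h, hp, hq, hsp⟩)
  obtain ⟨p, q, h, -, -⟩ := step (Module.finrank F V + 1)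
  have hli := hyp_li B p q h
  have h1 := hli.fintype_card_le_finrank
  rw [Fintype.card_sum, Fintype.card_fin] at h1
  omega

/-- Two hyperbolic families have the same Gram matrix. -/
theorem gram_std (B : LinearMap.BilinForm F V) (hB : B.IsAlt) {j : ℕ} (p q p' q' : Fin j → V)
    (h : Hyp B p q) (h' : Hyp B p' q') (i l : Fin j ⊕ Fin j) :
    B (Sum.elim p' q' i) (Sum.elim p' q' l) = B (Sum.elim p q i) (Sum.elim p q l) := by
  have skew : ∀ a b : V, B a b = - B b a := fun a b => (hB.neg_eq b a).symm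
  obtain ⟨hpp, hqq, hpq⟩ := h
  obtain ⟨hpp', hqq', hpq'⟩ := h'
  rcases i with i | i <;> rcases l with l | l
  · show B (p' i) (p' l) = B (p i) (p l)
    rw [hpp, hpp']
  · show B (p' i) (q' l) = B (p i) (q l)
    rw [hpq, hpq']
  · show B (q' i) (p' l) = B (q i) (p l)
    rw [skew (q' i), skew (q i), hpq, hpq']
  · show B (q' i) (q' l) = B (q i) (q l)
    rw [hqq, hqq']

/-- Linear independence of three families in pairwise orthogonal subspaces. -/
theorem li3 (B : LinearMap.BilinForm F V) (hB : B.IsAlt) {ι₁ ι₂ ι₃ : Type*}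
    (A A' R : Submodule F V) (ea : ι₁ → V) (ea' : ι₂ → V) (er : ι₃ → V)
    (h1 : LinearIndependent F ea) (h2 : LinearIndependent F ea') (h3 : LinearIndependent F er)
    (s1 : Submodule.span F (Set.range ea) = A) (s2 : Submodule.span F (Set.range ea') = A')
    (s3 : Submodule.span F (Set.range er) = R)
    (hnA : ∀ a ∈ A, a ≠ 0 → ∃ w ∈ A, B a w ≠ 0) (hnA' : ∀ a ∈ A', a ≠ 0 → ∃ w ∈ A', B a w ≠ 0)
    (o1' : ∀ a ∈ A', ∀ b ∈ A, B a b = 0)
    (o2 : ∀ a ∈ A, ∀ r ∈ R, B a r = 0) (o3 : ∀ a ∈ A', ∀ r ∈ R, B a r = 0) :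
    LinearIndependent F (Sum.elim ea (Sum.elim ea' er)) := by
  have skew : ∀ a b : V, B a b = - B b a := fun a b => (hB.neg_eq b a).symm
  have hin : LinearIndependent F (Sum.elim ea' er) := by
    apply LinearIndependent.sum_type h2 h3
    rw [s2, s3, Submodule.disjoint_def]
    intro z hz hzR
    by_contra hz0
    obtain ⟨w, hw, hne⟩ := hnA' z hz hz0
    exact hne (by rw [skew, o3 w hw z hzR, neg_zero])
  apply LinearIndependent.sum_type h1 hin
  rw [s1, Set.Sum.elim_range, Submodule.span_union, s2, s3, Submodule.disjoint_def]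
  intro z hz hzs
  obtain ⟨u, hu, r, hr, rfl⟩ := Submodule.mem_sup.1 hzs
  by_contra hz0
  obtain ⟨w, hw, hne⟩ := hnA _ hz hz0
  apply hne
  rw [map_add, LinearMap.add_apply, o1' u hu w hw, skew r w, o2 w hw r hr, neg_zero, add_zero]

/-- Witt's theorem for families indexed by a finite type. -/
theorem witt_fintype [FiniteDimensional F V] (B : LinearMap.BilinForm F V)
    (hBn : B.Nondegenerate) (hB : B.IsAlt)
    (T : Set (V →ₗ[F] V)) (hT1 : LinearMap.id ∈ T) (hTmul : ∀ g ∈ T, ∀ h ∈ T, g ∘ₗ h ∈ T)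
    (hTt : ∀ (d : V) (c : F) (t : V →ₗ[F] V), (∀ v, t v = v + (c * B d v) • d) → t ∈ T)
    {ι : Type*} [Fintype ι] (x y : ι → V) (hx : LinearIndependent F x)
    (hy : LinearIndependent F y) (hxy : ∀ i j, B (y i) (y j) = B (x i) (x j)) :
    ∃ g ∈ T, (∀ u v, B (g u) (g v) = B u v) ∧ ∀ i, g (x i) = y i := by
  obtain ⟨g, hgT, hiso, hmap⟩ := S0766.witt_gen B hBn hB T hT1 hTmul hTt
    (x ∘ (Fintype.equivFin ι).symm) (y ∘ (Fintype.equivFin ι).symm)
    (hx.comp _ (Fintype.equivFin ι).symm.injective)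
    (hy.comp _ (Fintype.equivFin ι).symm.injective) (fun i j => hxy _ _)
  refine ⟨g, hgT, hiso, fun i => ?_⟩
  have h := hmap (Fintype.equivFin ι i)
  simpa using h

/-- An isometry (from a given family `T` of maps containing the transvections) interchanging
two blocks of an orthogonal decomposition and fixing the others pointwise. -/
theorem swap_abs [FiniteDimensional F V] (B : LinearMap.BilinForm F V)
    (hBn : B.Nondegenerate) (hB : B.IsAlt)
    (T : Set (V →ₗ[F] V)) (hT1 : LinearMap.id ∈ T) (hTmul : ∀ g ∈ T, ∀ h ∈ T, g ∘ₗ h ∈ T)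
    (hTt : ∀ (d : V) (c : F) (t : V →ₗ[F] V), (∀ v, t v = v + (c * B d v) • d) → t ∈ T)
    {t k : ℕ} (D : Fin t → Submodule F V) (hfr : ∀ i, Module.finrank F (D i) = k)
    (hnd : ∀ i, ∀ a ∈ D i, a ≠ 0 → ∃ w ∈ D i, B a w ≠ 0)
    (horth : ∀ i j, i ≠ j → ∀ a ∈ D i, ∀ b ∈ D j, B a b = 0)
    (b c : Fin t) (hbc : b ≠ c) :
    ∃ g ∈ T, (∀ x ∈ D b, g x ∈ D c) ∧ (∀ x ∈ D c, g x ∈ D b) ∧
      ∀ a, a ≠ b → a ≠ c → ∀ x ∈ D a, g x = x := by
  classical
  have skew : ∀ a b : V, B a b = - B b a := fun a b => (hB.neg_eq b a).symm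
  obtain ⟨j, p, q, hH, hp, hq, hsp⟩ := darboux B hB (D b) (hnd b)
  obtain ⟨j', p', q', hH', hp', hq', hsp'⟩ := darboux B hB (D c) (hnd c)
  have hli := hyp_li B p q hH
  have hli' := hyp_li B p' q' hH'
  have hj : j' = j := by
    have e1 := finrank_span_eq_card hli
    have e2 := finrank_span_eq_card hli'
    rw [hsp, hfr, Fintype.card_sum, Fintype.card_fin] at e1
    rw [hsp', hfr, Fintype.card_sum, Fintype.card_fin] at e2
    omega
  subst hj
  have heb : ∀ i, Sum.elim p q i ∈ D b := by
    intro i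
    cases i with
    | inl i => exact hp i
    | inr i => exact hq i
  have hec : ∀ i, Sum.elim p' q' i ∈ D c := by
    intro i
    cases i with
    | inl i => exact hp' i
    | inr i => exact hq' i
  have hRb : ∀ a ∈ D b, ∀ r ∈ B.orthogonal (D b ⊔ D c), B a r = 0 := fun a ha r hr =>
    (LinearMap.BilinForm.mem_orthogonal_iff.1 hr) a (Submodule.mem_sup_left ha)
  have hRc : ∀ a ∈ D c, ∀ r ∈ B.orthogonal (D b ⊔ D c), B a r = 0 := fun a ha r hr =>
    (LinearMap.BilinForm.mem_orthogonal_iff.1 hr) a (Submodule.mem_sup_right ha)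
  obtain ⟨s, er, hler, hser⟩ : ∃ (s : ℕ) (er : Fin s → V), LinearIndependent F er ∧
      Submodule.span F (Set.range er) = B.orthogonal (D b ⊔ D c) := by
    refine ⟨_, fun i => ((Module.finBasis F (B.orthogonal (D b ⊔ D c))) i : V), ?_, ?_⟩
    · exact (Module.finBasis F (B.orthogonal (D b ⊔ D c))).linearIndependent.map'
        (B.orthogonal (D b ⊔ D c)).subtype (Submodule.ker_subtype _)
    · have h1 : Set.range (fun i => ((Module.finBasis F (B.orthogonal (D b ⊔ D c))) i : V))
          = (B.orthogonal (D b ⊔ D c)).subtype ''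
            Set.range (Module.finBasis F (B.orthogonal (D b ⊔ D c))) := by
        rw [← Set.range_comp]
        rfl
      rw [h1, Submodule.span_image, Module.Basis.span_eq, Submodule.map_subtype_top]
  have her : ∀ i, er i ∈ B.orthogonal (D b ⊔ D c) := fun i =>
    hser ▸ Submodule.subset_span ⟨i, rfl⟩
  have hx := li3 B hB (D b) (D c) (B.orthogonal (D b ⊔ D c)) (Sum.elim p q) (Sum.elim p' q') er
    hli hli' hler hsp hsp' hser (hnd b) (hnd c) (horth c b hbc.symm) hRb hRc
  have hy := li3 B hB (D c) (D b) (B.orthogonal (D b ⊔ D c)) (Sum.elim p' q') (Sum.elim p q) er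
    hli' hli hler hsp' hsp hser (hnd c) (hnd b) (horth b c hbc) hRc hRb
  have gram := gram_std B hB p q p' q' hH hH'
  have hxy : ∀ i l, B (Sum.elim (Sum.elim p' q') (Sum.elim (Sum.elim p q) er) i)
      (Sum.elim (Sum.elim p' q') (Sum.elim (Sum.elim p q) er) l)
      = B (Sum.elim (Sum.elim p q) (Sum.elim (Sum.elim p' q') er) i)
        (Sum.elim (Sum.elim p q) (Sum.elim (Sum.elim p' q') er) l) := by
    rintro (i | i | i) (l | l | l)
    · exact gram i l
    · show B (Sum.elim p' q' i) (Sum.elim p q l) = B (Sum.elim p q i) (Sum.elim p' q' l)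
      rw [horth c b hbc.symm _ (hec i) _ (heb l), horth b c hbc _ (heb i) _ (hec l)]
    · show B (Sum.elim p' q' i) (er l) = B (Sum.elim p q i) (er l)
      rw [hRc _ (hec i) _ (her l), hRb _ (heb i) _ (her l)]
    · show B (Sum.elim p q i) (Sum.elim p' q' l) = B (Sum.elim p' q' i) (Sum.elim p q l)
      rw [horth c b hbc.symm _ (hec i) _ (heb l), horth b c hbc _ (heb i) _ (hec l)]
    · exact (gram i l).symm
    · show B (Sum.elim p q i) (er l) = B (Sum.elim p' q' i) (er l)
      rw [hRc _ (hec i) _ (her l), hRb _ (heb i) _ (her l)]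
    · show B (er i) (Sum.elim p' q' l) = B (er i) (Sum.elim p q l)
      rw [skew (er i) (Sum.elim p' q' l), skew (er i) (Sum.elim p q l),
        hRc _ (hec l) _ (her i), hRb _ (heb l) _ (her i)]
    · show B (er i) (Sum.elim p q l) = B (er i) (Sum.elim p' q' l)
      rw [skew (er i) (Sum.elim p' q' l), skew (er i) (Sum.elim p q l),
        hRc _ (hec l) _ (her i), hRb _ (heb l) _ (her i)]
    · rfl
  obtain ⟨g, hgT, -, hmap⟩ := witt_fintype B hBn hB T hT1 hTmul hTt _ _ hx hy hxy
  have hgb : ∀ i, g (Sum.elim p q i) = Sum.elim p' q' i := fun i => hmap (Sum.inl i)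
  have hgc : ∀ i, g (Sum.elim p' q' i) = Sum.elim p q i := fun i => hmap (Sum.inr (Sum.inl i))
  have hgr : ∀ i, g (er i) = er i := fun i => hmap (Sum.inr (Sum.inr i))
  refine ⟨g, hgT, ?_, ?_, ?_⟩
  · have hle : D b ≤ (D c).comap g := by
      rw [← hsp, Submodule.span_le]
      rintro _ ⟨i, rfl⟩
      show g (Sum.elim p q i) ∈ D c
      rw [hgb i]
      exact hec i
    exact fun x hx => hle hx
  · have hle : D c ≤ (D b).comap g := by
      rw [← hsp', Submodule.span_le]
      rintro _ ⟨i, rfl⟩
      show g (Sum.elim p' q' i) ∈ D b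
      rw [hgc i]
      exact heb i
    exact fun x hx => hle hx
  · intro a hab hac x hx
    have hxR : x ∈ B.orthogonal (D b ⊔ D c) := by
      rw [LinearMap.BilinForm.mem_orthogonal_iff]
      intro n hn
      obtain ⟨u, hu, u', hu', rfl⟩ := Submodule.mem_sup.1 hn
      show B (u + u') x = 0
      rw [map_add, LinearMap.add_apply, horth b a hab.symm u hu x hx,
        horth c a hac.symm u' hu' x hx, add_zero]
    have hle : B.orthogonal (D b ⊔ D c) ≤ LinearMap.eqLocus g LinearMap.id := by
      rw [← hser, Submodule.span_le]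
      rintro _ ⟨i, rfl⟩
      exact hgr i
    exact hle hxR

end SpDecomp

end Cfsg.Agent.Helper2
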