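import Mathlib
import Cfsg.Agent.Helper2.SpDarboux
import Cfsg.Agent.S0766

/-!
# Embedding groups of isometries of an alternating form into the symplectic group

A group acting faithfully by isometries on a space of dimension `2m` with a non-degenerate
alternating form embeds in `Matrix.symplecticGroup (Fin m) F` (via a Darboux basis).
Also: embeddings of finite fields from cardinalities.
-/

set_option autoImplicit false

namespace Cfsg.Agent.Helper2

namespace SpEmbed

open Matrix

theorem embed {F : Type*} [Field F] {V : Type*} [AddCommGroup V] [Module F V]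
    [FiniteDimensional F V] (B : LinearMap.BilinForm F V) (hB : B.IsAlt)
    (hnd : ∀ a : V, a ≠ 0 → ∃ w, B a w ≠ 0) (m : ℕ) (hdim : Module.finrank F V = m + m)
    {G : Type*} [Group G] (ρ : G →* Module.End F V) (hρ : Function.Injective ρ)
    (hiso : ∀ g u v, B (ρ g u) (ρ g v) = B u v) :
    ∃ φ : G →* ↥(Matrix.symplecticGroup (Fin m) F), Function.Injective φ := by
  classical
  have skew : ∀ a b : V, B a b = - B b a := fun a b => (hB.neg_eq b a).symm
  obtain ⟨j, p, q, hH, -, -, hsp⟩ := SpDecomp.darboux B hB ⊤ (fun a _ ha => by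
    obtain ⟨w, hw⟩ := hnd a ha
    exact ⟨w, Submodule.mem_top, hw⟩)
  have hli := SpDecomp.hyp_li B p q hH
  let b : Module.Basis (Fin j ⊕ Fin j) F V := Module.Basis.mk hli (by rw [hsp])
  have hb : ∀ i, b i = Sum.elim p q i := fun i => by
    show (Module.Basis.mk hli _) i = _
    rw [Module.Basis.mk_apply]
  have hj : j = m := by
    have h1 := Module.finrank_eq_card_basis b
    rw [hdim, Fintype.card_sum, Fintype.card_fin] at h1
    omega
  subst hj
  obtain ⟨hpp, hqq, hpq⟩ := hH
  have hM : LinearMap.BilinForm.toMatrix b B = - Matrix.J (Fin j) F := by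
    ext i l
    rw [LinearMap.BilinForm.toMatrix_apply, hb, hb, Matrix.neg_apply]
    rcases i with i | i <;> rcases l with l | l
    · show B (p i) (p l) = - (Matrix.J (Fin j) F) (Sum.inl i) (Sum.inl l)
      rw [hpp]
      simp [Matrix.J]
    · show B (p i) (q l) = - (Matrix.J (Fin j) F) (Sum.inl i) (Sum.inr l)
      rw [hpq]
      simp [Matrix.J, Matrix.one_apply]
    · show B (q i) (p l) = - (Matrix.J (Fin j) F) (Sum.inr i) (Sum.inl l)
      rw [skew, hpq]
      simp [Matrix.J, Matrix.one_apply, eq_comm]
    · show B (q i) (q l) = - (Matrix.J (Fin j) F) (Sum.inr i) (Sum.inr l)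
      rw [hqq]
      simp [Matrix.J]
  have hmem : ∀ g : G, LinearMap.toMatrix b b (ρ g) ∈ Matrix.symplecticGroup (Fin j) F := by
    intro g
    rw [SymplecticGroup.mem_iff']
    have h1 : B.comp (ρ g) (ρ g) = B := by
      apply LinearMap.ext
      intro u
      apply LinearMap.ext
      intro v
      exact hiso g u v
    have h2 := LinearMap.BilinForm.toMatrix_comp (b := b) (c := b) B (ρ g) (ρ g)
    rw [h1, hM, Matrix.mul_neg, Matrix.neg_mul] at h2
    exact (neg_injective h2).symm
  let φ : G →* ↥(Matrix.symplecticGroup (Fin j) F) :=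
    { toFun := fun g => ⟨LinearMap.toMatrix b b (ρ g), hmem g⟩
      map_one' := by
        apply Subtype.ext
        show LinearMap.toMatrix b b (ρ 1) = 1
        rw [map_one]
        exact LinearMap.toMatrix_one b
      map_mul' := fun g h => by
        apply Subtype.ext
        show LinearMap.toMatrix b b (ρ (g * h))
          = LinearMap.toMatrix b b (ρ g) * LinearMap.toMatrix b b (ρ h)
        rw [map_mul]
        exact LinearMap.toMatrix_mul b (ρ g) (ρ h) }
  refine ⟨φ, fun g h hgh => ?_⟩
  have h1 : LinearMap.toMatrix b b (ρ g) = LinearMap.toMatrix b b (ρ h) :=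
    congrArg Subtype.val hgh
  exact hρ ((LinearMap.toMatrix b b).injective h1)

/-- A field with `q` elements embeds in a field with `q ^ 2` elements. -/
theorem exists_ringHom {K F : Type*} [Field K] [Fintype K] [Field F] [Fintype F] {q : ℕ}
    (hK : Fintype.card K = q ^ 2) (hF : Fintype.card F = q) : Nonempty (F →+* K) := by
  obtain ⟨p, hpF⟩ := CharP.exists F
  obtain ⟨p', hpK⟩ := CharP.exists K
  obtain ⟨n, hp, hn⟩ := FiniteField.card F p
  obtain ⟨n', hp', hn'⟩ := FiniteField.card K p'
  have hpp : p' = p := by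
    have h1 : p' ∣ q ^ 2 := by
      rw [← hK, hn']
      exact dvd_pow_self p' n'.ne_zero
    have h2 : p' ∣ q := hp'.dvd_of_dvd_pow h1
    rw [← hF, hn] at h2
    exact (Nat.prime_dvd_prime_iff_eq hp' hp).1 (hp'.dvd_of_dvd_pow h2)
  subst hpp
  haveI : Fact p'.Prime := ⟨hp⟩
  letI : Algebra (ZMod p') F := ZMod.algebra F p'
  letI : Algebra (ZMod p') K := ZMod.algebra K p'
  have e1 := FiniteField.pow_finrank_eq_card p' F
  have e2 := FiniteField.pow_finrank_eq_card p' K
  have h3 : Module.finrank (ZMod p') K = 2 * Module.finrank (ZMod p') F := by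
    apply Nat.pow_right_injective hp.two_le
    show p' ^ Module.finrank (ZMod p') K = p' ^ (2 * Module.finrank (ZMod p') F)
    rw [e2, hK, ← hF, ← e1, ← pow_mul, mul_comm]
  obtain ⟨f⟩ := FiniteField.nonempty_algHom_of_finrank_dvd (F := ZMod p') (K := F) (L := K)
    (by rw [h3]; exact dvd_mul_left _ _)
  exact ⟨f.toRingHom⟩

theorem one_lt_q {F : Type*} [Field F] [Fintype F] {q : ℕ} (hF : Fintype.card F = q) : 1 < q := by
  rw [← hF]
  exact Fintype.one_lt_card

theorem finrank_two {K F : Type*} [Field K] [Fintype K] [Field F] [Fintype F] [Algebra F K]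
    {q : ℕ} (hK : Fintype.card K = q ^ 2) (hF : Fintype.card F = q) :
    Module.finrank F K = 2 := by
  have h1 : Fintype.card K = Fintype.card F ^ Module.finrank F K := Module.card_eq_pow_finrank
  rw [hK, hF] at h1
  exact (Nat.pow_right_injective (one_lt_q hF) h1).symm

/-- A symplectic matrix preserves the standard form. -/
theorem sB_symp {K : Type*} [Field K] (a : ℕ) (A : Matrix (Fin a ⊕ Fin a) (Fin a ⊕ Fin a) K)
    (hA : A ∈ Matrix.symplecticGroup (Fin a) K) (u v : Fin a ⊕ Fin a → K) :
    S0766.sB a K (A *ᵥ u) (A *ᵥ v) = S0766.sB a K u v := by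
  rw [SymplecticGroup.mem_iff'] at hA
  unfold S0766.sB
  rw [Matrix.toBilin'_apply', Matrix.toBilin'_apply']
  conv_rhs => rw [← hA]
  rw [← Matrix.mulVec_mulVec, ← Matrix.mulVec_mulVec, Matrix.dotProduct_mulVec u,
    Matrix.vecMul_transpose]

/-- An element not fixed by `x ↦ x ^ q` in a field with `q ^ 2` elements. -/
theorem exists_not_fixed {K : Type*} [Field K] [Fintype K] {q : ℕ} (hq : 1 < q)
    (hK : Fintype.card K = q ^ 2) : ∃ x : K, x ^ q ≠ x := by
  classical
  by_contra hcon
  have hall : ∀ x : K, x ^ q = x := fun x => by_contra (fun h => hcon ⟨x, h⟩)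
  have h1 := Polynomial.card_le_degree_of_subset_roots (R := K)
    (p := Polynomial.X ^ q - Polynomial.X) (Z := Finset.univ) (fun x _ => by
      rw [Polynomial.mem_roots (FiniteField.X_pow_card_sub_X_ne_zero K hq)]
      show Polynomial.eval x (Polynomial.X ^ q - Polynomial.X) = 0
      rw [Polynomial.eval_sub, Polynomial.eval_pow, Polynomial.eval_X, hall x, sub_self])
  rw [FiniteField.X_pow_card_sub_X_natDegree_eq K hq, Finset.card_univ, hK] at h1
  nlinarith

end SpEmbed

end Cfsg.Agent.Helper2
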