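import Mathlib

set_option autoImplicit false

namespace Cfsg.Agent.Helper2.SylU

variable {α : Type*} [Fintype α] [DecidableEq α]

/-- `O` is invariant under `D` and `D` is transitive on it. -/
def IsOrb (D : Subgroup (Equiv.Perm α)) (O : Finset α) : Prop :=
  (∀ d ∈ D, ∀ a ∈ O, d a ∈ O) ∧ ∀ a ∈ O, ∀ b ∈ O, ∃ d ∈ D, d a = b

/-- at most two fixed points on `O`; moved points of `O` with cycles of equal size lie in the
same cycle -/
def Good (y : Equiv.Perm α) (O : Finset α) : Prop :=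
  (∀ a ∈ O, ∀ b ∈ O, y a ≠ a → y b ≠ b →
    (y.cycleOf a).support.card = (y.cycleOf b).support.card → y.SameCycle a b) ∧
  ∀ a ∈ O, ∀ b ∈ O, ∀ c ∈ O, y a = a → y b = b → y c = c → a = b ∨ a = c ∨ b = c

/-- `y` is transitive on `O`, or has two fixed points on `O` and a cycle filling half of `O` -/
def TransOrFix (y : Equiv.Perm α) (O : Finset α) : Prop :=
  (∀ a ∈ O, ∀ b ∈ O, y.SameCycle a b) ∨
  ∃ a ∈ O, ∃ b ∈ O, a ≠ b ∧ y a = a ∧ y b = b ∧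
    ∃ C : Finset α, C ⊆ O ∧ 2 * C.card = O.card ∧ (∀ c ∈ C, ∀ c' ∈ C, y.SameCycle c c') ∧
      ∀ c ∈ C, y c ∈ C

/-- `B` is half of `O` and a block for `D` -/
def IsHalf (D : Subgroup (Equiv.Perm α)) (O B : Finset α) : Prop :=
  B ⊆ O ∧ 2 * B.card = O.card ∧ ∀ d ∈ D, (∀ a ∈ B, d a ∈ B) ∨ (∀ a ∈ B, d a ∉ B)

/-- the setwise stabilizer of `B` in `D` -/
def stab (D : Subgroup (Equiv.Perm α)) (B : Finset α) : Subgroup (Equiv.Perm α) where
  carrier := {d | d ∈ D ∧ ∀ a, a ∈ B ↔ d a ∈ B}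
  mul_mem' := by
    intro a b ha hb
    exact ⟨D.mul_mem ha.1 hb.1, fun c => (hb.2 c).trans (ha.2 (b c))⟩
  one_mem' := ⟨D.one_mem, fun _ => Iff.rfl⟩
  inv_mem' := by
    intro a ha
    refine ⟨D.inv_mem ha.1, fun c => ?_⟩
    have h := ha.2 (a⁻¹ c)
    have h2 : a (a⁻¹ c) = c := by simp
    rw [h2] at h
    exact h.symm

theorem mem_stab (D : Subgroup (Equiv.Perm α)) (B : Finset α) (d : Equiv.Perm α) :
    d ∈ stab D B ↔ d ∈ D ∧ ∀ a, a ∈ B ↔ d a ∈ B := Iff.rfl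

end Cfsg.Agent.Helper2.SylU
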