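import Cfsg.Agent.Helper2.BN1

/-!
# (B, N)-pairs: words, length, uniqueness in the Bruhat decomposition, the length lemmas.
-/

set_option autoImplicit false
set_option linter.unusedSectionVars false

namespace Cfsg.Agent.Helper2

namespace BN

variable {G : Type*} [Group G] (P : Cfsg.BNPair G)

/-- `W J k`: the elements `s₁ ⋯ s_k h` with `s_i ∈ J` and `h ∈ B ⊓ N`. -/
def W (J : Set G) (k : ℕ) : Set G :=
  Nat.rec ((P.B ⊓ P.N : Subgroup G) : Set G) (fun _ X => {g | ∃ s ∈ J, ∃ n ∈ X, g = s * n}) k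

theorem mem_W_zero {J : Set G} {g : G} : g ∈ W P J 0 ↔ g ∈ P.B ⊓ P.N := Iff.rfl

theorem mem_W_succ {J : Set G} {k : ℕ} {g : G} :
    g ∈ W P J (k + 1) ↔ ∃ s ∈ J, ∃ n ∈ W P J k, g = s * n := Iff.rfl

theorem W_mono {J K : Set G} (h : J ⊆ K) : ∀ (k : ℕ) (g : G), g ∈ W P J k → g ∈ W P K k := by
  intro k
  induction k with
  | zero => intro g hg; exact hg
  | succ k ih =>
    intro g hg
    obtain ⟨s, hs, n, hn, rfl⟩ := (mem_W_succ P).1 hg
    exact (mem_W_succ P).2 ⟨s, h hs, n, ih n hn, rfl⟩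

theorem W_subset_subgroup {J : Set G} (M : Subgroup G) (hH : P.B ⊓ P.N ≤ M) (hJ : J ⊆ M) :
    ∀ (k : ℕ) (g : G), g ∈ W P J k → g ∈ M := by
  intro k
  induction k with
  | zero => intro g hg; exact hH hg
  | succ k ih =>
    intro g hg
    obtain ⟨s, hs, n, hn, rfl⟩ := (mem_W_succ P).1 hg
    exact M.mul_mem (hJ hs) (ih n hn)

section
variable {J : Set G} (hJ : J ⊆ P.S)
include hJ

theorem W_subset_N {k : ℕ} {g : G} (hg : g ∈ W P J k) : g ∈ P.N :=
  W_subset_subgroup P P.N inf_le_right (fun _ hx => P.subset (hJ hx)) k g hg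

theorem W_subset_parabolic {k : ℕ} {g : G} (hg : g ∈ W P J k) : g ∈ P.parabolic J :=
  W_subset_subgroup P (P.parabolic J) (inf_le_left.trans (B_le_parabolic P J))
    (fun _ hx => subset_parabolic P hx) k g hg

theorem H_mul_W : ∀ (k : ℕ) (h g : G), h ∈ P.B ⊓ P.N → g ∈ W P J k → h * g ∈ W P J k := by
  intro k
  induction k with
  | zero => intro h g hh hg; exact (P.B ⊓ P.N).mul_mem hh hg
  | succ k ih =>
    intro h g hh hg
    obtain ⟨s, hs, n, hn, rfl⟩ := (mem_W_succ P).1 hg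
    refine (mem_W_succ P).2 ⟨s, hs, (s⁻¹ * h * s) * n, ?_, by group⟩
    exact ih _ _ (H_conj' P (P.subset (hJ hs)) hh) hn

theorem W_mul_H : ∀ (k : ℕ) (g h : G), g ∈ W P J k → h ∈ P.B ⊓ P.N → g * h ∈ W P J k := by
  intro k
  induction k with
  | zero => intro g h hg hh; exact (P.B ⊓ P.N).mul_mem hg hh
  | succ k ih =>
    intro g h hg hh
    obtain ⟨s, hs, n, hn, rfl⟩ := (mem_W_succ P).1 hg
    exact (mem_W_succ P).2 ⟨s, hs, n * h, ih _ _ hn hh, by group⟩

theorem W_mul_S : ∀ (k : ℕ) (g t : G), g ∈ W P J k → t ∈ J → g * t ∈ W P J (k + 1) := by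
  intro k
  induction k with
  | zero =>
    intro g t hg ht
    refine (mem_W_succ P).2 ⟨t, ht, t⁻¹ * g * t, ?_, by group⟩
    exact H_conj' P (P.subset (hJ ht)) hg
  | succ k ih =>
    intro g t hg ht
    obtain ⟨s, hs, n, hn, rfl⟩ := (mem_W_succ P).1 hg
    exact (mem_W_succ P).2 ⟨s, hs, n * t, ih _ _ hn ht, by group⟩

theorem S_mul_W {k : ℕ} {s g : G} (hs : s ∈ J) (hg : g ∈ W P J k) : s * g ∈ W P J (k + 1) :=
  (mem_W_succ P).2 ⟨s, hs, g, hg, rfl⟩

theorem sq_inv_mem_H {s : G} (hs : s ∈ J) : (s * s)⁻¹ ∈ P.B ⊓ P.N :=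
  (P.B ⊓ P.N).inv_mem (sq_mem_H P (hJ hs))

theorem Sinv_mul_W {k : ℕ} {s g : G} (hs : s ∈ J) (hg : g ∈ W P J k) :
    s⁻¹ * g ∈ W P J (k + 1) := by
  have e : s⁻¹ * g = s * ((s * s)⁻¹ * g) := by group
  rw [e]
  exact S_mul_W P hJ hs (H_mul_W P hJ k _ _ (sq_inv_mem_H P hJ hs) hg)

theorem W_mul_Sinv {k : ℕ} {t g : G} (hg : g ∈ W P J k) (ht : t ∈ J) :
    g * t⁻¹ ∈ W P J (k + 1) := by
  have e : g * t⁻¹ = (g * t) * (t * t)⁻¹ := by group
  rw [e]
  exact W_mul_H P hJ _ _ _ (W_mul_S P hJ k _ _ hg ht) (sq_inv_mem_H P hJ ht)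

theorem W_mul_W : ∀ (k k' : ℕ) (g g' : G), g ∈ W P J k → g' ∈ W P J k' →
    g * g' ∈ W P J (k + k') := by
  intro k
  induction k with
  | zero =>
    intro k' g g' hg hg'
    rw [Nat.zero_add]
    exact H_mul_W P hJ k' _ _ hg hg'
  | succ k ih =>
    intro k' g g' hg hg'
    obtain ⟨s, hs, n, hn, rfl⟩ := (mem_W_succ P).1 hg
    have e : k + 1 + k' = (k + k') + 1 := by omega
    rw [e]
    exact (mem_W_succ P).2 ⟨s, hs, n * g', ih _ _ _ hn hg', by group⟩

theorem W_inv : ∀ (k : ℕ) (g : G), g ∈ W P J k → g⁻¹ ∈ W P J k := by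
  intro k
  induction k with
  | zero => intro g hg; exact (P.B ⊓ P.N).inv_mem hg
  | succ k ih =>
    intro g hg
    obtain ⟨s, hs, n, hn, rfl⟩ := (mem_W_succ P).1 hg
    rw [mul_inv_rev]
    exact W_mul_Sinv P hJ (ih _ hn) hs

theorem W_right_decomp {k : ℕ} {g : G} (hg : g ∈ W P J (k + 1)) :
    ∃ t ∈ J, ∃ m ∈ W P J k, g = m * t := by
  obtain ⟨s, hs, n, hn, e⟩ := (mem_W_succ P).1 (W_inv P hJ _ _ hg)
  refine ⟨s, hs, n⁻¹ * (s * s)⁻¹, W_mul_H P hJ _ _ _ (W_inv P hJ _ _ hn) (sq_inv_mem_H P hJ hs), ?_⟩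
  have : g = (s * n)⁻¹ := by rw [← e, inv_inv]
  rw [this]; group

/-- the subgroup `N_J` of `N` generated by `J` and `B ⊓ N`, as the union of the `W J k`. -/
def NJ : Subgroup G where
  carrier := {g | ∃ k, g ∈ W P J k}
  mul_mem' := by
    rintro a b ⟨k, hk⟩ ⟨k', hk'⟩
    exact ⟨k + k', W_mul_W P hJ _ _ _ _ hk hk'⟩
  one_mem' := ⟨0, (P.B ⊓ P.N).one_mem⟩
  inv_mem' := by
    rintro a ⟨k, hk⟩
    exact ⟨k, W_inv P hJ _ _ hk⟩

theorem mem_NJ {g : G} : g ∈ NJ P hJ ↔ ∃ k, g ∈ W P J k := Iff.rfl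

theorem closure_sup_le_NJ : Subgroup.closure J ⊔ (P.B ⊓ P.N) ≤ NJ P hJ := by
  apply sup_le
  · rw [Subgroup.closure_le]
    intro s hs
    refine ⟨1, (mem_W_succ P).2 ⟨s, hs, 1, (P.B ⊓ P.N).one_mem, by group⟩⟩
  · intro h hh
    exact ⟨0, hh⟩

theorem exists_W_of_mem_closure {n : G} (hn : n ∈ Subgroup.closure J) : ∃ k, n ∈ W P J k :=
  closure_sup_le_NJ P hJ (le_sup_left (b := P.B ⊓ P.N) hn)

end

theorem exists_W_of_mem_N {n : G} (hn : n ∈ P.N) : ∃ k, n ∈ W P P.S k := by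
  have h := closure_sup_le_NJ P (le_refl P.S)
  rw [P.closure_sup] at h
  exact h hn

/-! ### length -/

/-- the length of an element with respect to the generating set `J` -/
noncomputable def len (J : Set G) (n : G) : ℕ := sInf {k | n ∈ W P J k}

theorem len_le {J : Set G} {k : ℕ} {n : G} (h : n ∈ W P J k) : len P J n ≤ k :=
  Nat.sInf_le h

theorem mem_W_len {J : Set G} {n : G} (h : ∃ k, n ∈ W P J k) : n ∈ W P J (len P J n) :=
  Nat.sInf_mem h

theorem len_eq_zero_iff {J : Set G} {n : G} (h : ∃ k, n ∈ W P J k) :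
    len P J n = 0 ↔ n ∈ P.B ⊓ P.N := by
  constructor
  · intro h0
    have := mem_W_len P h
    rwa [h0] at this
  · intro hn
    exact Nat.le_zero.1 (len_le P (k := 0) hn)

section
variable {J : Set G} (hJ : J ⊆ P.S)
include hJ

theorem len_S_mul_le {s n : G} (hs : s ∈ J) (hn : ∃ k, n ∈ W P J k) :
    len P J (s * n) ≤ len P J n + 1 :=
  len_le P (S_mul_W P hJ hs (mem_W_len P hn))

theorem exists_W_S_mul {s n : G} (hs : s ∈ J) (hn : ∃ k, n ∈ W P J k) :
    ∃ k, s * n ∈ W P J k := by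
  obtain ⟨k, hk⟩ := hn
  exact ⟨k + 1, S_mul_W P hJ hs hk⟩

theorem len_le_S_mul {s n : G} (hs : s ∈ J) (hn : ∃ k, n ∈ W P J k) :
    len P J n ≤ len P J (s * n) + 1 := by
  have h1 := Sinv_mul_W P hJ hs (mem_W_len P (exists_W_S_mul P hJ hs hn))
  rw [inv_mul_cancel_left] at h1
  exact len_le P h1

theorem len_mul_S_le {t n : G} (ht : t ∈ J) (hn : ∃ k, n ∈ W P J k) :
    len P J (n * t) ≤ len P J n + 1 :=
  len_le P (W_mul_S P hJ _ _ _ (mem_W_len P hn) ht)

theorem len_H_mul {h n : G} (hh : h ∈ P.B ⊓ P.N) (hn : ∃ k, n ∈ W P J k) :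
    len P J (h * n) = len P J n := by
  apply le_antisymm
  · exact len_le P (H_mul_W P hJ _ _ _ hh (mem_W_len P hn))
  · have hn' : ∃ k, h * n ∈ W P J k := by
      obtain ⟨k, hk⟩ := hn
      exact ⟨k, H_mul_W P hJ _ _ _ hh hk⟩
    have := H_mul_W P hJ _ _ _ ((P.B ⊓ P.N).inv_mem hh) (mem_W_len P hn')
    rw [inv_mul_cancel_left] at this
    exact len_le P this

theorem len_mul_H {h n : G} (hh : h ∈ P.B ⊓ P.N) (hn : ∃ k, n ∈ W P J k) :
    len P J (n * h) = len P J n := by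
  apply le_antisymm
  · exact len_le P (W_mul_H P hJ _ _ _ (mem_W_len P hn) hh)
  · have hn' : ∃ k, n * h ∈ W P J k := by
      obtain ⟨k, hk⟩ := hn
      exact ⟨k, W_mul_H P hJ _ _ _ hk hh⟩
    have := W_mul_H P hJ _ _ _ (mem_W_len P hn') ((P.B ⊓ P.N).inv_mem hh)
    rw [mul_inv_cancel_right] at this
    exact len_le P this

theorem len_S_S_mul {s n : G} (hs : s ∈ J) (hn : ∃ k, n ∈ W P J k) :
    len P J (s * (s * n)) = len P J n := by
  rw [← mul_assoc]
  exact len_H_mul P hJ (sq_mem_H P (hJ hs)) hn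

end

/-! ### uniqueness in the Bruhat decomposition -/

theorem bruhat_unique_aux : ∀ (k : ℕ) (n : G), n ∈ W P P.S k → ∀ n' : G, n' ∈ P.N →
    k ≤ len P P.S n' → n ∈ dc P n' → n⁻¹ * n' ∈ P.B := by
  have hS : P.S ⊆ P.S := le_refl _
  intro k
  induction k with
  | zero =>
    intro n hn n' hn' _ h
    have h1 : n' ∈ P.B := (mem_dc_of_mem_B P hn.1).1 (mem_dc_symm P h)
    exact P.B.mul_mem (P.B.inv_mem hn.1) h1
  | succ k ih =>
    intro n hn n' hn' hlen h
    obtain ⟨s, hs, m, hm, rfl⟩ := (mem_W_succ P).1 hn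
    have hmN : m ∈ P.N := W_subset_N P hS hm
    obtain ⟨b1, hb1, b2, hb2, e⟩ := (mem_dc P).1 h
    have em : m = s⁻¹ * b1 * n' * b2 := by
      have : m = s⁻¹ * (s * m) := by group
      rw [this, e]; group
    have hn'W := exists_W_of_mem_N P hn'
    rcases ax7_left_inv P hs hn' hb1 with h1 | h1
    · have h2 : m ∈ dc P (s * n') := by rw [em]; exact dc_mul_right P hb2 h1
      have hlen' : k ≤ len P P.S (s * n') := by
        have := len_le_S_mul P hS hs hn'W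
        omega
      have h3 := ih m hm (s * n') (P.N.mul_mem (P.subset hs) hn') hlen' h2
      have h4 : m⁻¹ * (s * s)⁻¹ * m ∈ P.B :=
        (H_conj' P hmN (sq_inv_mem_H P hS hs)).1
      have e2 : (s * m)⁻¹ * n' = (m⁻¹ * (s * s)⁻¹ * m) * (m⁻¹ * (s * n')) := by group
      rw [e2]
      exact P.B.mul_mem h4 h3
    · exfalso
      have h2 : m ∈ dc P n' := by rw [em]; exact dc_mul_right P hb2 h1
      have h3 := ih m hm n' hn' (by omega) h2
      have h4 : m⁻¹ * n' ∈ P.B ⊓ P.N := ⟨h3, P.N.mul_mem (P.N.inv_mem hmN) hn'⟩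
      have h5 : n' ∈ W P P.S k := by
        have := W_mul_H P hS _ _ _ hm h4
        rwa [mul_inv_cancel_left] at this
      have := len_le P h5
      omega

/-- Bruhat decomposition, uniqueness: `B n B = B n' B` forces `n⁻¹ n' ∈ B`. -/
theorem bruhat_unique {n n' : G} (hn : n ∈ P.N) (hn' : n' ∈ P.N) (h : n' ∈ dc P n) :
    n⁻¹ * n' ∈ P.B := by
  rcases le_total (len P P.S n) (len P P.S n') with hle | hle
  · exact bruhat_unique_aux P _ n (mem_W_len P (exists_W_of_mem_N P hn)) n' hn' hle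
      (mem_dc_symm P h)
  · have := bruhat_unique_aux P _ n' (mem_W_len P (exists_W_of_mem_N P hn')) n hn hle h
    have e : n⁻¹ * n' = (n'⁻¹ * n)⁻¹ := by group
    rw [e]
    exact P.B.inv_mem this

theorem bruhat_unique_H {n n' : G} (hn : n ∈ P.N) (hn' : n' ∈ P.N) (h : n' ∈ dc P n) :
    n⁻¹ * n' ∈ P.B ⊓ P.N :=
  ⟨bruhat_unique P hn hn' h, P.N.mul_mem (P.N.inv_mem hn) hn'⟩

theorem S_mul_not_mem_dc {s w : G} (hs : s ∈ P.S) (hw : w ∈ P.N) : s * w ∉ dc P w := by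
  intro h
  have h1 := bruhat_unique_H P hw (P.N.mul_mem (P.subset hs) hw) h
  have h2 := H_conj P hw h1
  have e : w * (w⁻¹ * (s * w)) * w⁻¹ = s := by group
  rw [e] at h2
  exact S_not_mem_B P hs h2.1

/-! ### the length lemmas -/

section
variable {J : Set G} (hJ : J ⊆ P.S)
include hJ

theorem claimA : ∀ (k : ℕ) (w : G), w ∈ W P J k → len P J w = k → ∀ s ∈ J,
    k ≤ len P J (s * w) → ∀ b ∈ P.B, s * b * w ∈ dc P (s * w) := by
  intro k
  induction k with
  | zero =>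
    intro w hw _ s _ _ b hb
    have hw' : w ∈ P.B := hw.1
    exact (mem_dc P).2 ⟨1, P.B.one_mem, w⁻¹ * b * w,
      P.B.mul_mem (P.B.mul_mem (P.B.inv_mem hw') hb) hw', by group⟩
  | succ k ih =>
    intro w hw hlen s hs hle b hb
    obtain ⟨t, ht, w', hw', rfl⟩ := W_right_decomp P hJ hw
    have hw'N : w' ∈ P.N := W_subset_N P hJ hw'
    have htN : t ∈ P.N := P.subset (hJ ht)
    have hsN : s ∈ P.N := P.subset (hJ hs)
    have hlen' : len P J w' = k := by
      apply le_antisymm (len_le P hw')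
      by_contra hcon
      have := len_mul_S_le P hJ ht ⟨k, hw'⟩
      omega
    have hsw' : ∃ j, s * w' ∈ W P J j := ⟨k + 1, S_mul_W P hJ hs hw'⟩
    have hk : k ≤ len P J (s * w') := by
      by_contra hcon
      have h1 := len_mul_S_le P hJ ht hsw'
      rw [mul_assoc] at h1
      omega
    have IH := ih w' hw' hlen' s hs hk
    rcases ax7 P (hJ hs) (P.N.mul_mem hw'N htN) hb with h | h
    · exact h
    · exfalso
      obtain ⟨b1, hb1, b2, hb2, e⟩ := (mem_dc P).1 h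
      have e' : s * b * w' = b1 * ((w' * t) * b2 * t⁻¹) := by
        have : s * b * w' = (s * b * (w' * t)) * t⁻¹ := by group
        rw [this, e]; group
      have e'' : w' * t * t⁻¹ = w' := by group
      rcases ax7_inv P (hJ ht) (P.N.mul_mem hw'N htN) hb2 with h1 | h1
      · rw [e''] at h1
        have h2 : s * b * w' ∈ dc P w' := by rw [e']; exact dc_mul_left P hb1 h1
        have h3 : s * w' ∈ dc P w' := mem_dc_trans P (mem_dc_symm P (IH b hb)) h2
        exact S_mul_not_mem_dc P (hJ hs) hw'N h3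
      · have h2 : s * b * w' ∈ dc P (w' * t) := by rw [e']; exact dc_mul_left P hb1 h1
        have h3 : w' * t ∈ dc P (s * w') := mem_dc_trans P (mem_dc_symm P h2) (IH b hb)
        have h4 := bruhat_unique_H P (P.N.mul_mem hsN hw'N) (P.N.mul_mem hw'N htN) h3
        have h5 : s * (w' * t) ∈ W P J k := by
          have e3 : s * (w' * t) = (s * s) * w' * ((s * w')⁻¹ * (w' * t)) := by group
          rw [e3]
          exact W_mul_H P hJ _ _ _ (H_mul_W P hJ _ _ _ (sq_mem_H P (hJ hs)) hw') h4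
        have := len_le P h5
        omega

theorem claimB {s w : G} (hs : s ∈ J) (hw : ∃ k, w ∈ W P J k)
    (h : len P J (s * w) < len P J w) : ∃ b ∈ P.B, s * b * w ∈ dc P w := by
  obtain ⟨b0, hb0, h0⟩ := exists_conj_mem_dc P (hJ hs)
  obtain ⟨b1, hb1, b2, hb2, e⟩ := (mem_dc P).1 h0
  have hsw := exists_W_S_mul P hJ hs hw
  have h1 := claimA P hJ _ (s * w) (mem_W_len P hsw) rfl s hs
    (by rw [len_S_S_mul P hJ hs hw]; omega) b2 hb2
  have e1 : s * (s * w) = (s * s) * w := by group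
  rw [e1, mem_dc_B_mul P (P.sq_mem s (hJ hs))] at h1
  refine ⟨b0, hb0, ?_⟩
  have e2 : s * b0 * w = b1 * (s * b2 * (s * w)) := by
    have : s * b0 * w = (s * b0 * s⁻¹) * (s * w) := by group
    rw [this, e]; group
  rw [e2]
  exact dc_mul_left P hb1 h1

theorem len_ne {s w : G} (hs : s ∈ J) (hw : ∃ k, w ∈ W P J k) :
    len P J (s * w) ≠ len P J w := by
  intro heq
  obtain ⟨b0, hb0, h0⟩ := exists_conj_mem_dc P (hJ hs)
  obtain ⟨b1, hb1, b2, hb2, e⟩ := (mem_dc P).1 h0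
  have hsw := exists_W_S_mul P hJ hs hw
  have hwN : w ∈ P.N := by obtain ⟨k, hk⟩ := hw; exact W_subset_N P hJ hk
  have h1 := claimA P hJ _ (s * w) (mem_W_len P hsw) rfl s hs
    (by rw [len_S_S_mul P hJ hs hw]; omega) b2 hb2
  have e1 : s * (s * w) = (s * s) * w := by group
  rw [e1, mem_dc_B_mul P (P.sq_mem s (hJ hs))] at h1
  have e2 : s * b0 * w = b1 * (s * b2 * (s * w)) := by
    have : s * b0 * w = (s * b0 * s⁻¹) * (s * w) := by group
    rw [this, e]; group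
  have h2 : s * b0 * w ∈ dc P w := by rw [e2]; exact dc_mul_left P hb1 h1
  have h3 := claimA P hJ _ w (mem_W_len P hw) rfl s hs (by omega) b0 hb0
  exact S_mul_not_mem_dc P (hJ hs) hwN (mem_dc_trans P (mem_dc_symm P h3) h2)

theorem len_lt_iff {s w : G} (hs : s ∈ J) (hw : ∃ k, w ∈ W P J k) :
    len P J w < len P J (s * w) ↔ ∀ b ∈ P.B, s * b * w ∈ dc P (s * w) := by
  have hwN : w ∈ P.N := by obtain ⟨k, hk⟩ := hw; exact W_subset_N P hJ hk
  constructor
  · intro h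
    exact claimA P hJ _ w (mem_W_len P hw) rfl s hs (by omega)
  · intro h
    by_contra hcon
    have hne := len_ne P hJ hs hw
    have hlt : len P J (s * w) < len P J w := by omega
    obtain ⟨b, hb, hb'⟩ := claimB P hJ hs hw hlt
    exact S_mul_not_mem_dc P (hJ hs) hwN (mem_dc_trans P (mem_dc_symm P (h b hb)) hb')

end

/-- the length with respect to a subset of generators agrees with the length with respect
to a larger one -/
theorem len_eq_of_subset {J K : Set G} (hJK : J ⊆ K) (hK : K ⊆ P.S) :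
    ∀ (k : ℕ) (w : G), w ∈ W P J k → len P J w = k → len P K w = k := by
  have hJ : J ⊆ P.S := hJK.trans hK
  intro k
  induction k with
  | zero =>
    intro w hw _
    exact Nat.le_zero.1 (len_le P (k := 0) (J := K) hw)
  | succ k ih =>
    intro w hw hlen
    obtain ⟨s, hs, m, hm, rfl⟩ := (mem_W_succ P).1 hw
    have hmJ : ∃ j, m ∈ W P J j := ⟨k, hm⟩
    have hmK : ∃ j, m ∈ W P K j := ⟨k, W_mono P hJK k m hm⟩
    have hlenm : len P J m = k := by
      apply le_antisymm (len_le P hm)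
      have := len_S_mul_le P hJ hs hmJ
      omega
    have h1 : len P J m < len P J (s * m) := by omega
    have h2 := (len_lt_iff P hJ hs hmJ).1 h1
    have h3 := (len_lt_iff P hK (hJK hs) hmK).2 h2
    have h4 := ih m hm hlenm
    have h5 : len P K (s * m) ≤ k + 1 := len_le P (W_mono P hJK _ _ hw)
    omega

theorem len_S_eq_one {s : G} (hs : s ∈ P.S) : len P P.S s = 1 := by
  have h1 : s ∈ W P P.S 1 := (mem_W_succ P).2 ⟨s, hs, 1, (P.B ⊓ P.N).one_mem, by group⟩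
  have h2 := len_le P h1
  have h3 : len P P.S s ≠ 0 := by
    intro h0
    have := (len_eq_zero_iff P ⟨1, h1⟩).1 h0
    exact S_not_mem_B P hs this.1
  omega

/-- `N_J ∩ S = J` -/
theorem mem_J_of_mem_W {J : Set G} (hJ : J ⊆ P.S) {s : G} (hs : s ∈ P.S)
    (h : ∃ k, s ∈ W P J k) : s ∈ J := by
  have h1 := len_eq_of_subset P hJ (le_refl _) _ s (mem_W_len P h) rfl
  rw [len_S_eq_one P hs] at h1
  have h2 := mem_W_len P h
  rw [← h1] at h2
  obtain ⟨t, ht, m, hm, e⟩ := (mem_W_succ P).1 h2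
  have h3 : t⁻¹ * s ∈ P.B := by
    have : t⁻¹ * s = m := by rw [e]; group
    rw [this]; exact hm.1
  have := P.inj t (hJ ht) s hs h3
  rw [← this]; exact ht

theorem mem_J_of_mem_parabolic {J : Set G} (hJ : J ⊆ P.S) {s : G} (hs : s ∈ P.S)
    (h : s ∈ P.parabolic J) : s ∈ J := by
  obtain ⟨n, hn, hsn⟩ := (mem_parabolic_iff P hJ s).1 h
  have hnN : n ∈ P.N := closure_le_N P hJ hn
  have h1 := bruhat_unique_H P hnN (P.subset hs) hsn
  obtain ⟨k, hk⟩ := exists_W_of_mem_closure P hJ hn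
  have h2 := W_mul_H P hJ _ _ _ hk h1
  rw [mul_inv_cancel_left] at h2
  exact mem_J_of_mem_W P hJ hs ⟨k, h2⟩

/-! ### descent and reduced words -/

theorem descent {s n : G} (hs : s ∈ P.S) (hn : n ∈ P.N)
    (h : len P P.S (s * n) < len P P.S n) (M : Subgroup G) (hB : P.B ≤ M)
    (hM : ∀ b ∈ P.B, n * b * n⁻¹ ∈ M) : s ∈ M := by
  obtain ⟨b, hb, hb'⟩ := claimB P (le_refl P.S) hs (exists_W_of_mem_N P hn) h
  obtain ⟨b1, hb1, b2, hb2, e⟩ := (mem_dc P).1 hb'
  have e' : s = b1 * (n * b2 * n⁻¹) * b⁻¹ := by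
    have : s = (s * b * n) * n⁻¹ * b⁻¹ := by group
    rw [this, e]; group
  rw [e']
  exact M.mul_mem (M.mul_mem (hB hb1) (hM b2 hb2)) (M.inv_mem (hB hb))

theorem reduced_mem (M : Subgroup G) (hB : P.B ≤ M) : ∀ (k : ℕ) (n : G), n ∈ W P P.S k →
    len P P.S n = k → (∀ b ∈ P.B, n * b * n⁻¹ ∈ M) → n ∈ W P (P.S ∩ (M : Set G)) k := by
  have hS : P.S ⊆ P.S := le_refl _
  intro k
  induction k with
  | zero => intro n hn _ _; exact hn
  | succ k ih =>
    intro n hn hlen hM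
    obtain ⟨s, hs, m, hm, rfl⟩ := (mem_W_succ P).1 hn
    have hmW : ∃ j, m ∈ W P P.S j := ⟨k, hm⟩
    have hmN : m ∈ P.N := W_subset_N P hS hm
    have hlenm : len P P.S m = k := by
      apply le_antisymm (len_le P hm)
      have := len_S_mul_le P hS hs hmW
      omega
    have h1 : len P P.S (s * (s * m)) < len P P.S (s * m) := by
      rw [len_S_S_mul P hS hs hmW]; omega
    have hsM : s ∈ M := descent P hs (P.N.mul_mem (P.subset hs) hmN) h1 M hB hM
    have hM' : ∀ b ∈ P.B, m * b * m⁻¹ ∈ M := by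
      intro b hb
      have e : m * b * m⁻¹ = s⁻¹ * ((s * m) * b * (s * m)⁻¹) * s := by group
      rw [e]
      exact M.mul_mem (M.mul_mem (M.inv_mem hsM) (hM b hb)) hsM
    exact (mem_W_succ P).2 ⟨s, ⟨hs, hsM⟩, m, ih m hm hlenm hM', rfl⟩

theorem reduced_mem' (M : Subgroup G) (hB : P.B ≤ M) {n : G} (hn : n ∈ P.N)
    (hM : ∀ b ∈ P.B, n * b * n⁻¹ ∈ M) :
    ∃ k, n ∈ W P (P.S ∩ (M : Set G)) k :=
  ⟨_, reduced_mem P M hB _ n (mem_W_len P (exists_W_of_mem_N P hn)) rfl hM⟩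

/-- if `M ⊇ B` contains `n B n⁻¹` for some `n ∈ N`, then `n ∈ M` -/
theorem mem_of_conj_mem (M : Subgroup G) (hB : P.B ≤ M) {n : G} (hn : n ∈ P.N)
    (hM : ∀ b ∈ P.B, n * b * n⁻¹ ∈ M) : n ∈ M := by
  obtain ⟨k, hk⟩ := reduced_mem' P M hB hn hM
  exact W_subset_subgroup P M (inf_le_left.trans hB) Set.inter_subset_right k n hk

/-- every subgroup containing `B` is the standard parabolic subgroup of `S ∩ M` -/
theorem eq_parabolic_of_B_le (M : Subgroup G) (hB : P.B ≤ M) :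
    M = P.parabolic (P.S ∩ (M : Set G)) := by
  apply le_antisymm
  · intro g hg
    obtain ⟨n, hn, hgn⟩ := bruhat_exists_N P g
    obtain ⟨b1, hb1, b2, hb2, e⟩ := (mem_dc P).1 hgn
    have hnM : n ∈ M := by
      have : n = b1⁻¹ * g * b2⁻¹ := by rw [e]; group
      rw [this]
      exact M.mul_mem (M.mul_mem (M.inv_mem (hB hb1)) hg) (M.inv_mem (hB hb2))
    obtain ⟨k, hk⟩ := reduced_mem' P M hB hn
      (fun b hb => M.mul_mem (M.mul_mem hnM (hB hb)) (M.inv_mem hnM))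
    have h1 : n ∈ P.parabolic (P.S ∩ (M : Set G)) :=
      W_subset_parabolic P Set.inter_subset_left hk
    rw [e]
    exact Subgroup.mul_mem _ (Subgroup.mul_mem _ (B_le_parabolic P _ hb1) h1)
      (B_le_parabolic P _ hb2)
  · exact parabolic_le P hB Set.inter_subset_right

end BN

end Cfsg.Agent.Helper2
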