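import Cfsg.Agent.Helper2.Cox

/-!
# Coxeter systems from a descent predicate; variant exposing the Coxeter matrix
-/

set_option autoImplicit false

namespace Cfsg.Agent.Helper2

namespace Cox

variable {B : Type*} {W : Type*} [Group W] (σ : B → W)

/-- A group generated by a family of distinct involutions satisfying the exchange condition
is a Coxeter system
(variant exposing the Coxeter matrix). -/
theorem exists_coxeterSystem' (hσ : ∀ i, σ i * σ i = 1) (hinj : Function.Injective σ)
    (hgen : ∀ w : W, ∃ ω, wp σ ω = w)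
    (hex : ∀ (i : B) (ω : List B), Red σ ω → ¬ Red σ (i :: ω) →
      ∃ (α : List B) (i' : B) (β : List B), ω = α ++ i' :: β ∧
        σ i * wp σ α = wp σ α * σ i') :
    ∃ (M : CoxeterMatrix B) (cs : CoxeterSystem M W),
      (∀ i j, M i j = orderOf (σ i * σ j)) ∧ ∀ i, cs.simple i = σ i := by
  classical
  have hinv : ∀ i j, σ j * σ i = (σ i * σ j)⁻¹ := by
    intro i j
    rw [eq_inv_iff_mul_eq_one]
    calc σ j * σ i * (σ i * σ j) = σ j * (σ i * σ i) * σ j := by group
      _ = 1 := by rw [hσ i, mul_one, hσ j]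
  let M : CoxeterMatrix B :=
    { M := fun i j => orderOf (σ i * σ j)
      isSymm := by
        apply Matrix.IsSymm.ext
        intro i j
        show orderOf (σ j * σ i) = orderOf (σ i * σ j)
        rw [hinv i j, orderOf_inv]
      diagonal := fun i => by
        show orderOf (σ i * σ i) = 1
        rw [hσ i, orderOf_one]
      off_diagonal := fun i j hij => by
        show orderOf (σ i * σ j) ≠ 1
        rw [Ne, orderOf_eq_one_iff]
        intro h
        apply hij
        apply hinj
        calc σ i = σ i * (σ j * σ j) := by rw [hσ j, mul_one]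
          _ = (σ i * σ j) * σ j := by rw [mul_assoc]
          _ = σ j := by rw [h, one_mul] }
  have hM : ∀ i j, M i j = orderOf (σ i * σ j) := fun i j => rfl
  let cs₀ := M.toCoxeterSystem
  let g : B → M.Group := cs₀.simple
  have hg : ∀ i, g i * g i = 1 := fun i => cs₀.simple_mul_simple_self i
  have hgb : ∀ x y, (g x * g y) ^ orderOf (σ x * σ y) = 1 :=
    fun x y => cs₀.simple_mul_simple_pow x y
  have hlift : M.IsLiftable σ := fun i j => by
    rw [hM]; exact pow_orderOf_eq_one _
  let φ : M.Group →* W := cs₀.lift ⟨σ, hlift⟩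
  have hφ : ∀ i, φ (g i) = σ i := fun i => cs₀.lift_apply_simple hlift i
  have hφw : ∀ ω, φ (wp g ω) = wp σ ω := by
    intro ω
    induction ω with
    | nil => rw [wp_nil, wp_nil, map_one]
    | cons i ω ih => rw [wp_cons, wp_cons, map_mul, hφ, ih]
  choose r hr1 hr2 using exists_red σ hgen
  have hψ1 : wp g (r 1) = 1 := by
    have h1 : (r 1).length ≤ ([] : List B).length := hr2 1 [] (by rw [wp_nil, hr1])
    have h2 : r 1 = [] := List.length_eq_zero_iff.1 (Nat.le_zero.1 h1)
    rw [h2, wp_nil]
  have hψ : ∀ (i : B) (w : W), wp g (r (σ i * w)) = g i * wp g (r w) := by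
    intro i w
    by_cases hred : Red σ (i :: r w)
    · have h1 := wp_eq_of_red σ g hσ hg hgb hex (hr2 (σ i * w)) hred
        (by rw [hr1, wp_cons, hr1])
      rw [h1, wp_cons]
    · obtain ⟨α, i', β, hαβ, hx⟩ := hex i (r w) (hr2 w) hred
      have h1 : wp σ (α ++ β) = σ i * w := by
        have hw : w = wp σ α * (σ i' * wp σ β) := by
          rw [← wp_cons, ← wp_append, ← hαβ, hr1]
        calc wp σ (α ++ β) = wp σ α * wp σ β := wp_append σ α β
          _ = wp σ α * (σ i' * σ i') * wp σ β := by rw [hσ i', mul_one]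
          _ = (wp σ α * σ i') * (σ i' * wp σ β) := by group
          _ = (σ i * wp σ α) * (σ i' * wp σ β) := by rw [hx]
          _ = σ i * (wp σ α * (σ i' * wp σ β)) := by group
          _ = σ i * w := by rw [← hw]
      have hlen : (α ++ β).length + 1 = (r w).length := by
        rw [hαβ]
        simp only [List.length_append, List.length_cons]
        omega
      have h2 : (r (σ i * w)).length ≤ (α ++ β).length :=
        hr2 (σ i * w) (α ++ β) (by rw [h1, hr1])
      have h3 : wp σ (i :: r (σ i * w)) = wp σ (r w) := by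
        rw [wp_cons, hr1, hr1, ← mul_assoc, hσ i, one_mul]
      have h4 : (r w).length ≤ (i :: r (σ i * w)).length := hr2 w _ h3
      have h5 : Red σ (i :: r (σ i * w)) :=
        red_of_eq σ (hr2 w) h3 (by
          simp only [List.length_cons] at h4 ⊢
          omega)
      have h6 := wp_eq_of_red σ g hσ hg hgb hex (hr2 w) h5 h3.symm
      rw [h6, wp_cons, ← mul_assoc, hg i, one_mul]
  have hψw : ∀ ω, wp g (r (wp σ ω)) = wp g ω := by
    intro ω
    induction ω with
    | nil => rw [wp_nil σ, wp_nil g]; exact hψ1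
    | cons i ω ih => rw [wp_cons, hψ, ih, wp_cons]
  have hinjφ : Function.Injective φ := by
    intro c c' h
    obtain ⟨ω, rfl⟩ := cs₀.wordProd_surjective c
    obtain ⟨ω', rfl⟩ := cs₀.wordProd_surjective c'
    have h' : wp σ ω = wp σ ω' := by
      rw [← hφw, ← hφw]; exact h
    have h2 := congrArg (fun w => wp g (r w)) h'
    simp only [hψw] at h2
    exact h2
  have hsurjφ : Function.Surjective φ := by
    intro w
    obtain ⟨ω, rfl⟩ := hgen w
    exact ⟨wp g ω, hφw ω⟩
  let e : M.Group ≃* W := MulEquiv.ofBijective φ ⟨hinjφ, hsurjφ⟩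
  refine ⟨M, ⟨e.symm⟩, hM, ?_⟩
  intro i
  have h1 : (⟨e.symm⟩ : CoxeterSystem M W).simple i = e (PresentedGroup.of i) := rfl
  rw [h1]
  exact hφ i

/-- The exchange condition from a "descent" predicate `D i w` (Bourbaki IV §1.7). -/
theorem exchange_of_descent (hσ : ∀ i, σ i * σ i = 1) (D : B → W → Prop)
    (d0 : ∀ i, ¬ D i 1) (d1 : ∀ i w, ¬ D i w → D i (σ i * w))
    (d2 : ∀ i j w, ¬ D i w → D i (w * σ j) → σ i * w = w * σ j) :
    ∀ (i : B) (ω : List B), Red σ ω → ¬ Red σ (i :: ω) →
      ∃ (α : List B) (i' : B) (β : List B), ω = α ++ i' :: β ∧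
        σ i * wp σ α = wp σ α * σ i' := by
  have hfind : ∀ (i : B) (β α : List B), ¬ D i (wp σ α) → D i (wp σ (α ++ β)) →
      ∃ (α' : List B) (i' : B) (β' : List B), α ++ β = α' ++ i' :: β' ∧
        σ i * wp σ α' = wp σ α' * σ i' := by
    intro i β
    induction β with
    | nil =>
      intro α h1 h2
      rw [List.append_nil] at h2
      exact absurd h2 h1
    | cons b β ih =>
      intro α h1 h2
      have e0 : (α ++ [b]) ++ β = α ++ b :: β := by simp
      by_cases h3 : D i (wp σ (α ++ [b]))
      · refine ⟨α, b, β, rfl, ?_⟩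
        rw [wp_append, wp_singleton] at h3
        exact d2 i b _ h1 h3
      · obtain ⟨α', i', β', e, h4⟩ := ih (α ++ [b]) h3 (by rw [e0]; exact h2)
        exact ⟨α', i', β', by rw [← e0]; exact e, h4⟩
  have F1 : ∀ (i : B) (ω : List B), D i (wp σ ω) →
      ∃ (α : List B) (i' : B) (β : List B), ω = α ++ i' :: β ∧
        σ i * wp σ α = wp σ α * σ i' := by
    intro i ω h
    obtain ⟨α, i', β, e, h'⟩ := hfind i ω [] (by rw [wp_nil]; exact d0 i)
      (by rw [List.nil_append]; exact h)
    exact ⟨α, i', β, (List.nil_append ω).symm.trans e, h'⟩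
  intro i ω hred hnr
  by_cases hD : D i (wp σ ω)
  · exact F1 i ω hD
  · exfalso
    have hex2 : ∃ ω₂ : List B, wp σ ω₂ = wp σ (i :: ω) ∧ ω₂.length < (i :: ω).length := by
      by_contra hcon
      apply hnr
      intro ω₂ h2
      by_contra hlt
      exact hcon ⟨ω₂, h2, by omega⟩
    obtain ⟨ω₂, h2, hlt⟩ := hex2
    have hD2 : D i (wp σ ω₂) := by
      rw [h2, wp_cons]; exact d1 i _ hD
    obtain ⟨α, i', β, rfl, hx⟩ := F1 i ω₂ hD2
    have h3 : wp σ (α ++ β) = wp σ ω := by
      have hw : σ i * wp σ ω = wp σ α * (σ i' * wp σ β) := by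
        rw [← wp_cons σ i ω, ← h2, wp_append, wp_cons]
      calc wp σ (α ++ β) = wp σ α * wp σ β := wp_append σ α β
        _ = wp σ α * (σ i' * σ i') * wp σ β := by rw [hσ i', mul_one]
        _ = (wp σ α * σ i') * (σ i' * wp σ β) := by group
        _ = (σ i * wp σ α) * (σ i' * wp σ β) := by rw [hx]
        _ = σ i * (wp σ α * (σ i' * wp σ β)) := by group
        _ = σ i * (σ i * wp σ ω) := by rw [← hw]
        _ = (σ i * σ i) * wp σ ω := by group
        _ = wp σ ω := by rw [hσ i, one_mul]
    have h4 := hred _ h3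
    simp only [List.length_append, List.length_cons] at h4 hlt
    omega

end Cox

end Cfsg.Agent.Helper2
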