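import Cfsg.Agent.Helper2.BN2

/-!
# (B, N)-pairs: rank one parabolics, and the key lemma for the simplicity criterion.
-/

set_option autoImplicit false

namespace Cfsg.Agent.Helper2

namespace BN

variable {G : Type*} [Group G] (P : Cfsg.BNPair G)

theorem mem_parabolic_singleton {s : G} (hs : s ∈ P.S) (g : G) :
    g ∈ P.parabolic {s} ↔ g ∈ P.B ∨ g ∈ dc P s := by
  have hJ : ({s} : Set G) ⊆ P.S := Set.singleton_subset_iff.2 hs
  constructor
  · intro hg
    obtain ⟨n, hn, hg⟩ := (mem_parabolic_iff P hJ g).1 hg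
    rw [Subgroup.mem_closure_singleton] at hn
    obtain ⟨k, rfl⟩ := hn
    have hsq : ∀ j : ℤ, (s * s) ^ j ∈ P.B := fun j => P.B.zpow_mem (P.sq_mem s hs) j
    rcases Int.even_or_odd' k with ⟨j, rfl | rfl⟩
    · left
      have e : s ^ (2 * j) = (s * s) ^ j := by rw [zpow_mul, zpow_two]
      rw [e] at hg
      exact (mem_dc_of_mem_B P (hsq j)).1 hg
    · right
      have e : s ^ (2 * j + 1) = (s * s) ^ j * s := by rw [zpow_add, zpow_mul, zpow_two, zpow_one]
      rw [e] at hg
      exact (mem_dc_B_mul P (hsq j)).1 hg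
  · rintro (hg | hg)
    · exact B_le_parabolic P _ hg
    · exact dc_subset_parabolic P (Subgroup.subset_closure rfl) hg

theorem len_Sinv_eq_one {s : G} (hs : s ∈ P.S) : len P P.S s⁻¹ = 1 := by
  have e : s⁻¹ = s * (s * s)⁻¹ := by group
  rw [e, len_mul_H P (le_refl _) (sq_inv_mem_H P (le_refl _) hs) (exists_W_of_mem_N P (P.subset hs))]
  exact len_S_eq_one P hs

/-- Key lemma for the simplicity criterion: if `Z B = P_X` with `Z` normal, then the elements of
`X` commute with those of `S \ X` modulo `B ⊓ N`. -/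
theorem commute_of_normal {Z : Subgroup G} (hZ : Z.Normal) {X : Set G} (hX : X ⊆ P.S)
    (hM : Z ⊔ P.B = P.parabolic X) {s s' : G} (hs : s ∈ X) (hs' : s' ∈ P.S) (hs'X : s' ∉ X) :
    s * s' * s⁻¹ * s'⁻¹ ∈ P.B := by
  have hS : P.S ⊆ P.S := le_refl _
  have hsS : s ∈ P.S := hX hs
  have hsN : s ∈ P.N := P.subset hsS
  have hs'N : s' ∈ P.N := P.subset hs'
  have hne : s ≠ s' := fun h => hs'X (h ▸ hs)
  -- `s = z * b`
  have h1 : s ∈ ((Z ⊔ P.B : Subgroup G) : Set G) := by
    rw [hM]; exact subset_parabolic P hs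
  rw [Subgroup.normal_mul] at h1
  obtain ⟨z, hz, b, hb, hzb⟩ := Set.mem_mul.1 h1
  have hz' : z = s * b⁻¹ := by rw [← hzb]; group
  -- `y = s' z s'⁻¹ ∈ Z ≤ P_X`
  have hy : s' * z * s'⁻¹ ∈ P.parabolic X := by
    rw [← hM]; exact (le_sup_left : Z ≤ Z ⊔ P.B) (hZ.conj_mem z hz s')
  have ey : s' * z * s'⁻¹ = (s' * s) * b⁻¹ * s'⁻¹ := by rw [hz']; group
  rw [ey] at hy
  obtain ⟨m, hm, hym⟩ := (mem_parabolic_iff P hX _).1 hy
  have hmN : m ∈ P.N := closure_le_N P hX hm
  have hmNJ : m ∈ NJ P hX := closure_sup_le_NJ P hX (le_sup_left (b := P.B ⊓ P.N) hm)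
  have hsNJ : s ∈ NJ P hX :=
    closure_sup_le_NJ P hX (le_sup_left (b := P.B ⊓ P.N) (Subgroup.subset_closure hs))
  have hHNJ : ∀ h ∈ P.B ⊓ P.N, h ∈ NJ P hX := fun h hh =>
    closure_sup_le_NJ P hX (le_sup_right (a := Subgroup.closure X) hh)
  -- `s s'⁻¹ ∉ H`
  have hv : s * s'⁻¹ ∉ P.B ⊓ P.N := by
    intro hv
    have h2 : s⁻¹ * (s * s'⁻¹)⁻¹ * s ∈ P.B ⊓ P.N :=
      H_conj' P hsN ((P.B ⊓ P.N).inv_mem hv)
    have e : s⁻¹ * (s * s'⁻¹)⁻¹ * s = s⁻¹ * s' := by group
    rw [e] at h2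
    exact hne (P.inj s hsS s' hs' h2.1)
  rcases ax7_inv P hs' (P.N.mul_mem hs'N hsN) (P.B.inv_mem hb) with h | h
  · -- main case: `u = s' s s'⁻¹ ∈ N_X`
    have h2 := bruhat_unique_H P hmN (P.N.mul_mem (P.N.mul_mem hs'N hsN) (P.N.inv_mem hs'N))
      (mem_dc_trans P (mem_dc_symm P h) hym)
    have huNJ : s' * s * s'⁻¹ ∈ NJ P hX := by
      have e : s' * s * s'⁻¹ = m * (m⁻¹ * (s' * s * s'⁻¹)) := by group
      rw [e]; exact (NJ P hX).mul_mem hmNJ (hHNJ _ h2)
    have huN : s' * s * s'⁻¹ ∈ P.N := P.N.mul_mem (P.N.mul_mem hs'N hsN) (P.N.inv_mem hs'N)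
    have huP : s' * s * s'⁻¹ ∈ P.parabolic X := by
      obtain ⟨k, hk⟩ := (mem_NJ P hX).1 huNJ
      exact W_subset_parabolic P hX hk
    -- lengths
    have hs'invW : ∃ k, s'⁻¹ ∈ W P P.S k := exists_W_of_mem_N P (P.N.inv_mem hs'N)
    have hvW : ∃ k, s * s'⁻¹ ∈ W P P.S k := exists_W_of_mem_N P (P.N.mul_mem hsN (P.N.inv_mem hs'N))
    have hlv : len P P.S (s * s'⁻¹) = 2 := by
      have a1 := len_ne P hS hsS hs'invW
      have a2 := len_S_mul_le P hS hsS hs'invW
      rw [len_Sinv_eq_one P hs'] at a1 a2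
      have a3 : len P P.S (s * s'⁻¹) ≠ 0 := fun h0 => hv ((len_eq_zero_iff P hvW).1 h0)
      omega
    have eu : s' * s * s'⁻¹ = s' * (s * s'⁻¹) := by group
    have hlu : len P P.S (s' * s * s'⁻¹) = 1 ∨ len P P.S (s' * s * s'⁻¹) = 3 := by
      have a1 := len_ne P hS hs' hvW
      have a2 := len_S_mul_le P hS hs' hvW
      rw [← eu, hlv] at a1 a2
      have a3 : len P P.S (s' * s * s'⁻¹) ≠ 0 := by
        intro h0
        have h3 := (len_eq_zero_iff P (exists_W_of_mem_N P huN)).1 h0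
        have h4 := H_conj' P hs'N h3
        have e : s'⁻¹ * (s' * s * s'⁻¹) * s' = s := by group
        rw [e] at h4
        exact S_not_mem_B P hsS h4.1
      omega
    rcases hlu with hlu | hlu
    · -- `u = t h`
      have huW := mem_W_len P (exists_W_of_mem_N P huN)
      rw [hlu] at huW
      obtain ⟨t, ht, h0, hh0, e0⟩ := (mem_W_succ P).1 huW
      have htN : t ∈ P.N := P.subset ht
      have htX : t ∈ X := by
        apply mem_J_of_mem_W P hX ht
        apply (mem_NJ P hX).1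
        have e : t = (s' * s * s'⁻¹) * h0⁻¹ := by rw [e0]; group
        rw [e]
        exact (NJ P hX).mul_mem huNJ (hHNJ _ ((P.B ⊓ P.N).inv_mem hh0))
      -- `w = s' s` has length 2 and `t` is a left descent
      have hwN : s' * s ∈ P.N := P.N.mul_mem hs'N hsN
      have hlw : len P P.S (s' * s) = 2 := by
        have a1 := len_ne P hS hs' (exists_W_of_mem_N P hsN)
        have a2 := len_S_mul_le P hS hs' (exists_W_of_mem_N P hsN)
        rw [len_S_eq_one P hsS] at a1 a2
        have a3 : len P P.S (s' * s) ≠ 0 := by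
          intro h0'
          have h3 := (len_eq_zero_iff P (exists_W_of_mem_N P hwN)).1 h0'
          have h4 : (s' * s)⁻¹ * (s' * s') ∈ P.B ⊓ P.N :=
            (P.B ⊓ P.N).mul_mem ((P.B ⊓ P.N).inv_mem h3) (sq_mem_H P hs')
          have e : (s' * s)⁻¹ * (s' * s') = s⁻¹ * s' := by group
          rw [e] at h4
          exact hne (P.inj s hsS s' hs' h4.1)
        omega
      have hdesc : len P P.S (t * (s' * s)) < len P P.S (s' * s) := by
        have e : t * (s' * s) = (t * t * h0) * s' := by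
          have : s' * s = (s' * s * s'⁻¹) * s' := by group
          rw [this, e0]; group
        rw [e, len_H_mul P hS ((P.B ⊓ P.N).mul_mem (sq_mem_H P ht) hh0)
          (exists_W_of_mem_N P hs'N), len_S_eq_one P hs', hlw]
        omega
      have hpair : ({s', s} : Set G) ⊆ P.S := by
        intro x hx
        rcases hx with rfl | rfl
        · exact hs'
        · exact hsS
      have hwM : s' * s ∈ P.parabolic {s', s} :=
        (P.parabolic {s', s}).mul_mem (subset_parabolic P (Set.mem_insert _ _))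
          (subset_parabolic P (Set.mem_insert_of_mem _ rfl))
      have htM : t ∈ P.parabolic {s', s} :=
        descent P ht hwN hdesc _ (B_le_parabolic P _)
          (fun b hb => Subgroup.mul_mem _ (Subgroup.mul_mem _ hwM (B_le_parabolic P _ hb))
            (Subgroup.inv_mem _ hwM))
      have htpair := mem_J_of_mem_parabolic P hpair ht htM
      rcases htpair with ht' | ht'
      · -- `t = s'`: then `s s'⁻¹ ∈ H`
        exfalso
        apply hv
        have e : s * s'⁻¹ = h0 := by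
          have : s * s'⁻¹ = s'⁻¹ * (s' * s * s'⁻¹) := by group
          rw [this, e0, ht']; group
        rw [e]; exact hh0
      · -- `t = s`
        have ht'' : t = s := ht'
        rw [ht''] at e0
        have h5 : s * h0 * s⁻¹ ∈ P.B ⊓ P.N := H_conj P hsN hh0
        have e : s * s' * s⁻¹ * s'⁻¹ = (s * h0 * s⁻¹)⁻¹ := by
          have : s * s' * s⁻¹ * s'⁻¹ = ((s' * s * s'⁻¹) * s⁻¹)⁻¹ := by group
          rw [this, e0]
        rw [e]
        exact P.B.inv_mem h5.1
    · -- `l(u) = 3`: then `s'` is a descent, so lies in `P_X`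
      exfalso
      have hdesc : len P P.S (s' * (s' * s * s'⁻¹)) < len P P.S (s' * s * s'⁻¹) := by
        rw [hlu, eu, len_S_S_mul P hS hs' hvW, hlv]
        omega
      have := descent P hs' huN hdesc (P.parabolic X) (B_le_parabolic P _)
        (fun b hb => Subgroup.mul_mem _ (Subgroup.mul_mem _ huP (B_le_parabolic P _ hb))
          (Subgroup.inv_mem _ huP))
      exact hs'X (mem_J_of_mem_parabolic P hX hs' this)
  · -- `s' s ∈ N_X`, so `s' ∈ N_X`
    exfalso
    have h2 := bruhat_unique_H P hmN (P.N.mul_mem hs'N hsN)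
      (mem_dc_trans P (mem_dc_symm P h) hym)
    have h3 : s' ∈ NJ P hX := by
      have e : s' = m * (m⁻¹ * (s' * s)) * s⁻¹ := by group
      rw [e]
      exact (NJ P hX).mul_mem ((NJ P hX).mul_mem hmNJ (hHNJ _ h2)) ((NJ P hX).inv_mem hsNJ)
    exact hs'X (mem_J_of_mem_W P hX hs' ((mem_NJ P hX).1 h3))

end BN

end Cfsg.Agent.Helper2
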