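import Mathlib
import Cfsg.Prelude.Def_Involutions

/-!
# Helper lemmas on involutions, conjugates and strongly embedded subgroups.
-/

set_option autoImplicit false

namespace Cfsg.Agent.Helper2

variable {G : Type*} [Group G]

theorem orderOf_eq_two_iff' {x : G} : orderOf x = 2 ↔ x * x = 1 ∧ x ≠ 1 := by
  have := Fact.mk Nat.prime_two
  rw [orderOf_eq_prime_iff, pow_two]

theorem orderOf_conj_eq (g x : G) : orderOf (g * x * g⁻¹) = orderOf x := by
  have := (MulAut.conj g).orderOf_eq x
  rwa [MulAut.conj_apply] at this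

theorem orderOf_conj_eq' (g x : G) : orderOf (g⁻¹ * x * g) = orderOf x := by
  have := orderOf_conj_eq g⁻¹ x
  rwa [inv_inv] at this

theorem mem_map_conj {H : Subgroup G} {g x : G} :
    x ∈ H.map (MulAut.conj g).toMonoidHom ↔ g⁻¹ * x * g ∈ H := by
  rw [Subgroup.mem_map]
  constructor
  · rintro ⟨y, hy, rfl⟩
    have : g⁻¹ * ((MulAut.conj g).toMonoidHom y) * g = y := by
      show g⁻¹ * (g * y * g⁻¹) * g = y
      group
    rw [this]; exact hy
  · intro h
    refine ⟨g⁻¹ * x * g, h, ?_⟩
    show g * (g⁻¹ * x * g) * g⁻¹ = x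
    group

theorem exists_involution_of_even [Finite G] (K : Subgroup G) (h : Even (Nat.card K)) :
    ∃ t ∈ K, orderOf t = 2 := by
  have := Fact.mk Nat.prime_two
  obtain ⟨x, hx⟩ := exists_prime_orderOf_dvd_card' (G := K) 2 (even_iff_two_dvd.1 h)
  exact ⟨x.1, x.2, by rw [← hx, Subgroup.orderOf_coe]⟩

theorem even_card_of_involution_mem [Finite G] {K : Subgroup G} {t : G} (ht : t ∈ K)
    (h2 : orderOf t = 2) : Even (Nat.card K) := by
  rw [even_iff_two_dvd, ← h2, ← Subgroup.orderOf_mk t ht]
  exact orderOf_dvd_natCard _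

theorem odd_card_iff_no_involution [Finite G] (K : Subgroup G) :
    Odd (Nat.card K) ↔ ∀ t ∈ K, orderOf t ≠ 2 := by
  rw [← Nat.not_even_iff_odd]
  constructor
  · intro h t ht h2
    exact h (even_card_of_involution_mem ht h2)
  · intro h he
    obtain ⟨t, ht, h2⟩ := exists_involution_of_even K he
    exact h t ht h2

/-- A convenient reformulation of strong embedding in a finite group. -/
theorem stronglyEmbedded_iff [Finite G] (H : Subgroup G) :
    Cfsg.IsStronglyEmbedded H ↔ H ≠ ⊤ ∧ Even (Nat.card H) ∧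
      ∀ g : G, g ∉ H → ∀ t ∈ H, orderOf t = 2 → g⁻¹ * t * g ∉ H := by
  unfold Cfsg.IsStronglyEmbedded
  refine and_congr Iff.rfl (and_congr Iff.rfl (forall_congr' fun g => forall_congr' fun _ => ?_))
  rw [odd_card_iff_no_involution]
  constructor
  · intro h t ht h2 hcon
    exact h t ⟨ht, mem_map_conj.2 hcon⟩ h2
  · intro h t ht h2
    exact h t ht.1 h2 (mem_map_conj.1 ht.2)

theorem mem_centralizer_singleton {g t : G} :
    g ∈ Subgroup.centralizer ({t} : Set G) ↔ t * g = g * t := by
  rw [Subgroup.mem_centralizer_iff]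
  simp

end Cfsg.Agent.Helper2
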