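import Mathlib
import Cfsg.Prelude.Def_LieExceptional

/-!
# Basic facts on (B, N)-pairs: double cosets, the axioms in convenient forms,
# the existence part of the Bruhat decomposition for standard parabolic subgroups.
-/

set_option autoImplicit false

namespace Cfsg.Agent.Helper2

namespace BN

variable {G : Type*} [Group G] (P : Cfsg.BNPair G)

/-- the double coset `B n B` -/
abbrev dc (n : G) : Set G := DoubleCoset.doubleCoset n (P.B : Set G) P.B

theorem mem_dc {n g : G} : g ∈ dc P n ↔ ∃ b ∈ P.B, ∃ b' ∈ P.B, g = b * n * b' :=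
  DoubleCoset.mem_doubleCoset

theorem self_mem_dc (n : G) : n ∈ dc P n := DoubleCoset.mem_doubleCoset_self _ _ _

theorem dc_eq_of_mem {n g : G} (h : g ∈ dc P n) : dc P g = dc P n :=
  DoubleCoset.doubleCoset_eq_of_mem h

theorem mem_dc_symm {n g : G} (h : g ∈ dc P n) : n ∈ dc P g := by
  rw [dc_eq_of_mem P h]; exact self_mem_dc P n

theorem mem_dc_trans {n m g : G} (h : g ∈ dc P n) (h' : n ∈ dc P m) : g ∈ dc P m := by
  rw [← dc_eq_of_mem P h']; exact h

theorem dc_mul_left {n g b : G} (hb : b ∈ P.B) (h : g ∈ dc P n) : b * g ∈ dc P n := by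
  obtain ⟨b1, hb1, b2, hb2, rfl⟩ := (mem_dc P).1 h
  exact (mem_dc P).2 ⟨b * b1, P.B.mul_mem hb hb1, b2, hb2, by group⟩

theorem dc_mul_right {n g b : G} (hb : b ∈ P.B) (h : g ∈ dc P n) : g * b ∈ dc P n := by
  obtain ⟨b1, hb1, b2, hb2, rfl⟩ := (mem_dc P).1 h
  exact (mem_dc P).2 ⟨b1, hb1, b2 * b, P.B.mul_mem hb2 hb, by group⟩

theorem mem_dc_of_mem_B {n g : G} (hn : n ∈ P.B) : g ∈ dc P n ↔ g ∈ P.B := by
  constructor
  · intro h
    obtain ⟨b1, hb1, b2, hb2, rfl⟩ := (mem_dc P).1 h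
    exact P.B.mul_mem (P.B.mul_mem hb1 hn) hb2
  · intro hg
    exact (mem_dc P).2 ⟨g * n⁻¹, P.B.mul_mem hg (P.B.inv_mem hn), 1, P.B.one_mem, by group⟩

theorem dc_inv {n g : G} (h : g ∈ dc P n) : g⁻¹ ∈ dc P n⁻¹ := by
  obtain ⟨b1, hb1, b2, hb2, rfl⟩ := (mem_dc P).1 h
  exact (mem_dc P).2 ⟨b2⁻¹, P.B.inv_mem hb2, b1⁻¹, P.B.inv_mem hb1, by group⟩

/-- changing the representative on the right by an element of `B` -/
theorem mem_dc_mul_B {n b g : G} (hb : b ∈ P.B) : g ∈ dc P (n * b) ↔ g ∈ dc P n := by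
  have h : n * b ∈ dc P n := dc_mul_right P hb (self_mem_dc P n)
  rw [dc_eq_of_mem P h]

/-- changing the representative on the left by an element of `B` -/
theorem mem_dc_B_mul {n b g : G} (hb : b ∈ P.B) : g ∈ dc P (b * n) ↔ g ∈ dc P n := by
  have h : b * n ∈ dc P n := dc_mul_left P hb (self_mem_dc P n)
  rw [dc_eq_of_mem P h]

/-! ### the subgroup `H = B ⊓ N` -/

theorem S_mem_N {s : G} (hs : s ∈ P.S) : s ∈ P.N := P.subset hs

theorem sq_mem_H {s : G} (hs : s ∈ P.S) : s * s ∈ P.B ⊓ P.N :=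
  ⟨P.sq_mem s hs, P.N.mul_mem (P.subset hs) (P.subset hs)⟩

theorem H_le_B {h : G} (hh : h ∈ P.B ⊓ P.N) : h ∈ P.B := hh.1

theorem H_le_N {h : G} (hh : h ∈ P.B ⊓ P.N) : h ∈ P.N := hh.2

theorem H_conj {n t : G} (hn : n ∈ P.N) (ht : t ∈ P.B ⊓ P.N) : n * t * n⁻¹ ∈ P.B ⊓ P.N :=
  ⟨P.conj_mem n hn t ht, P.N.mul_mem (P.N.mul_mem hn ht.2) (P.N.inv_mem hn)⟩

theorem H_conj' {n t : G} (hn : n ∈ P.N) (ht : t ∈ P.B ⊓ P.N) : n⁻¹ * t * n ∈ P.B ⊓ P.N := by
  have := H_conj P (P.N.inv_mem hn) ht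
  rwa [inv_inv] at this

theorem sq_inv_mem_B {s : G} (hs : s ∈ P.S) : (s * s)⁻¹ ∈ P.B := P.B.inv_mem (P.sq_mem s hs)

theorem S_not_mem_B {s : G} (hs : s ∈ P.S) : s ∉ P.B := by
  intro h
  apply P.conj_ne s hs
  ext g
  constructor
  · rintro ⟨b, hb, rfl⟩
    exact P.B.mul_mem (P.B.mul_mem h hb) h
  · intro hg
    exact ⟨s⁻¹ * g * s⁻¹, P.B.mul_mem (P.B.mul_mem (P.B.inv_mem h) hg) (P.B.inv_mem h), by group⟩

/-! ### the double coset axiom in several forms -/

theorem ax7 {s n b : G} (hs : s ∈ P.S) (hn : n ∈ P.N) (hb : b ∈ P.B) :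
    s * b * n ∈ dc P (s * n) ∨ s * b * n ∈ dc P n :=
  P.mul_mem_union s hs n hn b hb

theorem ax7_inv {s n b : G} (hs : s ∈ P.S) (hn : n ∈ P.N) (hb : b ∈ P.B) :
    n * b * s⁻¹ ∈ dc P (n * s⁻¹) ∨ n * b * s⁻¹ ∈ dc P n := by
  have e1 : n * b * s⁻¹ = (s * b⁻¹ * n⁻¹)⁻¹ := by group
  have e2 : n * s⁻¹ = (s * n⁻¹)⁻¹ := by group
  rcases ax7 P hs (P.N.inv_mem hn) (P.B.inv_mem hb) with h | h
  · left; rw [e1, e2]; exact dc_inv P h
  · right
    have h' := dc_inv P h
    rw [inv_inv] at h'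
    rw [e1]; exact h'

theorem ax7_left_inv {s n b : G} (hs : s ∈ P.S) (hn : n ∈ P.N) (hb : b ∈ P.B) :
    s⁻¹ * b * n ∈ dc P (s * n) ∨ s⁻¹ * b * n ∈ dc P n := by
  have e : s⁻¹ * b * n = (s * s)⁻¹ * (s * b * n) := by group
  rw [e]
  rcases ax7 P hs hn hb with h | h
  · left; exact dc_mul_left P (sq_inv_mem_B P hs) h
  · right; exact dc_mul_left P (sq_inv_mem_B P hs) h

/-- `s B s ≠ B` gives an element `b` of `B` with `s b s⁻¹ ∈ B s B`. -/
theorem exists_conj_mem_dc {s : G} (hs : s ∈ P.S) : ∃ b ∈ P.B, s * b * s⁻¹ ∈ dc P s := by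
  have h1 : ∃ b ∈ P.B, s * b * s ∉ P.B := by
    by_contra hcon
    push Not at hcon
    apply P.conj_ne s hs
    ext g
    constructor
    · rintro ⟨b, hb, rfl⟩
      exact hcon b hb
    · intro hg
      refine ⟨(s * s)⁻¹ * (s * g * s) * (s * s)⁻¹, ?_, by group⟩
      exact P.B.mul_mem (P.B.mul_mem (sq_inv_mem_B P hs) (hcon g hg)) (sq_inv_mem_B P hs)
  obtain ⟨b, hb, hnb⟩ := h1
  refine ⟨b, hb, ?_⟩
  have e : s * b * s⁻¹ = s * b * s * (s * s)⁻¹ := by group
  rw [e]
  apply dc_mul_right P (sq_inv_mem_B P hs)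
  rcases ax7 P hs (S_mem_N P hs) hb with h | h
  · exact absurd ((mem_dc_of_mem_B P (P.sq_mem s hs)).1 h) hnb
  · exact h

/-! ### parabolic subgroups -/

theorem parabolic_eq_closure (J : Set G) :
    P.parabolic J = Subgroup.closure ((P.B : Set G) ∪ J) := by
  rw [Cfsg.BNPair.parabolic, Subgroup.closure_union, Subgroup.closure_eq]

theorem B_le_parabolic (J : Set G) : P.B ≤ P.parabolic J := by
  rw [Cfsg.BNPair.parabolic]; exact le_sup_left

theorem closure_le_parabolic (J : Set G) : Subgroup.closure J ≤ P.parabolic J := by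
  rw [Cfsg.BNPair.parabolic]; exact le_sup_right

theorem subset_parabolic {J : Set G} {s : G} (hs : s ∈ J) : s ∈ P.parabolic J :=
  closure_le_parabolic P J (Subgroup.subset_closure hs)

theorem parabolic_mono {J K : Set G} (h : J ⊆ K) : P.parabolic J ≤ P.parabolic K := by
  rw [Cfsg.BNPair.parabolic, Cfsg.BNPair.parabolic]
  exact sup_le_sup_left (Subgroup.closure_mono h) _

theorem parabolic_le {J : Set G} {M : Subgroup G} (hB : P.B ≤ M) (hJ : J ⊆ M) :
    P.parabolic J ≤ M := by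
  rw [Cfsg.BNPair.parabolic]
  exact sup_le hB ((Subgroup.closure_le M).2 hJ)

theorem closure_le_N {J : Set G} (hJ : J ⊆ P.S) : Subgroup.closure J ≤ P.N :=
  (Subgroup.closure_le _).2 (fun _ hx => P.subset (hJ hx))

theorem dc_subset_parabolic {J : Set G} {n g : G} (hn : n ∈ Subgroup.closure J)
    (hg : g ∈ dc P n) : g ∈ P.parabolic J := by
  obtain ⟨b1, hb1, b2, hb2, rfl⟩ := (mem_dc P).1 hg
  exact (P.parabolic J).mul_mem ((P.parabolic J).mul_mem (B_le_parabolic P J hb1)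
    (closure_le_parabolic P J hn)) (B_le_parabolic P J hb2)

/-- `B W_J B` is the standard parabolic subgroup `P_J`. -/
theorem mem_parabolic_iff {J : Set G} (hJ : J ⊆ P.S) (g : G) :
    g ∈ P.parabolic J ↔ ∃ n ∈ Subgroup.closure J, g ∈ dc P n := by
  constructor
  · intro hg
    have key : ∀ x ∈ Subgroup.closure ((P.B : Set G) ∪ J),
        (∀ g : G, (∃ n ∈ Subgroup.closure J, g ∈ dc P n) →
          ∃ n ∈ Subgroup.closure J, x * g ∈ dc P n) ∧
        (∀ g : G, (∃ n ∈ Subgroup.closure J, g ∈ dc P n) →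
          ∃ n ∈ Subgroup.closure J, x⁻¹ * g ∈ dc P n) := by
      intro x hx
      induction hx using Subgroup.closure_induction with
      | mem x hx =>
        rcases hx with hx | hx
        · exact ⟨fun g ⟨n, hn, hg⟩ => ⟨n, hn, dc_mul_left P hx hg⟩,
            fun g ⟨n, hn, hg⟩ => ⟨n, hn, dc_mul_left P (P.B.inv_mem hx) hg⟩⟩
        · have hxS : x ∈ P.S := hJ hx
          have hxc : x ∈ Subgroup.closure J := Subgroup.subset_closure hx
          constructor
          · rintro g ⟨n, hn, hg⟩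
            obtain ⟨b1, hb1, b2, hb2, rfl⟩ := (mem_dc P).1 hg
            have e : x * (b1 * n * b2) = x * b1 * n * b2 := by group
            rw [e]
            rcases ax7 P hxS (closure_le_N P hJ hn) hb1 with h | h
            · exact ⟨x * n, (Subgroup.closure J).mul_mem hxc hn, dc_mul_right P hb2 h⟩
            · exact ⟨n, hn, dc_mul_right P hb2 h⟩
          · rintro g ⟨n, hn, hg⟩
            obtain ⟨b1, hb1, b2, hb2, rfl⟩ := (mem_dc P).1 hg
            have e : x⁻¹ * (b1 * n * b2) = x⁻¹ * b1 * n * b2 := by group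
            rw [e]
            rcases ax7_left_inv P hxS (closure_le_N P hJ hn) hb1 with h | h
            · exact ⟨x * n, (Subgroup.closure J).mul_mem hxc hn, dc_mul_right P hb2 h⟩
            · exact ⟨n, hn, dc_mul_right P hb2 h⟩
      | one => exact ⟨fun g hg => by simpa using hg, fun g hg => by simpa using hg⟩
      | mul x y _ _ ihx ihy =>
        constructor
        · intro g hg
          have := ihx.1 _ (ihy.1 g hg)
          rwa [← mul_assoc] at this
        · intro g hg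
          have := ihy.2 _ (ihx.2 g hg)
          rwa [← mul_assoc, ← mul_inv_rev] at this
      | inv x _ ihx =>
        exact ⟨ihx.2, fun g hg => by simpa using ihx.1 g hg⟩
    rw [parabolic_eq_closure] at hg
    have := (key g hg).1 1 ⟨1, Subgroup.one_mem _, self_mem_dc P 1⟩
    rwa [mul_one] at this
  · rintro ⟨n, hn, hg⟩
    exact dc_subset_parabolic P hn hg

/-- `N ≤ B ⊔ closure S`. -/
theorem N_le_parabolic_S : P.N ≤ P.parabolic P.S := by
  have h := P.closure_sup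
  intro n hn
  rw [← h] at hn
  have : Subgroup.closure P.S ⊔ (P.B ⊓ P.N) ≤ P.parabolic P.S :=
    sup_le (closure_le_parabolic P P.S) (inf_le_left.trans (B_le_parabolic P P.S))
  exact this hn

theorem parabolic_S_eq_top : P.parabolic P.S = ⊤ := by
  rw [eq_top_iff, ← P.sup_eq_top]
  exact sup_le (B_le_parabolic P P.S) (N_le_parabolic_S P)

/-- Bruhat decomposition, existence. -/
theorem bruhat_exists (g : G) : ∃ n ∈ Subgroup.closure P.S, g ∈ dc P n := by
  have hg : g ∈ P.parabolic P.S := by rw [parabolic_S_eq_top]; exact Subgroup.mem_top g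
  exact (mem_parabolic_iff P (le_refl _) g).1 hg

theorem bruhat_exists_N (g : G) : ∃ n ∈ P.N, g ∈ dc P n := by
  obtain ⟨n, hn, hg⟩ := bruhat_exists P g
  exact ⟨n, closure_le_N P (le_refl _) hn, hg⟩

end BN

end Cfsg.Agent.Helper2
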