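import Mathlib

set_option autoImplicit false

namespace Cfsg.Agent.Helper2.ClsProd

theorem card_lt {n : ℕ} (f f' : Equiv.Perm (Fin n)) (z : Fin n) (hz : f z = z) (hz' : f' z ≠ z)
    (hsub : ∀ w, f' w = w → f w = w) :
    Nat.card (Function.fixedPoints ⇑f') < Nat.card (Function.fixedPoints ⇑f) := by
  rw [Nat.card_coe_set_eq, Nat.card_coe_set_eq]
  apply Set.ncard_lt_ncard _ (Set.toFinite _)
  exact ⟨fun w hw => hsub w hw, fun hts => hz' (hts hz)⟩

theorem inv_app {n : ℕ} (θ : Equiv.Perm (Fin n)) (w : Fin n) : θ⁻¹ (θ w) = w :=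
  θ.symm_apply_apply w

theorem app_inv {n : ℕ} (θ : Equiv.Perm (Fin n)) (w : Fin n) : θ (θ⁻¹ w) = w :=
  θ.apply_symm_apply w

theorem exists_notMem {n : ℕ} (S : Finset (Fin n)) (hS : S.card < n) : ∃ x, x ∉ S := by
  by_contra hcon
  have hall : ∀ x, x ∈ S := fun x => by_contra fun hx => hcon ⟨x, hx⟩
  have h1 := Finset.card_le_card (fun x _ => hall x : (Finset.univ : Finset (Fin n)) ⊆ S)
  rw [Finset.card_univ, Fintype.card_fin] at h1
  omega

theorem exists_moved {n : ℕ} (a : Equiv.Perm (Fin n)) (ha : a ≠ 1) : ∃ z, a z ≠ z := by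
  by_contra hcon
  refine ha (Equiv.Perm.ext fun w => ?_)
  rw [Equiv.Perm.one_apply]
  by_contra hw
  exact hcon ⟨w, hw⟩

theorem place2 {n : ℕ} (u0 u1 z0 z1 : Fin n) (hu : u0 ≠ u1) (hz : z0 ≠ z1) :
    ∃ h : Equiv.Perm (Fin n), h u0 = z0 ∧ h u1 = z1 := by
  refine ⟨Equiv.swap (Equiv.swap u0 z0 u1) z1 * Equiv.swap u0 z0, ?_, ?_⟩
  · rw [Equiv.Perm.mul_apply, Equiv.swap_apply_left u0 z0]
    refine Equiv.swap_apply_of_ne_of_ne ?_ hz
    intro e
    have e2 := congrArg (Equiv.swap u0 z0) e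
    rw [Equiv.swap_apply_right, Equiv.swap_apply_self] at e2
    exact hu e2
  · rw [Equiv.Perm.mul_apply]
    exact Equiv.swap_apply_left _ _

theorem place3 {n : ℕ} (u0 u1 u2 z0 z1 z2 : Fin n) (hu01 : u0 ≠ u1) (hu02 : u0 ≠ u2)
    (hu12 : u1 ≠ u2) (hz01 : z0 ≠ z1) (hz02 : z0 ≠ z2) (hz12 : z1 ≠ z2) :
    ∃ h : Equiv.Perm (Fin n), h u0 = z0 ∧ h u1 = z1 ∧ h u2 = z2 := by
  obtain ⟨h, h0, h1⟩ := place2 u0 u1 z0 z1 hu01 hz01
  refine ⟨Equiv.swap (h u2) z2 * h, ?_, ?_, ?_⟩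
  · rw [Equiv.Perm.mul_apply, h0]
    exact Equiv.swap_apply_of_ne_of_ne (fun e => hu02 (h.injective (h0.trans e))) hz02
  · rw [Equiv.Perm.mul_apply, h1]
    exact Equiv.swap_apply_of_ne_of_ne (fun e => hu12 (h.injective (h1.trans e))) hz12
  · rw [Equiv.Perm.mul_apply]
    exact Equiv.swap_apply_left _ _

theorem fix_parity {n : ℕ} (hn : 5 ≤ n) (h0 : Equiv.Perm (Fin n)) (z0 z1 z2 : Fin n) :
    ∃ h : Equiv.Perm (Fin n), h ∈ alternatingGroup (Fin n) ∧
      ∀ w, (h0 w = z0 ∨ h0 w = z1 ∨ h0 w = z2) → h w = h0 w := by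
  rcases Int.units_eq_one_or (Equiv.Perm.sign h0) with hs | hs
  · exact ⟨h0, Equiv.Perm.mem_alternatingGroup.2 hs, fun w _ => rfl⟩
  · obtain ⟨p, hp⟩ := exists_notMem ({z0, z1, z2} : Finset (Fin n))
      (lt_of_le_of_lt Finset.card_le_three (by omega))
    obtain ⟨q, hq⟩ := exists_notMem ({z0, z1, z2, p} : Finset (Fin n))
      (lt_of_le_of_lt Finset.card_le_four (by omega))
    simp only [Finset.mem_insert, Finset.mem_singleton, not_or] at hp hq
    refine ⟨Equiv.swap p q * h0, ?_, ?_⟩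
    · rw [Equiv.Perm.mem_alternatingGroup, Equiv.Perm.sign_mul, hs,
        Equiv.Perm.sign_swap (fun e => hq.2.2.2 e.symm)]
      simp
    · intro w hw
      rw [Equiv.Perm.mul_apply]
      rcases hw with hw | hw | hw
      · rw [hw]
        exact Equiv.swap_apply_of_ne_of_ne (fun e => hp.1 e.symm) (fun e => hq.1 e.symm)
      · rw [hw]
        exact Equiv.swap_apply_of_ne_of_ne (fun e => hp.2.1 e.symm) (fun e => hq.2.1 e.symm)
      · rw [hw]
        exact Equiv.swap_apply_of_ne_of_ne (fun e => hp.2.2 e.symm) (fun e => hq.2.2.1 e.symm)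

theorem move_swap {n : ℕ} (hn : 5 ≤ n) (a c : Equiv.Perm (Fin n)) (z0 z : Fin n)
    (hcz : c z0 = z) (haz : a z = z0) (hne : z ≠ z0) :
    ∃ x : Fin n,
      Nat.card (Function.fixedPoints ⇑(a * (Equiv.swap z x * c * (Equiv.swap z x)⁻¹)))
        < Nat.card (Function.fixedPoints ⇑(a * c)) := by
  obtain ⟨x, hx⟩ := exists_notMem ({z, z0, c.symm (a.symm z), a (c z)} : Finset (Fin n))
    (lt_of_le_of_lt Finset.card_le_four (by omega))
  simp only [Finset.mem_insert, Finset.mem_singleton, not_or] at hx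
  obtain ⟨hx1, hx2, hx3, hx4⟩ := hx
  refine ⟨x, card_lt _ _ z0 ?_ ?_ ?_⟩
  · rw [Equiv.Perm.mul_apply, hcz, haz]
  · rw [Equiv.swap_inv]
    simp only [Equiv.Perm.mul_apply]
    rw [Equiv.swap_apply_of_ne_of_ne (Ne.symm hne) (fun e => hx2 e.symm), hcz,
      Equiv.swap_apply_left]
    intro e
    exact hx1 (a.injective (e.trans haz.symm))
  · intro w hw
    rw [Equiv.swap_inv] at hw
    obtain ⟨v, rfl⟩ : ∃ v, w = Equiv.swap z x v :=
      ⟨Equiv.swap z x w, (Equiv.swap_apply_self z x w).symm⟩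
    simp only [Equiv.Perm.mul_apply, Equiv.swap_apply_self] at hw ⊢
    by_cases hvz : v = z
    · rw [hvz] at hw ⊢
      rw [Equiv.swap_apply_left] at hw ⊢
      by_cases h1 : c z = x
      · rw [h1, Equiv.swap_apply_right] at hw
        exact absurd (haz.symm.trans hw).symm hx2
      · by_cases h2 : c z = z
        · exact absurd (c.injective (h2.trans hcz.symm)) hne
        · rw [Equiv.swap_apply_of_ne_of_ne h2 h1] at hw
          exact absurd hw.symm hx4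
    by_cases hvx : v = x
    · rw [hvx] at hw ⊢
      rw [Equiv.swap_apply_right] at hw ⊢
      by_cases h1 : c x = z
      · exact absurd (c.injective (h1.trans hcz.symm)) hx2
      · by_cases h2 : c x = x
        · rw [h2, Equiv.swap_apply_right] at hw
          exact absurd (haz.symm.trans hw).symm hne
        · rw [Equiv.swap_apply_of_ne_of_ne h1 h2] at hw
          exact absurd ((Equiv.eq_symm_apply c).2 ((Equiv.eq_symm_apply a).2 hw)) hx3
    rw [Equiv.swap_apply_of_ne_of_ne hvz hvx] at hw ⊢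
    by_cases h1 : c v = z
    · have hv0 : v = z0 := c.injective (h1.trans hcz.symm)
      rw [h1, Equiv.swap_apply_left] at hw
      exact absurd (a.injective (hw.trans (hv0.trans haz.symm))) hx1
    by_cases h2 : c v = x
    · rw [h2, Equiv.swap_apply_right] at hw
      have hv0 : z0 = v := haz.symm.trans hw
      exact absurd (hcz.symm.trans ((congrArg c hv0).trans h2)).symm hx1
    rw [Equiv.swap_apply_of_ne_of_ne h1 h2] at hw
    exact hw

theorem move_three {n : ℕ} (a c θ : Equiv.Perm (Fin n)) (x1 x2 x3 x4 : Fin n)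
    (hθ1 : θ x1 = x2) (hθ2 : θ x2 = x3) (hθ3 : θ x3 = x1)
    (hθo : ∀ w, w ≠ x1 → w ≠ x2 → w ≠ x3 → θ w = w)
    (h12 : c x1 = x2) (h23 : c x2 = x3) (h34 : c x3 = x4)
    (d14 : x1 ≠ x4) (d24 : x2 ≠ x4) (d34 : x3 ≠ x4)
    (ha : a x2 = x1) (ha3 : a x1 ≠ x3) :
    Nat.card (Function.fixedPoints ⇑(a * (θ * c * θ⁻¹)))
      < Nat.card (Function.fixedPoints ⇑(a * c)) := by
  refine card_lt _ _ x1 ?_ ?_ ?_
  · rw [Equiv.Perm.mul_apply, h12, ha]
  · intro e
    have e2 : a (θ (c (θ⁻¹ (θ x3)))) = θ x3 := by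
      rw [hθ3]
      exact e
    rw [inv_app, h34, hθo x4 d14.symm d24.symm d34.symm, hθ3] at e2
    exact d24 (a.injective (e2.trans ha.symm)).symm
  · intro w hw
    obtain ⟨v, rfl⟩ : ∃ v, w = θ v := ⟨θ⁻¹ w, (app_inv θ w).symm⟩
    simp only [Equiv.Perm.mul_apply, inv_app] at hw ⊢
    by_cases hv1 : v = x1
    · rw [hv1, hθ1, h23]
      rw [hv1, h12, hθ2, hθ1] at hw
      exact hw
    by_cases hv2 : v = x2
    · rw [hv2, h23, hθ3, hθ2] at hw
      exact absurd hw ha3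
    by_cases hv3 : v = x3
    · rw [hv3, h34, hθo x4 d14.symm d24.symm d34.symm, hθ3] at hw
      exact absurd (a.injective (hw.trans ha.symm)).symm d24
    rw [hθo v hv1 hv2 hv3] at hw ⊢
    by_cases hc1 : c v = x1
    · rw [hc1, hθ1] at hw
      exact absurd (ha.symm.trans hw).symm hv1
    by_cases hc2 : c v = x2
    · exact absurd (c.injective (hc2.trans h12.symm)) hv1
    by_cases hc3 : c v = x3
    · exact absurd (c.injective (hc3.trans h23.symm)) hv2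
    rw [hθo (c v) hc1 hc2 hc3] at hw
    exact hw

theorem even_rep {n : ℕ} (b ρ : Equiv.Perm (Fin n)) (hρ : Equiv.Perm.sign ρ = -1)
    (hcomm : ρ * b = b * ρ) (h : Equiv.Perm (Fin n)) :
    ∃ h' : Equiv.Perm (Fin n), h' ∈ alternatingGroup (Fin n) ∧ h' * b * h'⁻¹ = h * b * h⁻¹ := by
  rcases Int.units_eq_one_or (Equiv.Perm.sign h) with hs | hs
  · exact ⟨h, Equiv.Perm.mem_alternatingGroup.2 hs, rfl⟩
  · refine ⟨h * ρ, ?_, ?_⟩
    · rw [Equiv.Perm.mem_alternatingGroup, Equiv.Perm.sign_mul, hs, hρ]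
      simp
    · calc h * ρ * b * (h * ρ)⁻¹ = h * (ρ * b) * ρ⁻¹ * h⁻¹ := by group
        _ = h * (b * ρ) * ρ⁻¹ * h⁻¹ := by rw [hcomm]
        _ = h * b * h⁻¹ := by group

theorem wrap_swap {n : ℕ} (hn : 5 ≤ n) (a b ρ : Equiv.Perm (Fin n)) (ha : a ≠ 1) (hb : b ≠ 1)
    (hρ : Equiv.Perm.sign ρ = -1) (hcomm : ρ * b = b * ρ) :
    ∃ h1 h2 : Equiv.Perm (Fin n), h1 ∈ alternatingGroup (Fin n) ∧
      h2 ∈ alternatingGroup (Fin n) ∧
      Nat.card (Function.fixedPoints ⇑(a * (h1 * b * h1⁻¹))) ≠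
        Nat.card (Function.fixedPoints ⇑(a * (h2 * b * h2⁻¹))) := by
  obtain ⟨z, hz⟩ := exists_moved a ha
  obtain ⟨u0, hu0⟩ := exists_moved b hb
  obtain ⟨h, hh0, hh1⟩ := place2 u0 (b u0) (a z) z (fun e => hu0 e.symm) hz
  obtain ⟨c, hc⟩ : ∃ c : Equiv.Perm (Fin n), c = h * b * h⁻¹ := ⟨_, rfl⟩
  have hcz : c (a z) = z := by
    rw [hc, ← hh0]
    simp only [Equiv.Perm.mul_apply, inv_app]
    exact hh1
  obtain ⟨x, hlt⟩ := move_swap hn a c (a z) z hcz rfl (fun e => hz e.symm)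
  obtain ⟨h1, m1, e1⟩ := even_rep b ρ hρ hcomm h
  obtain ⟨h2, m2, e2⟩ := even_rep b ρ hρ hcomm (Equiv.swap z x * h)
  refine ⟨h2, h1, m2, m1, ?_⟩
  have e3 : Equiv.swap z x * h * b * (Equiv.swap z x * h)⁻¹
      = Equiv.swap z x * c * (Equiv.swap z x)⁻¹ := by
    rw [hc]
    group
  rw [e2, e1, e3, ← hc]
  exact ne_of_lt hlt

theorem wrap_three {n : ℕ} (hn : 5 ≤ n) (a b : Equiv.Perm (Fin n)) (ha : a ≠ 1) (u : Fin n)
    (hb1 : b u ≠ u) (hb2 : b (b u) ≠ u) (hb3 : b (b (b u)) ≠ u) :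
    ∃ h1 h2 : Equiv.Perm (Fin n), h1 ∈ alternatingGroup (Fin n) ∧
      h2 ∈ alternatingGroup (Fin n) ∧
      Nat.card (Function.fixedPoints ⇑(a * (h1 * b * h1⁻¹))) ≠
        Nat.card (Function.fixedPoints ⇑(a * (h2 * b * h2⁻¹))) := by
  obtain ⟨v, hv⟩ := exists_moved a ha
  obtain ⟨x3, hx3⟩ := exists_notMem ({a v, v, a (a v)} : Finset (Fin n))
    (lt_of_le_of_lt Finset.card_le_three (by omega))
  simp only [Finset.mem_insert, Finset.mem_singleton, not_or] at hx3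
  obtain ⟨hx31, hx32, hx33⟩ := hx3
  have hu01 : u ≠ b u := fun e => hb1 e.symm
  have hu02 : u ≠ b (b u) := fun e => hb2 e.symm
  have hu12 : b u ≠ b (b u) := fun e => hu01 (b.injective e)
  obtain ⟨h0, h00, h01, h02⟩ := place3 u (b u) (b (b u)) (a v) v x3 hu01 hu02 hu12 hv
    (fun e => hx31 e.symm) (fun e => hx32 e.symm)
  obtain ⟨h, hm, hfix⟩ := fix_parity hn h0 (a v) v x3
  have hh0 : h u = a v := by
    rw [hfix u (Or.inl h00)]
    exact h00
  have hh1 : h (b u) = v := by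
    rw [hfix (b u) (Or.inr (Or.inl h01))]
    exact h01
  have hh2 : h (b (b u)) = x3 := by
    rw [hfix (b (b u)) (Or.inr (Or.inr h02))]
    exact h02
  obtain ⟨c, hc⟩ : ∃ c : Equiv.Perm (Fin n), c = h * b * h⁻¹ := ⟨_, rfl⟩
  have hcv : ∀ w, c (h w) = h (b w) := by
    intro w
    rw [hc]
    simp only [Equiv.Perm.mul_apply, inv_app]
  have h12 : c (a v) = v := by rw [← hh0, hcv, hh1]
  have h23 : c v = x3 := by
    have e := hcv (b u)
    rw [hh1, hh2] at e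
    exact e
  have h34 : c x3 = h (b (b (b u))) := by
    have e := hcv (b (b u))
    rw [hh2] at e
    exact e
  have d14 : a v ≠ h (b (b (b u))) := by
    rw [← hh0]
    intro e
    exact hb3 (h.injective e).symm
  have d24 : v ≠ h (b (b (b u))) := by
    intro e
    rw [← hh1] at e
    exact hb2 (b.injective (h.injective e)).symm
  have d34 : x3 ≠ h (b (b (b u))) := by
    intro e
    rw [← hh2] at e
    exact hb1 (b.injective (b.injective (h.injective e))).symm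
  obtain ⟨θ, hθ⟩ : ∃ θ : Equiv.Perm (Fin n), θ = Equiv.swap (a v) v * Equiv.swap v x3 :=
    ⟨_, rfl⟩
  have hθ1 : θ (a v) = v := by
    rw [hθ, Equiv.Perm.mul_apply, Equiv.swap_apply_of_ne_of_ne hv (fun e => hx31 e.symm)]
    exact Equiv.swap_apply_left _ _
  have hθ2 : θ v = x3 := by
    rw [hθ, Equiv.Perm.mul_apply, Equiv.swap_apply_left v x3]
    exact Equiv.swap_apply_of_ne_of_ne hx31 hx32
  have hθ3 : θ x3 = a v := by
    rw [hθ, Equiv.Perm.mul_apply, Equiv.swap_apply_right v x3]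
    exact Equiv.swap_apply_right _ _
  have hθo : ∀ w, w ≠ a v → w ≠ v → w ≠ x3 → θ w = w := by
    intro w w1 w2 w3
    rw [hθ, Equiv.Perm.mul_apply, Equiv.swap_apply_of_ne_of_ne w2 w3]
    exact Equiv.swap_apply_of_ne_of_ne w1 w2
  have hθm : θ ∈ alternatingGroup (Fin n) := by
    rw [Equiv.Perm.mem_alternatingGroup, hθ, Equiv.Perm.sign_mul, Equiv.Perm.sign_swap hv,
      Equiv.Perm.sign_swap (fun e => hx32 e.symm)]
    simp
  have hlt := move_three a c θ (a v) v x3 (h (b (b (b u)))) hθ1 hθ2 hθ3 hθo h12 h23 h34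
    d14 d24 d34 rfl (fun e => hx33 e.symm)
  refine ⟨θ * h, h, mul_mem hθm hm, hm, ?_⟩
  have e3 : θ * h * b * (θ * h)⁻¹ = θ * c * θ⁻¹ := by
    rw [hc]
    group
  rw [e3, ← hc]
  exact ne_of_lt hlt

theorem swap_comm_of_disj {n : ℕ} (w x y z : Fin n) (h1 : w ≠ y) (h2 : w ≠ z) (h3 : x ≠ y)
    (h4 : x ≠ z) : Equiv.swap w x * Equiv.swap y z = Equiv.swap y z * Equiv.swap w x := by
  rw [Equiv.mul_swap_eq_swap_mul, Equiv.swap_apply_of_ne_of_ne h1.symm h3.symm,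
    Equiv.swap_apply_of_ne_of_ne h2.symm h4.symm]

theorem exists_odd_comm {n : ℕ} (hn : 5 ≤ n) (b : Equiv.Perm (Fin n)) (hb : b ≠ 1)
    (hno4 : ∀ u, b u = u ∨ b (b u) = u ∨ b (b (b u)) = u) :
    ∃ ρ : Equiv.Perm (Fin n), Equiv.Perm.sign ρ = -1 ∧ ρ * b = b * ρ := by
  by_cases hA : ∃ u, b u ≠ u ∧ b (b u) = u
  · obtain ⟨u, hu1, hu2⟩ := hA
    refine ⟨Equiv.swap u (b u), Equiv.Perm.sign_swap (fun e => hu1 e.symm), ?_⟩
    rw [Equiv.mul_swap_eq_swap_mul, hu2, Equiv.swap_comm]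
  by_cases hB : ∃ u u', u ≠ u' ∧ b u = u ∧ b u' = u'
  · obtain ⟨u, u', hne, hu, hu'⟩ := hB
    refine ⟨Equiv.swap u u', Equiv.Perm.sign_swap hne, ?_⟩
    rw [Equiv.mul_swap_eq_swap_mul, hu, hu']
  have h3 : ∀ u, b u ≠ u → b (b u) ≠ u ∧ b (b (b u)) = u := by
    intro u hu
    have h2 : b (b u) ≠ u := fun e => hA ⟨u, hu, e⟩
    rcases hno4 u with e | e | e
    · exact absurd e hu
    · exact absurd e h2
    · exact ⟨h2, e⟩
  obtain ⟨p0, hp0⟩ := exists_moved b hb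
  obtain ⟨hp2, hp3⟩ := h3 p0 hp0
  obtain ⟨r, hr⟩ := exists_notMem ({p0, b p0, b (b p0)} : Finset (Fin n))
    (lt_of_le_of_lt Finset.card_le_three (by omega))
  obtain ⟨r', hr'⟩ := exists_notMem ({p0, b p0, b (b p0), r} : Finset (Fin n))
    (lt_of_le_of_lt Finset.card_le_four (by omega))
  simp only [Finset.mem_insert, Finset.mem_singleton, not_or] at hr hr'
  obtain ⟨q0, hq0, hq01, hq02, hq03⟩ :
      ∃ q0, b q0 ≠ q0 ∧ q0 ≠ p0 ∧ q0 ≠ b p0 ∧ q0 ≠ b (b p0) := by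
    by_cases hbr : b r = r
    · by_cases hbr' : b r' = r'
      · exact absurd ⟨r, r', fun e => hr'.2.2.2 e.symm, hbr, hbr'⟩ hB
      · exact ⟨r', hbr', hr'.1, hr'.2.1, hr'.2.2.1⟩
    · exact ⟨r, hbr, hr.1, hr.2.1, hr.2.2⟩
  obtain ⟨hq2, hq3⟩ := h3 q0 hq0
  have e_p0q1 : p0 ≠ b q0 := fun e => hq03 (b.injective (e.symm.trans hp3.symm))
  have e_p0q2 : p0 ≠ b (b q0) :=
    fun e => hq02 (b.injective (b.injective (e.symm.trans hp3.symm)))
  have e_p1q1 : b p0 ≠ b q0 := fun e => hq01 (b.injective e).symm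
  have e_p2q2 : b (b p0) ≠ b (b q0) := fun e => hq01 (b.injective (b.injective e)).symm
  have c01 := swap_comm_of_disj p0 q0 (b p0) (b q0) (fun e => hp0 e.symm) e_p0q1 hq02
    (fun e => hq0 e.symm)
  have c02 := swap_comm_of_disj p0 q0 (b (b p0)) (b (b q0)) (fun e => hp2 e.symm) e_p0q2 hq03
    (fun e => hq2 e.symm)
  have b0 : b * Equiv.swap p0 q0 = Equiv.swap (b p0) (b q0) * b :=
    Equiv.mul_swap_eq_swap_mul b p0 q0
  have b1 : b * Equiv.swap (b p0) (b q0) = Equiv.swap (b (b p0)) (b (b q0)) * b :=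
    Equiv.mul_swap_eq_swap_mul b _ _
  have b2 : b * Equiv.swap (b (b p0)) (b (b q0)) = Equiv.swap p0 q0 * b := by
    rw [Equiv.mul_swap_eq_swap_mul, hp3, hq3]
  refine ⟨Equiv.swap p0 q0 * Equiv.swap (b p0) (b q0) * Equiv.swap (b (b p0)) (b (b q0)),
    ?_, ?_⟩
  · rw [Equiv.Perm.sign_mul, Equiv.Perm.sign_mul, Equiv.Perm.sign_swap (fun e => hq01 e.symm),
      Equiv.Perm.sign_swap e_p1q1, Equiv.Perm.sign_swap e_p2q2]
    simp
  · calc Equiv.swap p0 q0 * Equiv.swap (b p0) (b q0) * Equiv.swap (b (b p0)) (b (b q0)) * b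
        = Equiv.swap (b p0) (b q0) * (Equiv.swap p0 q0 * Equiv.swap (b (b p0)) (b (b q0))) * b := by
          rw [c01]
          simp only [mul_assoc]
      _ = Equiv.swap (b p0) (b q0) * (Equiv.swap (b (b p0)) (b (b q0)) * Equiv.swap p0 q0) * b := by
          rw [c02]
      _ = Equiv.swap (b p0) (b q0)
            * (Equiv.swap (b (b p0)) (b (b q0)) * (b * Equiv.swap (b (b p0)) (b (b q0)))) := by
          rw [b2]
          simp only [mul_assoc]
      _ = Equiv.swap (b p0) (b q0) * (b * Equiv.swap (b p0) (b q0))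
            * Equiv.swap (b (b p0)) (b (b q0)) := by
          rw [b1]
          simp only [mul_assoc]
      _ = b * Equiv.swap p0 q0 * Equiv.swap (b p0) (b q0) * Equiv.swap (b (b p0)) (b (b q0)) := by
          rw [b0]
          simp only [mul_assoc]
      _ = b * (Equiv.swap p0 q0 * Equiv.swap (b p0) (b q0) * Equiv.swap (b (b p0)) (b (b q0))) := by
          simp only [mul_assoc]

end Cfsg.Agent.Helper2.ClsProd
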