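import Mathlib

/-!
# Groups generated by involutions with the exchange condition are Coxeter groups

Abstract form of Bourbaki, Lie IV §1.6: a group generated by a family of involutions
satisfying the exchange condition is a Coxeter system (Matsumoto/Tits word argument).
-/

set_option autoImplicit false

namespace Cfsg.Agent.Helper2

namespace Cox

variable {B : Type*} {W : Type*} [Group W] (σ : B → W)

/-- word product -/
def wp (ω : List B) : W := (ω.map σ).prod

theorem wp_nil : wp σ [] = 1 := by simp [wp]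

theorem wp_cons (i : B) (ω : List B) : wp σ (i :: ω) = σ i * wp σ ω := by simp [wp]

theorem wp_append (ω ω' : List B) : wp σ (ω ++ ω') = wp σ ω * wp σ ω' := by simp [wp]

theorem wp_singleton (i : B) : wp σ [i] = σ i := by simp [wp]

/-- reduced words -/
def Red (ω : List B) : Prop := ∀ ω' : List B, wp σ ω' = wp σ ω → ω.length ≤ ω'.length

theorem red_of_eq {ω ω' : List B} (h : Red σ ω) (he : wp σ ω' = wp σ ω)
    (hl : ω'.length = ω.length) : Red σ ω' := by
  intro ω'' h''
  rw [hl]
  exact h ω'' (h''.trans he)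

theorem red_of_cons {i : B} {ω : List B} (h : Red σ (i :: ω)) : Red σ ω := by
  intro ω' h'
  have := h (i :: ω') (by rw [wp_cons, wp_cons, h'])
  simp only [List.length_cons] at this
  omega

theorem red_of_append_left {ω ζ : List B} (h : Red σ (ω ++ ζ)) : Red σ ω := by
  intro ω' h'
  have := h (ω' ++ ζ) (by rw [wp_append, wp_append, h'])
  simp only [List.length_append] at this
  omega

theorem red_length_eq {ω ω' : List B} (h : Red σ ω) (h' : Red σ ω')
    (he : wp σ ω = wp σ ω') : ω.length = ω'.length :=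
  le_antisymm (h ω' he.symm) (h' ω he)

theorem exists_red (hgen : ∀ w : W, ∃ ω, wp σ ω = w) (w : W) :
    ∃ ω, wp σ ω = w ∧ Red σ ω := by
  classical
  have h : ∃ k, ∃ ω : List B, ω.length = k ∧ wp σ ω = w := by
    obtain ⟨ω, hω⟩ := hgen w
    exact ⟨ω.length, ω, rfl, hω⟩
  obtain ⟨ω, hl, hω⟩ := Nat.find_spec h
  refine ⟨ω, hω, ?_⟩
  intro ω' h'
  rw [hl]
  exact Nat.find_min' h ⟨ω', rfl, h'.trans hω⟩

theorem eq_nil_or_snoc (l : List B) : l = [] ∨ ∃ l' b, l = l' ++ [b] := by
  rcases List.eq_nil_or_concat l with h | ⟨l', b, h⟩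
  · exact Or.inl h
  · exact Or.inr ⟨l', b, by rw [h, List.concat_eq_append]⟩

/-- the alternating word `x, y, x, …` of length `k` -/
def altS : ℕ → B → B → List B
  | 0, _, _ => []
  | (k + 1), x, y => x :: altS k y x

theorem altS_length : ∀ (k : ℕ) (x y : B), (altS k x y).length = k
  | 0, _, _ => rfl
  | (k + 1), x, y => by
    show (x :: altS k y x).length = k + 1
    rw [List.length_cons, altS_length k y x]

theorem altS_succ_succ (k : ℕ) (x y : B) : altS (k + 2) x y = x :: y :: altS k x y := rfl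

theorem altS_dropLast : ∀ (k : ℕ) (x y : B), (altS (k + 1) x y).dropLast = altS k x y
  | 0, _, _ => rfl
  | (k + 1), x, y => by
    have h := altS_dropLast k y x
    show (x :: altS (k + 1) y x).dropLast = x :: altS k y x
    rw [← h]
    exact List.dropLast_cons_of_ne_nil (by
      show (y :: altS k x y) ≠ []
      exact List.cons_ne_nil _ _)

section dihedral

variable {X : Type*} [Group X] (g : B → X)

theorem wp_altS_even (x y : B) : ∀ r : ℕ, wp g (altS (2 * r) x y) = (g x * g y) ^ r
  | 0 => by
    show wp g [] = (g x * g y) ^ 0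
    rw [wp_nil, pow_zero]
  | (r + 1) => by
    have h := wp_altS_even x y r
    have e : 2 * (r + 1) = 2 * r + 2 := by ring
    rw [e, altS_succ_succ, wp_cons, wp_cons, h, pow_succ', mul_assoc]

theorem wp_altS_odd (x y : B) : ∀ r : ℕ, wp g (altS (2 * r + 1) x y) = (g x * g y) ^ r * g x
  | 0 => by
    show wp g [x] = (g x * g y) ^ 0 * g x
    rw [wp_singleton, pow_zero, one_mul]
  | (r + 1) => by
    have h := wp_altS_odd x y r
    have e : 2 * (r + 1) + 1 = (2 * r + 1) + 2 := by ring
    rw [e, altS_succ_succ, wp_cons, wp_cons, h, pow_succ']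
    simp only [mul_assoc]

theorem altS_eq_iff (hg : ∀ i, g i * g i = 1) (x y : B) (k : ℕ) :
    wp g (altS k x y) = wp g (altS k y x) ↔ (g x * g y) ^ k = 1 := by
  have hinv : g y * g x = (g x * g y)⁻¹ := by
    rw [eq_inv_iff_mul_eq_one]
    calc g y * g x * (g x * g y) = g y * (g x * g x) * g y := by group
      _ = 1 := by rw [hg x, mul_one, hg y]
  rcases Nat.even_or_odd' k with ⟨r, rfl | rfl⟩
  · rw [wp_altS_even, wp_altS_even, hinv, inv_pow, eq_inv_iff_mul_eq_one, ← pow_add, two_mul]
  · rw [wp_altS_odd, wp_altS_odd, hinv, inv_pow]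
    have hc : (g x * g y) ^ (2 * r + 1) = (g x * g y) ^ r * (g x * g y) ^ r * (g x * g y) := by
      rw [pow_succ, two_mul, pow_add]
    rw [hc]
    generalize (g x * g y) ^ r = a
    constructor
    · intro h
      calc a * a * (g x * g y) = a * (a * g x) * g y := by group
        _ = a * (a⁻¹ * g y) * g y := by rw [h]
        _ = g y * g y := by group
        _ = 1 := hg y
    · intro h
      calc a * g x = a⁻¹ * (a * a * (g x * g y)) * (g y)⁻¹ := by group
        _ = a⁻¹ * (g y)⁻¹ := by rw [h, mul_one]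
        _ = a⁻¹ * g y := by rw [inv_eq_of_mul_eq_one_left (hg y)]

end dihedral

theorem alt_final (hσ : ∀ i, σ i * σ i = 1) (x y : B) (k : ℕ) (hk : 1 ≤ k)
    (hred : Red σ (altS k x y)) (he : wp σ (altS k x y) = wp σ (altS k y x)) :
    k = orderOf (σ x * σ y) := by
  have h1 : (σ x * σ y) ^ k = 1 := (altS_eq_iff σ hσ x y k).1 he
  have hdvd : orderOf (σ x * σ y) ∣ k := orderOf_dvd_of_pow_eq_one h1
  have hcm : (σ x * σ y) ^ orderOf (σ x * σ y) = 1 := pow_orderOf_eq_one _
  generalize orderOf (σ x * σ y) = m at hdvd hcm ⊢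
  obtain ⟨d, hd⟩ := hdvd
  by_contra hne
  have hd2 : 2 ≤ d := by
    by_contra hlt
    have h01 : d = 0 ∨ d = 1 := by omega
    rcases h01 with rfl | rfl
    · rw [Nat.mul_zero] at hd; omega
    · rw [Nat.mul_one] at hd; exact hne hd
  have hk2 : 2 * m ≤ k := by
    calc 2 * m = m * 2 := by ring
      _ ≤ m * d := Nat.mul_le_mul_left m hd2
      _ = k := hd.symm
  have hm1 : 1 ≤ m := by
    rcases Nat.eq_zero_or_pos m with h0 | h0
    · rw [h0, Nat.zero_mul] at hd; omega
    · exact h0
  have hsame : wp σ (altS (k - 2 * m) x y) = wp σ (altS k x y) := by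
    rcases Nat.even_or_odd' k with ⟨r, hr | hr⟩
    · obtain ⟨r', hr'⟩ : ∃ r', r = r' + m := ⟨r - m, by omega⟩
      have e1 : k - 2 * m = 2 * r' := by omega
      have e2 : k = 2 * (r' + m) := by omega
      rw [e1, e2, wp_altS_even, wp_altS_even, pow_add, hcm, mul_one]
    · obtain ⟨r', hr'⟩ : ∃ r', r = r' + m := ⟨r - m, by omega⟩
      have e1 : k - 2 * m = 2 * r' + 1 := by omega
      have e2 : k = 2 * (r' + m) + 1 := by omega
      rw [e1, e2, wp_altS_odd, wp_altS_odd, pow_add, hcm, mul_one]
  have := hred _ hsame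
  rw [altS_length, altS_length] at this
  omega

section main

variable {X : Type*} [Group X] (g : B → X)

/-- the statement: reduced words of length `q` with equal products in `W` have equal
products in `X`. -/
abbrev T (q : ℕ) : Prop :=
  ∀ ω ω' : List B, ω.length = q → ω'.length = q → Red σ ω → wp σ ω = wp σ ω' →
    wp g ω = wp g ω'

theorem stepA (hσ : ∀ i, σ i * σ i = 1)
    (hex : ∀ (i : B) (ω : List B), Red σ ω → ¬ Red σ (i :: ω) →
      ∃ (α : List B) (i' : B) (β : List B), ω = α ++ i' :: β ∧
        σ i * wp σ α = wp σ α * σ i')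
    (q : ℕ) (hT : T σ g q) (ω τ' : List B) (t : B) (hl : ω.length = q + 1)
    (hl' : τ'.length = q) (hred : Red σ ω) (he : wp σ ω = wp σ (t :: τ')) :
    wp g ω = wp g (t :: τ') ∨
      (wp σ (t :: ω.dropLast) = wp σ ω ∧ wp g (t :: ω.dropLast) = wp g (t :: τ')) := by
  have hnr : ¬ Red σ (t :: ω) := by
    intro h
    have := h τ' (by rw [wp_cons, he, wp_cons, ← mul_assoc, hσ t, one_mul])
    simp only [List.length_cons] at this
    omega
  obtain ⟨α, i', β, rfl, hx⟩ := hex t ω hred hnr
  have hprod : wp σ (t :: (α ++ β)) = wp σ (α ++ i' :: β) := by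
    rw [wp_cons, wp_append, wp_append, wp_cons, ← mul_assoc, hx, mul_assoc]
  have hlen : (α ++ β).length = q := by
    simp only [List.length_append, List.length_cons] at hl ⊢
    omega
  have hredt : Red σ (t :: (α ++ β)) :=
    red_of_eq σ hred hprod (by
      simp only [List.length_cons, List.length_append] at hl ⊢
      omega)
  have hredυ : Red σ (α ++ β) := red_of_cons σ hredt
  have heυ : wp σ (α ++ β) = wp σ τ' := by
    have h1 : wp σ (t :: (α ++ β)) = wp σ (t :: τ') := hprod.trans he
    rw [wp_cons, wp_cons] at h1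
    exact mul_left_cancel h1
  have hgυ : wp g (α ++ β) = wp g τ' := hT _ _ hlen hl' hredυ heυ
  have hgt : wp g (t :: (α ++ β)) = wp g (t :: τ') := by rw [wp_cons, wp_cons, hgυ]
  rcases eq_nil_or_snoc β with rfl | ⟨β₀, z, rfl⟩
  · right
    have e : (α ++ [i']).dropLast = α := List.dropLast_concat
    rw [e]
    rw [List.append_nil] at hprod hgt
    exact ⟨hprod, hgt⟩
  · left
    have e1 : α ++ i' :: (β₀ ++ [z]) = (α ++ i' :: β₀) ++ [z] := by simp
    have e2 : t :: (α ++ (β₀ ++ [z])) = (t :: (α ++ β₀)) ++ [z] := by simp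
    rw [e1] at hred hl hprod ⊢
    rw [e2] at hprod hgt
    have hρ : Red σ (α ++ i' :: β₀) := red_of_append_left σ hred
    have h3 : wp σ (α ++ i' :: β₀) = wp σ (t :: (α ++ β₀)) := by
      rw [wp_append, wp_append] at hprod
      exact (mul_right_cancel hprod).symm
    have h4 : wp g (α ++ i' :: β₀) = wp g (t :: (α ++ β₀)) :=
      hT _ _ (by
        simp only [List.length_append, List.length_cons, List.length_nil] at hl ⊢
        omega) (by
        simp only [List.length_append, List.length_cons, List.length_nil] at hl ⊢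
        omega) hρ h3
    rw [← hgt, wp_append g (α ++ i' :: β₀) [z], wp_append g (t :: (α ++ β₀)) [z], h4]

theorem iter (hσ : ∀ i, σ i * σ i = 1) (hg : ∀ i, g i * g i = 1)
    (hgb : ∀ x y, (g x * g y) ^ orderOf (σ x * σ y) = 1)
    (hex : ∀ (i : B) (ω : List B), Red σ ω → ¬ Red σ (i :: ω) →
      ∃ (α : List B) (i' : B) (β : List B), ω = α ++ i' :: β ∧
        σ i * wp σ α = wp σ α * σ i')
    (q : ℕ) (hT : T σ g q) :
    ∀ (n k : ℕ) (x y : B) (β : List B), β.length = n → 1 ≤ k → k + n = q + 1 →
      Red σ (altS k x y ++ β) →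
      wp σ (y :: (altS k x y ++ β).dropLast) = wp σ (altS k x y ++ β) →
      wp g (y :: (altS k x y ++ β).dropLast) ≠ wp g (altS k x y ++ β) → False := by
  intro n
  induction n with
  | zero =>
    intro k x y β hβ hk hkn hred he hne
    have hβ' : β = [] := List.length_eq_zero_iff.1 hβ
    subst hβ'
    obtain ⟨k', rfl⟩ : ∃ k', k = k' + 1 := ⟨k - 1, by omega⟩
    rw [List.append_nil] at hred he hne
    rw [altS_dropLast] at he hne
    have he' : wp σ (altS (k' + 1) x y) = wp σ (altS (k' + 1) y x) := he.symm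
    have hk0 := alt_final σ hσ x y (k' + 1) hk hred he'
    apply hne
    have h2 : wp g (altS (k' + 1) x y) = wp g (altS (k' + 1) y x) := by
      rw [altS_eq_iff g hg, hk0]
      exact hgb x y
    exact h2.symm
  | succ n ih =>
    intro k x y β hβ hk hkn hred he hne
    obtain ⟨β₀, z, rfl⟩ : ∃ β₀ z, β = β₀ ++ [z] := by
      rcases eq_nil_or_snoc β with rfl | h
      · simp at hβ
      · exact h
    have hβ₀ : β₀.length = n := by simpa using hβ
    obtain ⟨k', rfl⟩ : ∃ k', k = k' + 1 := ⟨k - 1, by omega⟩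
    have e1 : (altS (k' + 1) x y ++ (β₀ ++ [z])).dropLast = altS (k' + 1) x y ++ β₀ := by
      rw [← List.append_assoc, List.dropLast_concat]
    rw [e1] at he hne
    have e2 : y :: (altS (k' + 1) x y ++ β₀) = altS (k' + 1 + 1) y x ++ β₀ := rfl
    rw [e2] at he hne
    have hlen : (altS (k' + 1) x y ++ (β₀ ++ [z])).length = q + 1 := by
      simp only [List.length_append, altS_length, List.length_cons, List.length_nil]
      omega
    have hlen2 : (altS (k' + 1 + 1) y x ++ β₀).length = q + 1 := by
      simp only [List.length_append, altS_length]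
      omega
    have hred2 : Red σ (altS (k' + 1 + 1) y x ++ β₀) :=
      red_of_eq σ hred he (by rw [hlen, hlen2])
    have e3 : altS (k' + 1) x y ++ (β₀ ++ [z]) = x :: (altS k' y x ++ (β₀ ++ [z])) := rfl
    rw [e3] at he hne
    have hl' : (altS k' y x ++ (β₀ ++ [z])).length = q := by
      simp only [List.length_append, altS_length, List.length_cons, List.length_nil]
      omega
    rcases stepA σ g hσ hex q hT _ _ x hlen2 hl' hred2 he with h | ⟨h1, h2⟩
    · exact hne h
    · exact ih (k' + 1 + 1) y x β₀ hβ₀ (by omega) (by omega) hred2 h1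
        (fun h => hne (h.symm.trans h2))

theorem T_all (hσ : ∀ i, σ i * σ i = 1) (hg : ∀ i, g i * g i = 1)
    (hgb : ∀ x y, (g x * g y) ^ orderOf (σ x * σ y) = 1)
    (hex : ∀ (i : B) (ω : List B), Red σ ω → ¬ Red σ (i :: ω) →
      ∃ (α : List B) (i' : B) (β : List B), ω = α ++ i' :: β ∧
        σ i * wp σ α = wp σ α * σ i') : ∀ q, T σ g q := by
  intro q
  induction q with
  | zero =>
    intro ω ω' hl hl' _ _
    rw [List.length_eq_zero_iff.1 hl, List.length_eq_zero_iff.1 hl']
  | succ q ih =>
    intro ω ω' hl hl' hred he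
    by_contra hne
    obtain ⟨s, τ, rfl⟩ : ∃ s τ, ω = s :: τ := by
      cases ω with
      | nil => simp at hl
      | cons s τ => exact ⟨s, τ, rfl⟩
    obtain ⟨t, τ', rfl⟩ : ∃ t τ', ω' = t :: τ' := by
      cases ω' with
      | nil => simp at hl'
      | cons t τ' => exact ⟨t, τ', rfl⟩
    have hl2 : τ'.length = q := by simpa using hl'
    have hl3 : τ.length = q := by simpa using hl
    rcases stepA σ g hσ hex q ih (s :: τ) τ' t hl hl2 hred he with h | ⟨h1, h2⟩
    · exact hne h
    · exact iter σ g hσ hg hgb hex q ih q 1 s t τ hl3 (le_refl 1) (by omega) hred h1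
        (fun h => hne (h.symm.trans h2))

theorem wp_eq_of_red (hσ : ∀ i, σ i * σ i = 1) (hg : ∀ i, g i * g i = 1)
    (hgb : ∀ x y, (g x * g y) ^ orderOf (σ x * σ y) = 1)
    (hex : ∀ (i : B) (ω : List B), Red σ ω → ¬ Red σ (i :: ω) →
      ∃ (α : List B) (i' : B) (β : List B), ω = α ++ i' :: β ∧
        σ i * wp σ α = wp σ α * σ i')
    {ω ω' : List B} (h : Red σ ω) (h' : Red σ ω') (he : wp σ ω = wp σ ω') :
    wp g ω = wp g ω' :=
  T_all σ g hσ hg hgb hex _ ω ω' rfl (red_length_eq σ h h' he).symm h he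

end main

/-- A group generated by a family of distinct involutions satisfying the exchange condition
is a Coxeter system. -/
theorem exists_coxeterSystem (hσ : ∀ i, σ i * σ i = 1) (hinj : Function.Injective σ)
    (hgen : ∀ w : W, ∃ ω, wp σ ω = w)
    (hex : ∀ (i : B) (ω : List B), Red σ ω → ¬ Red σ (i :: ω) →
      ∃ (α : List B) (i' : B) (β : List B), ω = α ++ i' :: β ∧
        σ i * wp σ α = wp σ α * σ i') :
    ∃ (M : CoxeterMatrix B) (cs : CoxeterSystem M W), ∀ i, cs.simple i = σ i := by
  classical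
  have hinv : ∀ i j, σ j * σ i = (σ i * σ j)⁻¹ := by
    intro i j
    rw [eq_inv_iff_mul_eq_one]
    calc σ j * σ i * (σ i * σ j) = σ j * (σ i * σ i) * σ j := by group
      _ = 1 := by rw [hσ i, mul_one, hσ j]
  let M : CoxeterMatrix B :=
    { M := fun i j => orderOf (σ i * σ j)
      isSymm := by
        apply Matrix.IsSymm.ext
        intro i j
        show orderOf (σ j * σ i) = orderOf (σ i * σ j)
        rw [hinv i j, orderOf_inv]
      diagonal := fun i => by
        show orderOf (σ i * σ i) = 1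
        rw [hσ i, orderOf_one]
      off_diagonal := fun i j hij => by
        show orderOf (σ i * σ j) ≠ 1
        rw [Ne, orderOf_eq_one_iff]
        intro h
        apply hij
        apply hinj
        calc σ i = σ i * (σ j * σ j) := by rw [hσ j, mul_one]
          _ = (σ i * σ j) * σ j := by rw [mul_assoc]
          _ = σ j := by rw [h, one_mul] }
  have hM : ∀ i j, M i j = orderOf (σ i * σ j) := fun i j => rfl
  let cs₀ := M.toCoxeterSystem
  let g : B → M.Group := cs₀.simple
  have hg : ∀ i, g i * g i = 1 := fun i => cs₀.simple_mul_simple_self i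
  have hgb : ∀ x y, (g x * g y) ^ orderOf (σ x * σ y) = 1 :=
    fun x y => cs₀.simple_mul_simple_pow x y
  have hlift : M.IsLiftable σ := fun i j => by
    rw [hM]; exact pow_orderOf_eq_one _
  let φ : M.Group →* W := cs₀.lift ⟨σ, hlift⟩
  have hφ : ∀ i, φ (g i) = σ i := fun i => cs₀.lift_apply_simple hlift i
  have hφw : ∀ ω, φ (wp g ω) = wp σ ω := by
    intro ω
    induction ω with
    | nil => rw [wp_nil, wp_nil, map_one]
    | cons i ω ih => rw [wp_cons, wp_cons, map_mul, hφ, ih]
  choose r hr1 hr2 using exists_red σ hgen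
  have hψ1 : wp g (r 1) = 1 := by
    have h1 : (r 1).length ≤ ([] : List B).length := hr2 1 [] (by rw [wp_nil, hr1])
    have h2 : r 1 = [] := List.length_eq_zero_iff.1 (Nat.le_zero.1 h1)
    rw [h2, wp_nil]
  have hψ : ∀ (i : B) (w : W), wp g (r (σ i * w)) = g i * wp g (r w) := by
    intro i w
    by_cases hred : Red σ (i :: r w)
    · have h1 := wp_eq_of_red σ g hσ hg hgb hex (hr2 (σ i * w)) hred
        (by rw [hr1, wp_cons, hr1])
      rw [h1, wp_cons]
    · obtain ⟨α, i', β, hαβ, hx⟩ := hex i (r w) (hr2 w) hred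
      have h1 : wp σ (α ++ β) = σ i * w := by
        have hw : w = wp σ α * (σ i' * wp σ β) := by
          rw [← wp_cons, ← wp_append, ← hαβ, hr1]
        calc wp σ (α ++ β) = wp σ α * wp σ β := wp_append σ α β
          _ = wp σ α * (σ i' * σ i') * wp σ β := by rw [hσ i', mul_one]
          _ = (wp σ α * σ i') * (σ i' * wp σ β) := by group
          _ = (σ i * wp σ α) * (σ i' * wp σ β) := by rw [hx]
          _ = σ i * (wp σ α * (σ i' * wp σ β)) := by group
          _ = σ i * w := by rw [← hw]
      have hlen : (α ++ β).length + 1 = (r w).length := by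
        rw [hαβ]
        simp only [List.length_append, List.length_cons]
        omega
      have h2 : (r (σ i * w)).length ≤ (α ++ β).length :=
        hr2 (σ i * w) (α ++ β) (by rw [h1, hr1])
      have h3 : wp σ (i :: r (σ i * w)) = wp σ (r w) := by
        rw [wp_cons, hr1, hr1, ← mul_assoc, hσ i, one_mul]
      have h4 : (r w).length ≤ (i :: r (σ i * w)).length := hr2 w _ h3
      have h5 : Red σ (i :: r (σ i * w)) :=
        red_of_eq σ (hr2 w) h3 (by
          simp only [List.length_cons] at h4 ⊢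
          omega)
      have h6 := wp_eq_of_red σ g hσ hg hgb hex (hr2 w) h5 h3.symm
      rw [h6, wp_cons, ← mul_assoc, hg i, one_mul]
  have hψw : ∀ ω, wp g (r (wp σ ω)) = wp g ω := by
    intro ω
    induction ω with
    | nil => rw [wp_nil σ, wp_nil g]; exact hψ1
    | cons i ω ih => rw [wp_cons, hψ, ih, wp_cons]
  have hinjφ : Function.Injective φ := by
    intro c c' h
    obtain ⟨ω, rfl⟩ := cs₀.wordProd_surjective c
    obtain ⟨ω', rfl⟩ := cs₀.wordProd_surjective c'
    have h' : wp σ ω = wp σ ω' := by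
      rw [← hφw, ← hφw]; exact h
    have h2 := congrArg (fun w => wp g (r w)) h'
    simp only [hψw] at h2
    exact h2
  have hsurjφ : Function.Surjective φ := by
    intro w
    obtain ⟨ω, rfl⟩ := hgen w
    exact ⟨wp g ω, hφw ω⟩
  let e : M.Group ≃* W := MulEquiv.ofBijective φ ⟨hinjφ, hsurjφ⟩
  refine ⟨M, ⟨e.symm⟩, ?_⟩
  intro i
  have h1 : (⟨e.symm⟩ : CoxeterSystem M W).simple i = e (PresentedGroup.of i) := rfl
  rw [h1]
  exact hφ i

end Cox

end Cfsg.Agent.Helper2
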