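import Cfsg.Agent.Helper2.Cox2

/-!
# The symmetric group with adjacent transpositions: descent predicate and Coxeter matrix
-/

set_option autoImplicit false

namespace Cfsg.Agent.Helper2

namespace CoxSym

open Equiv

variable (n : ℕ)

/-- adjacent transpositions -/
def adj (i : Fin n) : Perm (Fin (n + 1)) := swap i.castSucc i.succ

theorem adj_mul_self (i : Fin n) : adj n i * adj n i = 1 := swap_mul_self _ _

/-- the descent predicate -/
def Desc (i : Fin n) (w : Perm (Fin (n + 1))) : Prop := w⁻¹ i.succ < w⁻¹ i.castSucc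

theorem castSucc_ne_succ (i : Fin n) : i.castSucc ≠ i.succ := by
  intro h'
  have h := congrArg Fin.val h'
  change (i : ℕ) = (i : ℕ) + 1 at h
  omega

theorem adj_val (j : Fin n) (z : Fin (n + 1)) :
    ((swap j.castSucc j.succ z : Fin (n + 1)) : ℕ)
      = if (z : ℕ) = j then (j : ℕ) + 1 else if (z : ℕ) = j + 1 then (j : ℕ) else (z : ℕ) := by
  by_cases h1 : z = j.castSucc
  · subst h1
    rw [swap_apply_left]
    have e1 : ((j.castSucc : Fin (n + 1)) : ℕ) = j := rfl
    have e2 : ((j.succ : Fin (n + 1)) : ℕ) = j + 1 := rfl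
    rw [e1, e2, if_pos rfl]
  · by_cases h2 : z = j.succ
    · subst h2
      rw [swap_apply_right]
      have e1 : ((j.castSucc : Fin (n + 1)) : ℕ) = j := rfl
      have e2 : ((j.succ : Fin (n + 1)) : ℕ) = j + 1 := rfl
      rw [e1, e2, if_neg (by omega), if_pos rfl]
    · rw [swap_apply_of_ne_of_ne h1 h2]
      have h1' : (z : ℕ) ≠ j := fun h => h1 (Fin.ext h)
      have h2' : (z : ℕ) ≠ j + 1 := fun h => h2 (Fin.ext h)
      rw [if_neg h1', if_neg h2']

theorem adj_key (j : Fin n) (a b : Fin (n + 1)) (hab : a < b)
    (h : swap j.castSucc j.succ b < swap j.castSucc j.succ a) :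
    a = j.castSucc ∧ b = j.succ := by
  have h' : ((swap j.castSucc j.succ b : Fin (n + 1)) : ℕ)
      < ((swap j.castSucc j.succ a : Fin (n + 1)) : ℕ) := h
  rw [adj_val, adj_val] at h'
  have hab' : (a : ℕ) < (b : ℕ) := hab
  constructor
  · apply Fin.ext
    show (a : ℕ) = (j : ℕ)
    split_ifs at h' <;> omega
  · apply Fin.ext
    show (b : ℕ) = (j : ℕ) + 1
    split_ifs at h' <;> omega

theorem adj_injective : Function.Injective (adj n) := by
  intro i j h
  have h1 : ((adj n i i.castSucc : Fin (n + 1)) : ℕ) = ((adj n j i.castSucc : Fin (n + 1)) : ℕ) := by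
    rw [h]
  unfold adj at h1
  rw [adj_val, adj_val] at h1
  have h2 : ((i.castSucc : Fin (n + 1)) : ℕ) = i := rfl
  rw [h2] at h1
  apply Fin.ext
  split_ifs at h1 <;> omega

theorem desc_one (i : Fin n) : ¬ Desc n i 1 := by
  unfold Desc
  rw [inv_one, Perm.one_apply, Perm.one_apply]
  intro h
  have h' : ((i.succ : Fin (n + 1)) : ℕ) < ((i.castSucc : Fin (n + 1)) : ℕ) := h
  change (i : ℕ) + 1 < (i : ℕ) at h'
  omega

theorem desc_mul_left (i : Fin n) (w : Perm (Fin (n + 1))) (h : ¬ Desc n i w) :
    Desc n i (adj n i * w) := by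
  unfold Desc at h ⊢
  have e1 : (adj n i * w)⁻¹ i.succ = w⁻¹ i.castSucc := by
    rw [mul_inv_rev, Perm.mul_apply]
    congr 1
    show (swap i.castSucc i.succ)⁻¹ i.succ = i.castSucc
    rw [swap_inv, swap_apply_right]
  have e2 : (adj n i * w)⁻¹ i.castSucc = w⁻¹ i.succ := by
    rw [mul_inv_rev, Perm.mul_apply]
    congr 1
    show (swap i.castSucc i.succ)⁻¹ i.castSucc = i.succ
    rw [swap_inv, swap_apply_left]
  rw [e1, e2]
  have hne : w⁻¹ i.castSucc ≠ w⁻¹ i.succ := fun h' => castSucc_ne_succ n i (w⁻¹.injective h')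
  exact lt_of_le_of_ne (not_lt.1 h) hne

theorem desc_mul_right (i j : Fin n) (w : Perm (Fin (n + 1))) (h1 : ¬ Desc n i w)
    (h2 : Desc n i (w * adj n j)) : adj n i * w = w * adj n j := by
  unfold Desc at h1 h2
  have e : ∀ z, (w * adj n j)⁻¹ z = swap j.castSucc j.succ (w⁻¹ z) := by
    intro z
    rw [mul_inv_rev, Perm.mul_apply]
    show (swap j.castSucc j.succ)⁻¹ (w⁻¹ z) = _
    rw [swap_inv]
  rw [e, e] at h2
  have hne : w⁻¹ i.castSucc ≠ w⁻¹ i.succ := fun h' => castSucc_ne_succ n i (w⁻¹.injective h')
  have hab : w⁻¹ i.castSucc < w⁻¹ i.succ := lt_of_le_of_ne (not_lt.1 h1) hne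
  obtain ⟨ha, hb⟩ := adj_key n j _ _ hab h2
  have hwa : w j.castSucc = i.castSucc := by rw [← ha]; exact w.apply_symm_apply _
  have hwb : w j.succ = i.succ := by rw [← hb]; exact w.apply_symm_apply _
  show swap i.castSucc i.succ * w = w * swap j.castSucc j.succ
  rw [Equiv.mul_swap_eq_swap_mul, hwa, hwb]

theorem adj_gen (w : Perm (Fin (n + 1))) : ∃ ω : List (Fin n), Cox.wp (adj n) ω = w := by
  have h : w ∈ Submonoid.closure (Set.range fun i : Fin n => swap i.castSucc i.succ) := by
    rw [Equiv.Perm.mclosure_swap_castSucc_succ]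
    exact Submonoid.mem_top w
  obtain ⟨l, hl, rfl⟩ := Submonoid.exists_list_of_mem_closure h
  clear h
  induction l with
  | nil => exact ⟨[], Cox.wp_nil _⟩
  | cons a l ih =>
    obtain ⟨ω, hω⟩ := ih (fun y hy => hl y (List.mem_cons.2 (Or.inr hy)))
    obtain ⟨i, rfl⟩ := hl a (List.mem_cons.2 (Or.inl rfl))
    refine ⟨i :: ω, ?_⟩
    rw [Cox.wp_cons, hω, List.prod_cons]
    rfl

theorem orderOf_adj_mul (i j : Fin n) :
    orderOf (adj n i * adj n j) = CoxeterMatrix.A n i j := by
  have hA : CoxeterMatrix.A n i j
      = if i = j then 1 else (if (j : ℕ) + 1 = i ∨ (i : ℕ) + 1 = j then 3 else 2) := rfl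
  rw [hA]
  by_cases hij : i = j
  · subst hij
    rw [if_pos rfl, adj_mul_self, orderOf_one]
  · rw [if_neg hij]
    have hij' : (i : ℕ) ≠ j := fun h => hij (Fin.ext h)
    by_cases hadj : (j : ℕ) + 1 = i ∨ (i : ℕ) + 1 = j
    · rw [if_pos hadj]
      apply Equiv.Perm.IsThreeCycle.orderOf
      rcases hadj with h | h
      · have e : i.castSucc = j.succ := Fin.ext (by
          show (i : ℕ) = (j : ℕ) + 1
          omega)
        show Equiv.Perm.IsThreeCycle (swap i.castSucc i.succ * swap j.castSucc j.succ)
        rw [e, swap_comm j.castSucc j.succ]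
        apply Equiv.Perm.isThreeCycle_swap_mul_swap_same
        · intro h'
          have h3 := congrArg Fin.val h'
          change (j : ℕ) + 1 = (i : ℕ) + 1 at h3
          omega
        · intro h'
          have h3 := congrArg Fin.val h'
          change (j : ℕ) + 1 = (j : ℕ) at h3
          omega
        · intro h'
          have h3 := congrArg Fin.val h'
          change (i : ℕ) + 1 = (j : ℕ) at h3
          omega
      · have e : j.castSucc = i.succ := Fin.ext (by
          show (j : ℕ) = (i : ℕ) + 1
          omega)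
        show Equiv.Perm.IsThreeCycle (swap i.castSucc i.succ * swap j.castSucc j.succ)
        rw [e, swap_comm i.castSucc i.succ]
        apply Equiv.Perm.isThreeCycle_swap_mul_swap_same
        · intro h'
          have h3 := congrArg Fin.val h'
          change (i : ℕ) + 1 = (i : ℕ) at h3
          omega
        · intro h'
          have h3 := congrArg Fin.val h'
          change (i : ℕ) + 1 = (j : ℕ) + 1 at h3
          omega
        · intro h'
          have h3 := congrArg Fin.val h'
          change (i : ℕ) = (j : ℕ) + 1 at h3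
          omega
    · rw [if_neg hadj]
      push Not at hadj
      have n1 : j.castSucc ≠ i.castSucc := by
        intro h'
        have h3 := congrArg Fin.val h'
        change (j : ℕ) = (i : ℕ) at h3
        omega
      have n2 : j.castSucc ≠ i.succ := by
        intro h'
        have h3 := congrArg Fin.val h'
        change (j : ℕ) = (i : ℕ) + 1 at h3
        omega
      have n3 : j.succ ≠ i.castSucc := by
        intro h'
        have h3 := congrArg Fin.val h'
        change (j : ℕ) + 1 = (i : ℕ) at h3
        omega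
      have n4 : j.succ ≠ i.succ := by
        intro h'
        have h3 := congrArg Fin.val h'
        change (j : ℕ) + 1 = (i : ℕ) + 1 at h3
        omega
      have hc : adj n i * adj n j = adj n j * adj n i := by
        show swap i.castSucc i.succ * swap j.castSucc j.succ
          = swap j.castSucc j.succ * swap i.castSucc i.succ
        rw [Equiv.mul_swap_eq_swap_mul, swap_apply_of_ne_of_ne n1 n2,
          swap_apply_of_ne_of_ne n3 n4]
      have : Fact (Nat.Prime 2) := ⟨Nat.prime_two⟩
      apply orderOf_eq_prime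
      · rw [pow_two]
        calc adj n i * adj n j * (adj n i * adj n j)
            = adj n i * (adj n j * adj n i) * adj n j := by group
          _ = adj n i * (adj n i * adj n j) * adj n j := by rw [hc]
          _ = (adj n i * adj n i) * (adj n j * adj n j) := by group
          _ = 1 := by rw [adj_mul_self, adj_mul_self, one_mul]
      · intro h1
        have h2 : adj n i = adj n j := by
          calc adj n i = adj n i * (adj n j * adj n j) := by rw [adj_mul_self, mul_one]
            _ = (adj n i * adj n j) * adj n j := by group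
            _ = adj n j := by rw [h1, one_mul]
        exact hij (adj_injective n h2)

/-- The Coxeter presentation of the symmetric group. -/
theorem coxeterSystem_perm :
    ∃ cs : CoxeterSystem (CoxeterMatrix.A n) (Equiv.Perm (Fin (n + 1))),
      ∀ i : Fin n, cs.simple i = Equiv.swap i.castSucc i.succ := by
  obtain ⟨M, cs, hM, hcs⟩ := Cox.exists_coxeterSystem' (adj n) (adj_mul_self n)
    (adj_injective n) (adj_gen n)
    (Cox.exchange_of_descent (adj n) (adj_mul_self n) (Desc n) (desc_one n)
      (desc_mul_left n) (desc_mul_right n))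
  have hMA : M = CoxeterMatrix.A n := by
    apply CoxeterMatrix.ext
    funext i j
    exact (hM i j).trans (orderOf_adj_mul n i j)
  subst hMA
  exact ⟨cs, hcs⟩

end CoxSym

end Cfsg.Agent.Helper2
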