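import Mathlib

set_option autoImplicit false

namespace Cfsg.Agent.Helper2.NilCover

variable {G : Type*} [Group G] [Finite G] {p : ℕ} [Fact p.Prime]

/-- replacing two members of a minimal cover lying in a common proper subgroup is impossible -/
theorem repl (𝓐 : Finset (Subgroup G))
    (hprop : ∀ A ∈ 𝓐, A ≠ ⊤) (hcov : ∀ g : G, ∃ A ∈ 𝓐, g ∈ A)
    (hmin : ∀ 𝓑 : Finset (Subgroup G), (∀ A ∈ 𝓑, A ≠ ⊤) ∧ (∀ g : G, ∃ A ∈ 𝓑, g ∈ A) →
      𝓐.card ≤ 𝓑.card)
    (M : Subgroup G) (hM : M ≠ ⊤) {A₁ A₂ : Subgroup G} (h1 : A₁ ∈ 𝓐) (h2 : A₂ ∈ 𝓐) (hne : A₁ ≠ A₂)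
    (h1M : A₁ ≤ M) (h2M : A₂ ≤ M) : False := by
  classical
  have h2' : A₂ ∈ 𝓐.erase A₁ := Finset.mem_erase.mpr ⟨fun h => hne h.symm, h2⟩
  have hB1 : ∀ A ∈ insert M ((𝓐.erase A₁).erase A₂), A ≠ ⊤ := by
    intro A hA
    rcases Finset.mem_insert.mp hA with h | h
    · rw [h]; exact hM
    · exact hprop A (Finset.mem_of_mem_erase (Finset.mem_of_mem_erase h))
  have hB2 : ∀ g : G, ∃ A ∈ insert M ((𝓐.erase A₁).erase A₂), g ∈ A := by
    intro g
    obtain ⟨A, hA, hg⟩ := hcov g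
    by_cases e1 : A = A₁
    · exact ⟨M, Finset.mem_insert_self _ _, h1M (e1 ▸ hg)⟩
    · by_cases e2 : A = A₂
      · exact ⟨M, Finset.mem_insert_self _ _, h2M (e2 ▸ hg)⟩
      · exact ⟨A, Finset.mem_insert_of_mem
          (Finset.mem_erase.mpr ⟨e2, Finset.mem_erase.mpr ⟨e1, hA⟩⟩), hg⟩
  have hc := hmin _ ⟨hB1, hB2⟩
  have e1 := Finset.card_erase_of_mem h1
  have e2 := Finset.card_erase_of_mem h2'
  have e3 := Finset.card_insert_le M ((𝓐.erase A₁).erase A₂)
  have e4 : 0 < (𝓐.erase A₁).card := Finset.card_pos.mpr ⟨A₂, h2'⟩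
  omega

theorem eq_one_of_conj_eq_one {g w : G} (h : g * w * g⁻¹ = 1) : w = 1 := by
  have h2 : g⁻¹ * (g * w * g⁻¹) * g = w := by group
  rw [← h2, h]; group

theorem isPGroup_zpowers {c : G} {a : ℕ} (hc : c ^ p ^ a = 1) :
    IsPGroup p (Subgroup.zpowers c) := by
  rintro ⟨g, hg⟩
  obtain ⟨i, rfl⟩ := Subgroup.mem_zpowers_iff.mp hg
  refine ⟨a, Subtype.ext ?_⟩
  show (c ^ i) ^ p ^ a = 1
  rw [← zpow_natCast, ← zpow_mul, mul_comm, zpow_mul, zpow_natCast, hc, one_zpow]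

theorem mem_sylow_of_normalizer (Q : Sylow p G) {c : G} {a : ℕ} (hc : c ^ p ^ a = 1)
    (hcN : c ∈ Subgroup.normalizer ((Q : Subgroup G) : Set G)) : c ∈ (Q : Subgroup G) := by
  have h1 : IsPGroup p (Subgroup.zpowers c ⊔ (Q : Subgroup G) : Subgroup G) :=
    IsPGroup.to_sup_of_normal_right' (isPGroup_zpowers hc) Q.isPGroup'
      (Subgroup.zpowers_le.mpr hcN)
  have h2 := Q.is_maximal' h1 le_sup_right
  have h3 : c ∈ Subgroup.zpowers c ⊔ (Q : Subgroup G) :=
    (le_sup_left : Subgroup.zpowers c ≤ _) (Subgroup.mem_zpowers c)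
  rw [h2] at h3
  exact h3

theorem sylow_eq_of_commute (Q Q' : Sylow p G)
    (h : (Q' : Subgroup G) ≤ Subgroup.centralizer ((Q : Subgroup G) : Set G)) :
    (Q : Subgroup G) = Q' := by
  have h1 : IsPGroup p ((Q' : Subgroup G) ⊔ (Q : Subgroup G) : Subgroup G) :=
    IsPGroup.to_sup_of_normal_right' Q'.isPGroup' Q.isPGroup'
      (h.trans (Subgroup.centralizer_le_normalizer _))
  have h2 := Q.is_maximal' h1 le_sup_right
  have h3 : (Q' : Subgroup G) ≤ Q := by
    have h4 : (Q' : Subgroup G) ≤ (Q' : Subgroup G) ⊔ (Q : Subgroup G) := le_sup_left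
    rw [h2] at h4
    exact h4
  exact Q'.is_maximal' Q.isPGroup' h3

theorem mem_smul (g : G) (P : Sylow p G) (x : G) :
    x ∈ ((g • P : Sylow p G) : Subgroup G) ↔ g⁻¹ * x * g ∈ (P : Subgroup G) := by
  rw [Sylow.coe_subgroup_smul, Subgroup.mem_pointwise_smul_iff_inv_smul_mem]
  simp [MulAut.smul_def]

theorem abAll (P : Sylow p G)
    (hab : ∀ a ∈ (P : Subgroup G), ∀ b ∈ (P : Subgroup G), a * b = b * a) :
    ∀ Q : Sylow p G, ∀ a ∈ (Q : Subgroup G), ∀ b ∈ (Q : Subgroup G), a * b = b * a := by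
  intro Q a ha b hb
  obtain ⟨g, rfl⟩ := MulAction.exists_smul_eq G P Q
  have h1 := hab _ ((mem_smul g P a).mp ha) _ ((mem_smul g P b).mp hb)
  have h2 : g⁻¹ * (a * b) * g = g⁻¹ * (b * a) * g := by
    calc g⁻¹ * (a * b) * g = (g⁻¹ * a * g) * (g⁻¹ * b * g) := by group
      _ = (g⁻¹ * b * g) * (g⁻¹ * a * g) := h1
      _ = g⁻¹ * (b * a) * g := by group
  exact mul_left_cancel (mul_right_cancel h2)

/-- in a nilpotent subgroup, a `p`-element is central when Sylow `p`-subgroups are abelian -/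
theorem cent_of_nil
    (habAll : ∀ Q : Sylow p G, ∀ a ∈ (Q : Subgroup G), ∀ b ∈ (Q : Subgroup G), a * b = b * a)
    (B : Subgroup G) (hB : Group.IsNilpotent ↥B) {z : G} (hzB : z ∈ B) (Q : Sylow p G)
    (hzQ : z ∈ (Q : Subgroup G)) : ∀ b ∈ B, b * z = z * b := by
  have hnorm := ((Group.isNilpotent_of_finite_tfae (G := ↥B)).out 0 3).mp hB
  have hX : IsPGroup p ((Q : Subgroup G).subgroupOf B) :=
    Q.isPGroup'.comap_of_injective B.subtype Subtype.coe_injective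
  obtain ⟨PB, hPB⟩ := hX.exists_le_sylow
  have hzPB : (⟨z, hzB⟩ : ↥B) ∈ (PB : Subgroup ↥B) := hPB (Subgroup.mem_subgroupOf.mpr hzQ)
  haveI hPBn : (PB : Subgroup ↥B).Normal := hnorm p inferInstance PB
  have hPBp : IsPGroup p ((PB : Subgroup ↥B).map B.subtype) := PB.isPGroup'.map B.subtype
  obtain ⟨Q', hQ'⟩ := hPBp.exists_le_sylow
  have hPBab : ∀ s ∈ (PB : Subgroup ↥B), ∀ s' ∈ (PB : Subgroup ↥B), s * s' = s' * s := by
    intro s hs s' hs'
    apply Subtype.ext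
    exact habAll Q' _ (hQ' (Subgroup.mem_map_of_mem B.subtype hs)) _
      (hQ' (Subgroup.mem_map_of_mem B.subtype hs'))
  have hC : Subgroup.centralizer ({(⟨z, hzB⟩ : ↥B)} : Set ↥B) = ⊤ := by
    rw [← Subgroup.index_eq_one, Nat.eq_one_iff_not_exists_prime_dvd]
    intro q hq hdvd
    haveI : Fact q.Prime := ⟨hq⟩
    obtain ⟨S⟩ : Nonempty (Sylow q ↥B) := inferInstance
    have hSC : (S : Subgroup ↥B) ≤ Subgroup.centralizer ({(⟨z, hzB⟩ : ↥B)} : Set ↥B) := by
      intro s hs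
      rw [Subgroup.mem_centralizer_singleton_iff]
      by_cases hqp : q = p
      · subst hqp
        obtain ⟨g, hg⟩ := MulAction.exists_smul_eq ↥B PB S
        have hSP : S = PB := by rw [← hg, Sylow.smul_eq_of_normal]
        rw [hSP] at hs
        exact hPBab _ hs _ hzPB
      · haveI hSn : (S : Subgroup ↥B).Normal := hnorm q inferInstance S
        have hdis : Disjoint (S : Subgroup ↥B) (PB : Subgroup ↥B) :=
          IsPGroup.disjoint_of_ne q p hqp _ _ S.isPGroup' PB.isPGroup'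
        exact (Subgroup.commute_of_normal_of_disjoint _ _ hSn hPBn hdis s _ hs hzPB).eq
    exact S.not_dvd_index (dvd_trans hdvd (Subgroup.index_dvd_of_le hSC))
  intro b hb
  have hmem : (⟨b, hb⟩ : ↥B) ∈ Subgroup.centralizer ({(⟨z, hzB⟩ : ↥B)} : Set ↥B) := by
    rw [hC]; exact Subgroup.mem_top _
  rw [Subgroup.mem_centralizer_singleton_iff] at hmem
  exact congrArg Subtype.val hmem

/-- the standing hypotheses: trivial centre, nilpotent minimal cover, abelian Sylow `p`-subgroups -/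
def Hyp (p : ℕ) (𝓐 : Finset (Subgroup G)) : Prop :=
  Subgroup.center G = ⊥ ∧ (∀ A ∈ 𝓐, A ≠ ⊤) ∧ (∀ g : G, ∃ A ∈ 𝓐, g ∈ A) ∧
  (∀ 𝓑 : Finset (Subgroup G), (∀ A ∈ 𝓑, A ≠ ⊤) ∧ (∀ g : G, ∃ A ∈ 𝓑, g ∈ A) →
    𝓐.card ≤ 𝓑.card) ∧
  (∀ A ∈ 𝓐, Group.IsNilpotent ↥A) ∧
  (∀ Q : Sylow p G, ∀ a ∈ (Q : Subgroup G), ∀ b ∈ (Q : Subgroup G), a * b = b * a)

/-- a nontrivial `p`-element lies in exactly one member of the cover -/
theorem uniq {𝓐 : Finset (Subgroup G)} (h : Hyp p 𝓐)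
    (Q : Sylow p G) {z : G} (hzQ : z ∈ (Q : Subgroup G)) (hz1 : z ≠ 1) {A A' : Subgroup G}
    (hA : A ∈ 𝓐) (hA' : A' ∈ 𝓐) (hzA : z ∈ A) (hzA' : z ∈ A') : A = A' := by
  obtain ⟨hZ, hprop, hcov, hmin, hnil, habAll⟩ := id h
  by_contra hne
  refine repl 𝓐 hprop hcov hmin (Subgroup.centralizer {z}) ?_ hA hA' hne ?_ ?_
  · intro htop
    apply hz1
    have hzc : z ∈ Subgroup.center G := by
      rw [Subgroup.mem_center_iff]
      intro g
      have hg : g ∈ Subgroup.centralizer ({z} : Set G) := by rw [htop]; exact Subgroup.mem_top g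
      exact Subgroup.mem_centralizer_singleton_iff.mp hg
    rw [hZ] at hzc
    exact Subgroup.mem_bot.mp hzc
  · intro b hb
    exact Subgroup.mem_centralizer_singleton_iff.mpr
      (cent_of_nil habAll A (hnil A hA) hzA Q hzQ b hb)
  · intro b hb
    exact Subgroup.mem_centralizer_singleton_iff.mpr
      (cent_of_nil habAll A' (hnil A' hA') hzA' Q hzQ b hb)

theorem exists_member {𝓐 : Finset (Subgroup G)} (h : Hyp p 𝓐) (Q : Sylow p G)
    (hH : ∃ x ∈ (Q : Subgroup G), ∀ y ∈ (Q : Subgroup G), x ^ p ≠ 1 ∨ y ∈ Subgroup.zpowers x) :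
    ∃ A ∈ 𝓐, (Q : Subgroup G) ≤ A := by
  obtain ⟨hZ, hprop, hcov, hmin, hnil, habAll⟩ := id h
  obtain ⟨x, hxQ, hx⟩ := hH
  obtain ⟨A, hA, hxA⟩ := hcov x
  refine ⟨A, hA, ?_⟩
  by_cases hxp : x ^ p = 1
  · intro y hy
    rcases hx y hy with h' | h'
    · exact absurd hxp h'
    · exact (Subgroup.zpowers_le.mpr hxA) h'
  · have hwQ : x ^ p ∈ (Q : Subgroup G) := Subgroup.pow_mem _ hxQ p
    have hwA : x ^ p ∈ A := A.pow_mem hxA p
    have key : ∀ k : ℕ, ∀ y ∈ (Q : Subgroup G), y ^ (p ^ k) = 1 → y ∈ A := by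
      intro k
      induction k with
      | zero =>
        intro y _ hy1
        rw [pow_zero, pow_one] at hy1
        rw [hy1]
        exact A.one_mem
      | succ k ih =>
        intro y hy hyk
        have hyp : (y ^ p) ^ (p ^ k) = 1 := by rw [← pow_mul, ← pow_succ']; exact hyk
        have hypA : y ^ p ∈ A := ih (y ^ p) (Subgroup.pow_mem _ hy p) hyp
        by_cases hy1 : y ^ p = 1
        · obtain ⟨A', hA', hxyA'⟩ := hcov (x * y)
          have hcomm : Commute x y := habAll Q x hxQ y hy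
          have e : (x * y) ^ p = x ^ p := by rw [hcomm.mul_pow, hy1, mul_one]
          have hwA' : x ^ p ∈ A' := by rw [← e]; exact A'.pow_mem hxyA' p
          have hAA' : A = A' := uniq h Q hwQ hxp hA hA' hwA hwA'
          have h3 : x⁻¹ * (x * y) ∈ A :=
            A.mul_mem (A.inv_mem hxA) (by rw [hAA']; exact hxyA')
          rwa [inv_mul_cancel_left] at h3
        · obtain ⟨A', hA', hyA'⟩ := hcov y
          have hAA' : A = A' :=
            uniq h Q (Subgroup.pow_mem _ hy p) hy1 hA hA' hypA (A'.pow_mem hyA' p)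
          rw [hAA']
          exact hyA'
    intro y hy
    obtain ⟨k, hk⟩ := Q.isPGroup' ⟨y, hy⟩
    exact key k y hy (by simpa using congrArg Subtype.val hk)

theorem cent_eq {𝓐 : Finset (Subgroup G)} (h : Hyp p 𝓐) (Q : Sylow p G) {A : Subgroup G}
    (hA : A ∈ 𝓐) (hQA : (Q : Subgroup G) ≤ A) {z : G} (hzQ : z ∈ (Q : Subgroup G))
    (hz1 : z ≠ 1) : Subgroup.centralizer ((Q : Subgroup G) : Set G) = A := by
  obtain ⟨hZ, hprop, hcov, hmin, hnil, habAll⟩ := id h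
  have hpp : p.Prime := Fact.out
  apply le_antisymm
  · intro c hc
    obtain ⟨a, m, hpm, hn⟩ :=
      Nat.exists_eq_pow_mul_and_not_dvd (orderOf_pos c).ne' p hpp.ne_one
    have hc1 : (c ^ m) ^ p ^ a = 1 := by
      rw [← pow_mul, mul_comm, ← hn, pow_orderOf_eq_one]
    have hcm : c ^ m ∈ Subgroup.centralizer ((Q : Subgroup G) : Set G) :=
      Subgroup.pow_mem _ hc m
    have hcmQ : c ^ m ∈ (Q : Subgroup G) :=
      mem_sylow_of_normalizer Q hc1 (Subgroup.centralizer_le_normalizer _ hcm)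
    have hcmA : c ^ m ∈ A := hQA hcmQ
    have hc2 : c ^ p ^ a ∈ Subgroup.centralizer ((Q : Subgroup G) : Set G) :=
      Subgroup.pow_mem _ hc _
    have hcomm : Commute z (c ^ p ^ a) := Subgroup.mem_centralizer_iff.mp hc2 z hzQ
    obtain ⟨A', hA', hzcA'⟩ := hcov (z * c ^ p ^ a)
    have e : (z * c ^ p ^ a) ^ m = z ^ m := by
      rw [hcomm.mul_pow, ← pow_mul, ← hn, pow_orderOf_eq_one, mul_one]
    have hcopm : Nat.Coprime m p := ((Nat.Prime.coprime_iff_not_dvd hpp).mpr hpm).symm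
    have hzm1 : z ^ m ≠ 1 := by
      intro h1
      obtain ⟨k, hk⟩ := Q.isPGroup' ⟨z, hzQ⟩
      have hk' : z ^ p ^ k = 1 := by simpa using congrArg Subtype.val hk
      have hd1 : orderOf z ∣ m := orderOf_dvd_of_pow_eq_one h1
      have hd2 : orderOf z ∣ p ^ k := orderOf_dvd_of_pow_eq_one hk'
      have hcop : Nat.Coprime m (p ^ k) := Nat.Coprime.pow_right k hcopm
      have h5 : orderOf z = 1 :=
        Nat.Coprime.eq_one_of_dvd (Nat.Coprime.coprime_dvd_left hd1 hcop) hd2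
      exact hz1 (orderOf_eq_one_iff.mp h5)
    have hzmA' : z ^ m ∈ A' := by rw [← e]; exact A'.pow_mem hzcA' m
    have hAA' : A = A' :=
      uniq h Q (Subgroup.pow_mem _ hzQ m) hzm1 hA hA' (A.pow_mem (hQA hzQ) m) hzmA'
    have hcpA : c ^ p ^ a ∈ A := by
      have h3 : z⁻¹ * (z * c ^ p ^ a) ∈ A :=
        A.mul_mem (A.inv_mem (hQA hzQ)) (by rw [hAA']; exact hzcA')
      rwa [inv_mul_cancel_left] at h3
    have hcop : Nat.Coprime m (p ^ a) := Nat.Coprime.pow_right a hcopm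
    have hb := Nat.gcd_eq_gcd_ab m (p ^ a)
    rw [hcop.gcd_eq_one] at hb
    have hcz : (c ^ m) ^ (Nat.gcdA m (p ^ a)) * (c ^ p ^ a) ^ (Nat.gcdB m (p ^ a)) = c := by
      rw [← zpow_natCast c m, ← zpow_natCast c (p ^ a), ← zpow_mul, ← zpow_mul, ← zpow_add,
        ← hb, Nat.cast_one, zpow_one]
    rw [← hcz]
    exact A.mul_mem (A.zpow_mem hcmA _) (A.zpow_mem hcpA _)
  · intro b hb
    rw [Subgroup.mem_centralizer_iff]
    intro y hy
    exact (cent_of_nil habAll A (hnil A hA) (hQA hy) Q hy b hb).symm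

theorem hyp_smul (P : Sylow p G) (g : G)
    (hH : ∃ x ∈ (P : Subgroup G), ∀ y ∈ (P : Subgroup G), x ^ p ≠ 1 ∨ y ∈ Subgroup.zpowers x) :
    ∃ x ∈ ((g • P : Sylow p G) : Subgroup G), ∀ y ∈ ((g • P : Sylow p G) : Subgroup G),
      x ^ p ≠ 1 ∨ y ∈ Subgroup.zpowers x := by
  obtain ⟨x, hx, hxy⟩ := hH
  refine ⟨g * x * g⁻¹, (mem_smul g P _).mpr
    (by rw [show g⁻¹ * (g * x * g⁻¹) * g = x by group]; exact hx), ?_⟩
  intro y hy
  rcases hxy _ ((mem_smul g P y).mp hy) with h | h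
  · left
    intro h1
    apply h
    rw [conj_pow] at h1
    exact eq_one_of_conj_eq_one h1
  · right
    obtain ⟨k, hk⟩ := Subgroup.mem_zpowers_iff.mp h
    refine Subgroup.mem_zpowers_iff.mpr ⟨k, ?_⟩
    rw [conj_zpow, hk]; group

theorem core {𝓐 : Finset (Subgroup G)} (h : Hyp p 𝓐) (P : Sylow p G)
    (hH : ∃ x ∈ (P : Subgroup G), ∀ y ∈ (P : Subgroup G), x ^ p ≠ 1 ∨ y ∈ Subgroup.zpowers x)
    (hnn : ¬ (P : Subgroup G).Normal) :
    ∃ A ∈ 𝓐, (P : Subgroup G) ≤ A ∧ Subgroup.centralizer ((P : Subgroup G) : Set G) = A ∧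
      IsCoatom (Subgroup.normalizer ((P : Subgroup G) : Set G)) ∧
      (∀ g : G, g ∉ Subgroup.normalizer ((P : Subgroup G) : Set G) →
        ¬ p ∣ Nat.card ↥(Subgroup.normalizer ((P : Subgroup G) : Set G) ⊓
          (Subgroup.normalizer ((P : Subgroup G) : Set G)).map (MulAut.conj g).toMonoidHom)) ∧
      (∀ M : Subgroup G, M ≠ ⊤ → Subgroup.centralizer ((P : Subgroup G) : Set G) ≤ M →
        M ≤ Subgroup.normalizer ((P : Subgroup G) : Set G)) := by
  obtain ⟨hZ, hprop, hcov, hmin, hnil, habAll⟩ := id h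
  have hpp : p.Prime := Fact.out
  have hPbot : ∃ z ∈ (P : Subgroup G), z ≠ 1 := by
    rcases Subgroup.bot_or_exists_ne_one (P : Subgroup G) with h0 | h0
    · exfalso; apply hnn; rw [h0]; infer_instance
    · exact h0
  obtain ⟨z, hzP, hz1⟩ := hPbot
  have data : ∀ g : G, ∃ A ∈ 𝓐, ((g • P : Sylow p G) : Subgroup G) ≤ A ∧
      Subgroup.centralizer (((g • P : Sylow p G) : Subgroup G) : Set G) = A := by
    intro g
    obtain ⟨A, hA, hQA⟩ := exists_member h (g • P) (hyp_smul P g hH)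
    have hz' : g * z * g⁻¹ ∈ ((g • P : Sylow p G) : Subgroup G) :=
      (mem_smul g P _).mpr (by rw [show g⁻¹ * (g * z * g⁻¹) * g = z by group]; exact hzP)
    have hz1' : g * z * g⁻¹ ≠ 1 := fun h1 => hz1 (eq_one_of_conj_eq_one h1)
    exact ⟨A, hA, hQA, cent_eq h (g • P) hA hQA hz' hz1'⟩
  obtain ⟨A, hA, hPA, hcent⟩ : ∃ A ∈ 𝓐, (P : Subgroup G) ≤ A ∧
      Subgroup.centralizer ((P : Subgroup G) : Set G) = A := by
    have h1 := data 1
    rwa [one_smul] at h1
  have key : ∀ g : G,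
      (P : Subgroup G) ≤ Subgroup.centralizer (((g • P : Sylow p G) : Subgroup G) : Set G) →
      g ∈ Subgroup.normalizer ((P : Subgroup G) : Set G) := by
    intro g hg
    have e := sylow_eq_of_commute (g • P) P hg
    exact Sylow.smul_eq_iff_mem_normalizer.mp (Sylow.ext e)
  have hL2 : ∀ M : Subgroup G, M ≠ ⊤ →
      Subgroup.centralizer ((P : Subgroup G) : Set G) ≤ M →
      M ≤ Subgroup.normalizer ((P : Subgroup G) : Set G) := by
    intro M hM hle m hm
    by_contra hmN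
    obtain ⟨Am, hAm, hQAm, hcm⟩ := data m
    have hAmM : Am ≤ M := by
      intro c hc
      rw [← hcm] at hc
      have h1 : m⁻¹ * c * m ∈ Subgroup.centralizer ((P : Subgroup G) : Set G) := by
        rw [Subgroup.mem_centralizer_iff]
        intro y hy
        have hy' : m * y * m⁻¹ ∈ ((m • P : Sylow p G) : Subgroup G) :=
          (mem_smul m P _).mpr (by rw [show m⁻¹ * (m * y * m⁻¹) * m = y by group]; exact hy)
        have h2 := Subgroup.mem_centralizer_iff.mp hc _ hy'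
        calc y * (m⁻¹ * c * m) = m⁻¹ * ((m * y * m⁻¹) * c) * m := by group
          _ = m⁻¹ * (c * (m * y * m⁻¹)) * m := by rw [h2]
          _ = m⁻¹ * c * m * y := by group
      have h3 : m * (m⁻¹ * c * m) * m⁻¹ ∈ M := M.mul_mem (M.mul_mem hm (hle h1)) (M.inv_mem hm)
      rwa [show m * (m⁻¹ * c * m) * m⁻¹ = c by group] at h3
    have hAM : A ≤ M := by rw [← hcent]; exact hle
    have hne : A ≠ Am := by
      intro e
      apply hmN
      apply key m
      rw [hcm, ← e]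
      exact hPA
    exact repl 𝓐 hprop hcov hmin M hM hA hAm hne hAM hAmM
  have hNtop : Subgroup.normalizer ((P : Subgroup G) : Set G) ≠ ⊤ := by
    intro e
    exact hnn (Subgroup.normalizer_eq_top_iff.mp e)
  refine ⟨A, hA, hPA, hcent, ⟨hNtop, ?_⟩, ?_, hL2⟩
  · intro M hlt
    by_contra hM
    exact absurd (hL2 M hM ((Subgroup.centralizer_le_normalizer _).trans hlt.le))
      (not_le_of_gt hlt)
  · intro g hg hdvd
    apply hg
    obtain ⟨x, hx⟩ := exists_prime_orderOf_dvd_card' p hdvd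
    have hxo : orderOf (x : G) = p := by rw [Subgroup.orderOf_coe]; exact hx
    have hx1 : (x : G) ≠ 1 := by
      intro h1
      rw [h1, orderOf_one] at hxo
      exact hpp.ne_one hxo.symm
    have hxp : (x : G) ^ p ^ 1 = 1 := by
      have h7 := pow_orderOf_eq_one (x : G)
      rw [hxo] at h7
      rw [pow_one]
      exact h7
    have hxN := (Subgroup.mem_inf.mp x.2).1
    have hxN' := (Subgroup.mem_inf.mp x.2).2
    have hxP : (x : G) ∈ (P : Subgroup G) := mem_sylow_of_normalizer P hxp hxN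
    obtain ⟨y, hyN, hyx⟩ := Subgroup.mem_map.mp hxN'
    have hyx' : g * y * g⁻¹ = (x : G) := by
      rw [← hyx]; simp [MulAut.conj_apply]
    have hyp : y ^ p ^ 1 = 1 := by
      have h5 : g * y ^ p ^ 1 * g⁻¹ = 1 := by rw [← conj_pow, hyx', hxp]
      exact eq_one_of_conj_eq_one h5
    have hyP : y ∈ (P : Subgroup G) := mem_sylow_of_normalizer P hyp hyN
    have hxgP : (x : G) ∈ ((g • P : Sylow p G) : Subgroup G) :=
      (mem_smul g P _).mpr
        (by rw [← hyx', show g⁻¹ * (g * y * g⁻¹) * g = y by group]; exact hyP)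
    obtain ⟨Ag, hAg, hQAg, hcg⟩ := data g
    have e : A = Ag := uniq h P hxP hx1 hA hAg (hPA hxP) (hQAg hxgP)
    apply key g
    rw [hcg, ← e]
    exact hPA

end Cfsg.Agent.Helper2.NilCover
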