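import Mathlib

set_option autoImplicit false

namespace Cfsg.Agent.Helper2.S4349a

theorem closure_mem {G : Type*} [Group G] [Finite G] (p : ℕ) [Fact p.Prime] (x : G)
    (P : Sylow p G) (hxP : x ∈ P) (huniq : ∀ Q : Sylow p G, x ∈ Q → Q = P)
    (t : G) (ht : ∃ j : ℕ, orderOf t = p ^ j) (htx : t * x * t⁻¹ ∈ P) : t ∈ P := by
  have hx' : x ∈ ((t⁻¹ • P : Sylow p G) : Subgroup G) := by
    rw [Sylow.coe_subgroup_smul, Subgroup.mem_pointwise_smul_iff_inv_smul_mem]
    have h1 : (MulAut.conj t⁻¹)⁻¹ • x = t * x * t⁻¹ := by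
      simp [MulAut.smul_def]
    rw [h1]
    exact htx
  have hQ : (t⁻¹ • P : Sylow p G) = P := huniq _ hx'
  have hN : t⁻¹ ∈ Subgroup.normalizer ((P : Subgroup G) : Set G) :=
    Sylow.smul_eq_iff_mem_normalizer.mp hQ
  have hN' : t ∈ Subgroup.normalizer ((P : Subgroup G) : Set G) := by
    have := Subgroup.inv_mem _ hN
    rwa [inv_inv] at this
  obtain ⟨j, hj⟩ := ht
  have hzt : IsPGroup p (Subgroup.zpowers t) := by
    apply IsPGroup.of_card (n := j)
    rw [Nat.card_zpowers, hj]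
  have hle : Subgroup.zpowers t ≤ Subgroup.normalizer ((P : Subgroup G) : Set G) :=
    Subgroup.zpowers_le.mpr hN'
  have hsup : IsPGroup p (Subgroup.zpowers t ⊔ (P : Subgroup G) : Subgroup G) :=
    hzt.to_sup_of_normal_right' P.isPGroup' hle
  have heq := P.is_maximal' hsup le_sup_right
  have h2 : t ∈ Subgroup.zpowers t ⊔ (P : Subgroup G) :=
    (le_sup_left : Subgroup.zpowers t ≤ _) (Subgroup.mem_zpowers t)
  rw [heq] at h2
  exact h2

end Cfsg.Agent.Helper2.S4349a
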