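import Mathlib

set_option autoImplicit false

namespace Cfsg.Agent.Helper2.S4349b

variable {α : Type*} [Fintype α] [DecidableEq α]

theorem fix_le_two (x : Equiv.Perm α) (P : Subgroup (Equiv.Perm α)) (hP : IsPGroup 2 P)
    (hxP : x ∈ P)
    (hcl : ∀ t : Equiv.Perm α, (∃ j : ℕ, orderOf t = 2 ^ j) → t * x * t⁻¹ ∈ P → t ∈ P) :
    Fintype.card α ≤ x.support.card + 2 := by
  by_contra hlt
  rw [not_le] at hlt
  have hc : 2 < (Finset.univ \ x.support).card := by
    rw [Finset.card_sdiff_of_subset (Finset.subset_univ _), Finset.card_univ]; omega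
  obtain ⟨a, b, c, ha, hb, hc', hab, hac, hbc⟩ := Finset.two_lt_card_iff.mp hc
  have fa : x a = a := by simpa using ha
  have fb : x b = b := by simpa using hb
  have fc : x c = c := by simpa using hc'
  have hsw : ∀ u v : α, x u = u → x v = v → u ≠ v → Equiv.swap u v ∈ P := by
    intro u v hu hv huv
    apply hcl
    · refine ⟨1, ?_⟩
      rw [pow_one]
      apply orderOf_eq_prime
      · rw [pow_two, Equiv.swap_mul_self]
      · intro h
        have h1 := congrArg (fun f : Equiv.Perm α => f u) h
        simp at h1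
        exact huv h1.symm
    · have h1 : Equiv.swap u v * x = x * Equiv.swap u v := by
        have h2 := Equiv.mul_swap_eq_swap_mul x u v
        rw [hu, hv] at h2
        exact h2.symm
      rw [h1, mul_inv_cancel_right]
      exact hxP
  have h1 := hsw a b fa fb hab
  have h2 := hsw a c fa fc hac
  have h3 : Equiv.swap a b * Equiv.swap a c ∈ P := P.mul_mem h1 h2
  have h4 := (Equiv.Perm.isThreeCycle_swap_mul_swap_same hab hac hbc).orderOf
  obtain ⟨k, hk⟩ := hP ⟨_, h3⟩
  have h5 : (Equiv.swap a b * Equiv.swap a c) ^ 2 ^ k = 1 := by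
    have := congrArg Subtype.val hk
    simpa using this
  have h6 := orderOf_dvd_of_pow_eq_one h5
  rw [h4] at h6
  have h7 := Nat.Prime.dvd_of_dvd_pow Nat.prime_three h6
  omega

end Cfsg.Agent.Helper2.S4349b
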