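import Mathlib
import Cfsg.Agent.Helper2.SylU

set_option autoImplicit false

namespace Cfsg.Agent.Helper2.S4349j
open Cfsg.Agent.Helper2.SylU

variable {α : Type*} [Fintype α] [DecidableEq α]

theorem g_half (D : Subgroup (Equiv.Perm α)) (O B : Finset α) (hB : IsHalf D O B)
    (h2 : 2 ≤ O.card) (g : Equiv.Perm α) (hgD : ∀ d, d ∈ D ↔ g * d * g⁻¹ ∈ D)
    (hgO : ∀ a, a ∈ O ↔ g a ∈ O) (hodd : Odd (orderOf g))
    (huniq : ∀ B₂ : Finset α, IsHalf D O B₂ → B₂ = B ∨ B₂ = O \ B) :
    (∀ a, a ∈ B ↔ g a ∈ B) ∧ ∀ d, d ∈ stab D B ↔ g * d * g⁻¹ ∈ stab D B := by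
  obtain ⟨hBO, hcard, hblk⟩ := hB
  have hmem : ∀ a, g a ∈ B.image g ↔ a ∈ B := by
    intro a
    constructor
    · intro h
      obtain ⟨a', ha', h'⟩ := Finset.mem_image.mp h
      rw [← g.injective h']
      exact ha'
    · intro h
      exact Finset.mem_image_of_mem g h
  have hB' : IsHalf D O (B.image g) := by
    refine ⟨?_, ?_, ?_⟩
    · intro a' ha'
      obtain ⟨a, ha, rfl⟩ := Finset.mem_image.mp ha'
      exact (hgO a).mp (hBO ha)
    · rw [Finset.card_image_of_injective B g.injective]
      exact hcard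
    · intro d hd
      have he : g⁻¹ * d * g ∈ D := by
        rw [hgD]
        have h1 : g * (g⁻¹ * d * g) * g⁻¹ = d := by group
        rw [h1]
        exact hd
      have hkey : ∀ a, d (g a) = g ((g⁻¹ * d * g) a) := by
        intro a
        simp
      rcases hblk _ he with h | h
      · left
        intro a' ha'
        obtain ⟨a, ha, rfl⟩ := Finset.mem_image.mp ha'
        rw [hkey]
        exact Finset.mem_image_of_mem g (h a ha)
      · right
        intro a' ha' hcon
        obtain ⟨a, ha, rfl⟩ := Finset.mem_image.mp ha'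
        rw [hkey] at hcon
        exact h a ha ((hmem _).mp hcon)
  have hgB : ∀ a, a ∈ B ↔ g a ∈ B := by
    rcases huniq _ hB' with h | h
    · intro a
      constructor
      · intro ha
        rw [← h]
        exact Finset.mem_image_of_mem g ha
      · intro ha
        rw [← h] at ha
        exact (hmem a).mp ha
    · exfalso
      have hsw : ∀ a ∈ O, (g a ∈ B ↔ a ∉ B) := by
        intro a ha
        constructor
        · intro hga haB
          have h3 : g a ∈ B.image g := Finset.mem_image_of_mem g haB
          rw [h] at h3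
          exact (Finset.mem_sdiff.mp h3).2 hga
        · intro haB
          by_contra hga
          have h3 : g a ∈ O \ B := Finset.mem_sdiff.mpr ⟨(hgO a).mp ha, hga⟩
          rw [← h] at h3
          exact haB ((hmem a).mp h3)
      have hQ : ∀ k : ℕ, ∀ a ∈ O, (g ^ k) a ∈ O ∧ ((g ^ k) a ∈ B ↔ (Even k ↔ a ∈ B)) := by
        intro k
        induction k with
        | zero =>
          intro a ha
          refine ⟨by simpa using ha, ?_⟩
          simp
        | succ k ih =>
          intro a ha
          obtain ⟨h3, h4⟩ := ih a ha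
          have h5 : (g ^ (k + 1)) a = g ((g ^ k) a) := by
            rw [pow_succ']
            rfl
          rw [h5]
          refine ⟨(hgO _).mp h3, ?_⟩
          rw [hsw _ h3, h4, Nat.even_add_one]
          tauto
      have hne : O.Nonempty := by
        rw [← Finset.card_pos]
        omega
      obtain ⟨a, ha⟩ := hne
      have h6 := (hQ (orderOf g) a ha).2
      rw [pow_orderOf_eq_one] at h6
      have h7 : ¬ Even (orderOf g) := Nat.not_even_iff_odd.mpr hodd
      simp only [Equiv.Perm.coe_one, id_eq] at h6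
      tauto
  refine ⟨hgB, ?_⟩
  intro d
  constructor
  · intro hd
    refine ⟨(hgD d).mp hd.1, fun a => ?_⟩
    have h1 : (g * d * g⁻¹) a = g (d (g⁻¹ a)) := rfl
    have h2 : g (g⁻¹ a) = a := by simp
    have h3 := hgB (g⁻¹ a)
    rw [h2] at h3
    rw [h1, ← hgB, ← hd.2, h3]
  · intro hd
    refine ⟨(hgD d).mpr hd.1, fun a => ?_⟩
    have h1 := hd.2 (g a)
    have h2 : (g * d * g⁻¹) (g a) = g (d a) := by simp
    rw [h2, ← hgB, ← hgB] at h1
    exact h1

end Cfsg.Agent.Helper2.S4349j
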