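import Mathlib
import Cfsg.Agent.Helper2.SylU

set_option autoImplicit false

namespace Cfsg.Agent.Helper2.S4349m
open Cfsg.Agent.Helper2.SylU

variable {α : Type*} [Fintype α] [DecidableEq α]

theorem no_odd_norm
    (hAR : ∀ (D : Subgroup (Equiv.Perm α)), IsPGroup 2 D → ∀ O : Finset α, IsOrb D O →
      ∀ y ∈ D, Good y O → TransOrFix y O)
    (hT : ∀ (D : Subgroup (Equiv.Perm α)), IsPGroup 2 D → ∀ O : Finset α, IsOrb D O →
      ∀ y ∈ D, Good y O → ∀ g : Equiv.Perm α, (∀ d, d ∈ D ↔ g * d * g⁻¹ ∈ D) →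
      (∀ a, a ∈ O ↔ g a ∈ O) → Odd (orderOf g) → ∀ a ∈ O, g a = a)
    (x : Equiv.Perm α) (hgood : Good x Finset.univ) (D : Subgroup (Equiv.Perm α))
    (hD : IsPGroup 2 D) (hxD : x ∈ D) (g : Equiv.Perm α) (hgD : ∀ d ∈ D, g * d * g⁻¹ ∈ D)
    (hodd : Odd (orderOf g)) : g = 1 := by
  classical
  obtain ⟨m, hm⟩ := hodd
  have hg1 : g ^ (2 * m) * g = 1 := by rw [← pow_succ, ← hm, pow_orderOf_eq_one]
  have hginv : g ^ (2 * m) = g⁻¹ := eq_inv_of_mul_eq_one_left hg1
  have hpowD : ∀ k : ℕ, ∀ e ∈ D, g ^ k * e * (g ^ k)⁻¹ ∈ D := by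
    intro k
    induction k with
    | zero => intro e he; simpa using he
    | succ k ih =>
      intro e he
      have h1 : g ^ (k + 1) * e * (g ^ (k + 1))⁻¹ = g * (g ^ k * e * (g ^ k)⁻¹) * g⁻¹ := by
        rw [pow_succ']; group
      rw [h1]
      exact hgD _ (ih e he)
  have hgD' : ∀ d, d ∈ D ↔ g * d * g⁻¹ ∈ D := by
    intro d
    constructor
    · exact hgD d
    · intro h
      have h1 := hpowD (2 * m) _ h
      rw [hginv] at h1
      have h2 : g⁻¹ * (g * d * g⁻¹) * g⁻¹⁻¹ = d := by group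
      rw [h2] at h1
      exact h1
  have hgD'' : ∀ d ∈ D, g⁻¹ * d * g ∈ D := by
    intro d hd
    rw [hgD']
    have h2 : g * (g⁻¹ * d * g) * g⁻¹ = d := by group
    rw [h2]; exact hd
  obtain ⟨orb, horbdef⟩ : ∃ orb : α → Finset α, ∀ b c, c ∈ orb b ↔ ∃ d ∈ D, d b = c :=
    ⟨fun b => Finset.univ.filter (fun c => ∃ d ∈ D, d b = c), fun b c => by simp⟩
  have hself : ∀ b, b ∈ orb b := fun b => (horbdef b b).mpr ⟨1, D.one_mem, rfl⟩
  have horb : ∀ b, IsOrb D (orb b) := by
    intro b
    refine ⟨?_, ?_⟩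
    · intro d hd c hc
      obtain ⟨e, he, rfl⟩ := (horbdef b c).mp hc
      exact (horbdef b _).mpr ⟨d * e, D.mul_mem hd he, rfl⟩
    · intro c hc c' hc'
      obtain ⟨e, he, rfl⟩ := (horbdef b c).mp hc
      obtain ⟨e', he', rfl⟩ := (horbdef b c').mp hc'
      refine ⟨e' * e⁻¹, D.mul_mem he' (D.inv_mem he), ?_⟩
      simp
  have heq : ∀ b c, c ∈ orb b → orb c = orb b := by
    intro b c hc
    obtain ⟨e, he, rfl⟩ := (horbdef b c).mp hc
    ext c'
    rw [horbdef, horbdef]
    constructor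
    · rintro ⟨d, hd, rfl⟩
      exact ⟨d * e, D.mul_mem hd he, rfl⟩
    · rintro ⟨d, hd, rfl⟩
      refine ⟨d * e⁻¹, D.mul_mem hd (D.inv_mem he), ?_⟩
      simp
  have hgorb : ∀ b c, c ∈ orb b → g c ∈ orb (g b) := by
    intro b c hc
    obtain ⟨e, he, rfl⟩ := (horbdef b c).mp hc
    refine (horbdef _ _).mpr ⟨g * e * g⁻¹, hgD e he, ?_⟩
    simp
  have himg : ∀ b, orb (g b) = (orb b).image g := by
    intro b
    ext c
    rw [Finset.mem_image]
    constructor
    · intro hc
      obtain ⟨e, he, rfl⟩ := (horbdef _ c).mp hc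
      refine ⟨(g⁻¹ * e * g) b, (horbdef b _).mpr ⟨_, hgD'' e he, rfl⟩, ?_⟩
      simp
    · rintro ⟨c', hc', rfl⟩
      exact hgorb b c' hc'
  have hcardg : ∀ b, (orb (g b)).card = (orb b).card := by
    intro b
    rw [himg, Finset.card_image_of_injective _ g.injective]
  have hgoodO : ∀ b, Good x (orb b) := fun b =>
    ⟨fun u _ v _ => hgood.1 u (Finset.mem_univ u) v (Finset.mem_univ v),
     fun u _ v _ w _ => hgood.2 u (Finset.mem_univ u) v (Finset.mem_univ v) w (Finset.mem_univ w)⟩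
  have hxz : ∀ (i : ℤ) (b : α), (x ^ i) b ∈ orb b := fun i b =>
    (horbdef b _).mpr ⟨x ^ i, D.zpow_mem hxD i, rfl⟩
  have LA : ∀ b b', b' ∉ orb b → (orb b).card = (orb b').card → 2 ≤ (orb b).card →
      (∀ c ∈ orb b, ∀ c' ∈ orb b, x.SameCycle c c') →
      (∀ c ∈ orb b', ∀ c' ∈ orb b', x.SameCycle c c') → False := by
    intro b b' hbb' hc h2 hA hA'
    have hmove : ∀ u, 2 ≤ (orb u).card → (∀ c ∈ orb u, ∀ c' ∈ orb u, x.SameCycle c c') →
        x u ≠ u ∧ (x.cycleOf u).support = orb u := by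
      intro u hu2 hAu
      obtain ⟨c, hc, hcu⟩ := Finset.exists_mem_ne (by omega : 1 < (orb u).card) u
      have hxu : x u ≠ u := by
        intro hfix
        obtain ⟨i, hi⟩ := hAu u (hself u) c hc
        rw [Equiv.Perm.zpow_apply_eq_self_of_apply_eq_self hfix] at hi
        exact hcu hi.symm
      refine ⟨hxu, ?_⟩
      ext c'
      rw [Equiv.Perm.mem_support_cycleOf_iff]
      constructor
      · rintro ⟨⟨i, hi⟩, -⟩
        rw [← hi]
        exact hxz i u
      · intro hc'
        exact ⟨hAu u (hself u) c' hc', Equiv.Perm.mem_support.mpr hxu⟩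
    obtain ⟨h1, h1'⟩ := hmove b h2 hA
    obtain ⟨h3, h3'⟩ := hmove b' (by omega) hA'
    have h4 := hgood.1 b (Finset.mem_univ b) b' (Finset.mem_univ b') h1 h3 (by rw [h1', h3', hc])
    obtain ⟨i, hi⟩ := h4
    apply hbb'
    rw [← hi]
    exact hxz i b
  have LB : ∀ b b', b' ∉ orb b →
      (∃ u ∈ orb b, ∃ v ∈ orb b, u ≠ v ∧ x u = u ∧ x v = v) →
      (∃ u ∈ orb b', x u = u) → False := by
    intro b b' hbb' ⟨u, hu, v, hv, huv, hxu, hxv⟩ ⟨w, hw, hxw⟩
    have hdis : ∀ c ∈ orb b, c ∉ orb b' := by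
      intro c hc hc'
      apply hbb'
      rw [← heq b c hc, heq b' c hc']
      exact hself b'
    rcases hgood.2 u (Finset.mem_univ u) v (Finset.mem_univ v) w (Finset.mem_univ w) hxu hxv hxw
      with h | h | h
    · exact huv h
    · exact hdis u hu (by rw [h]; exact hw)
    · exact hdis v hv (by rw [h]; exact hw)
  apply Equiv.Perm.ext
  intro a
  show g a = a
  by_cases hga : g a ∈ orb a
  · have hfw : ∀ b ∈ orb a, g b ∈ orb a := by
      intro b hb
      have := hgorb a b hb
      rwa [heq a (g a) hga] at this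
    have hfwk : ∀ k : ℕ, ∀ b ∈ orb a, (g ^ k) b ∈ orb a := by
      intro k
      induction k with
      | zero => intro b hb; simpa using hb
      | succ k ih =>
        intro b hb
        have h5 : (g ^ (k + 1)) b = g ((g ^ k) b) := by rw [pow_succ']; rfl
        rw [h5]
        exact hfw _ (ih b hb)
    have hgO : ∀ b, b ∈ orb a ↔ g b ∈ orb a := by
      intro b
      constructor
      · exact hfw b
      · intro hb
        have h6 := hfwk (2 * m) _ hb
        have h7 : (g ^ (2 * m)) (g b) = b := by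
          have := congrArg (fun f : Equiv.Perm α => f b) hg1
          simpa using this
        rwa [h7] at h6
    exact hT D hD (orb a) (horb a) x hxD (hgoodO a) g hgD' hgO ⟨m, hm⟩ a (hself a)
  · exfalso
    have h12 : g (g a) ∉ orb (g a) := by
      intro h
      rw [himg a] at h
      obtain ⟨c, hc, hgc⟩ := Finset.mem_image.mp h
      rw [g.injective hgc] at hc
      exact hga hc
    have h02 : g (g a) ∉ orb a := by
      intro h
      have hfw : ∀ b ∈ orb a, g (g b) ∈ orb a := by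
        intro b hb
        have := hgorb _ _ (hgorb a b hb)
        rwa [heq a (g (g a)) h] at this
      have hfwk : ∀ k : ℕ, ∀ b ∈ orb a, ((g * g) ^ k) b ∈ orb a := by
        intro k
        induction k with
        | zero => intro b hb; simpa using hb
        | succ k ih =>
          intro b hb
          have h5 : ((g * g) ^ (k + 1)) b = g (g (((g * g) ^ k) b)) := by rw [pow_succ']; rfl
          rw [h5]
          exact hfw _ (ih b hb)
      have h8 : (g * g) ^ (m + 1) = g := by
        rw [← pow_two, ← pow_mul]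
        have : 2 * (m + 1) = 2 * m + 1 + 1 := by ring
        rw [this, pow_succ, ← hm, pow_orderOf_eq_one, one_mul]
      have h9 := hfwk (m + 1) a (hself a)
      rw [h8] at h9
      exact hga h9
    have hc1 : (orb (g a)).card = (orb a).card := hcardg a
    have hc2 : (orb (g (g a))).card = (orb a).card := by rw [hcardg (g a), hcardg a]
    have hfixs : ∀ b, (orb b).card ≤ 1 → x b = b := by
      intro b hb
      exact Finset.card_le_one.mp hb _ ((horb b).1 x hxD b (hself b)) _ (hself b)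
    by_cases hs : 2 ≤ (orb a).card
    · have T0 := hAR D hD (orb a) (horb a) x hxD (hgoodO a)
      have T1 := hAR D hD (orb (g a)) (horb (g a)) x hxD (hgoodO (g a))
      have T2 := hAR D hD (orb (g (g a))) (horb (g (g a))) x hxD (hgoodO (g (g a)))
      have toB : ∀ b, (∃ u ∈ orb b, ∃ v ∈ orb b, u ≠ v ∧ x u = u ∧ x v = v ∧
          ∃ C : Finset α, C ⊆ orb b ∧ 2 * C.card = (orb b).card ∧
          (∀ c ∈ C, ∀ c' ∈ C, x.SameCycle c c') ∧ ∀ c ∈ C, x c ∈ C) →
          (∃ u ∈ orb b, ∃ v ∈ orb b, u ≠ v ∧ x u = u ∧ x v = v) ∧ (∃ u ∈ orb b, x u = u) := by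
        rintro b ⟨u, hu, v, hv, huv, hxu, hxv, -⟩
        exact ⟨⟨u, hu, v, hv, huv, hxu, hxv⟩, ⟨u, hu, hxu⟩⟩
      rcases T0 with A0 | B0
      · rcases T1 with A1 | B1
        · exact LA a (g a) hga hc1.symm hs A0 A1
        · rcases T2 with A2 | B2
          · exact LA a (g (g a)) h02 hc2.symm hs A0 A2
          · exact LB (g a) (g (g a)) h12 (toB _ B1).1 (toB _ B2).2
      · rcases T1 with A1 | B1
        · rcases T2 with A2 | B2
          · exact LA (g a) (g (g a)) h12 (by rw [hc1, hc2]) (by omega) A1 A2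
          · exact LB a (g (g a)) h02 (toB _ B0).1 (toB _ B2).2
        · exact LB a (g a) hga (toB _ B0).1 (toB _ B1).2
    · have hs1 : (orb a).card ≤ 1 := by omega
      have f0 := hfixs a hs1
      have f1 := hfixs (g a) (by omega)
      have f2 := hfixs (g (g a)) (by omega)
      rcases hgood.2 a (Finset.mem_univ a) (g a) (Finset.mem_univ _) (g (g a))
        (Finset.mem_univ _) f0 f1 f2 with h | h | h
      · exact hga (by rw [← h]; exact hself a)
      · exact h02 (by rw [← h]; exact hself a)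
      · exact h12 (by rw [← h]; exact hself (g a))

end Cfsg.Agent.Helper2.S4349m
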