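import Mathlib
import Cfsg.Agent.Helper2.SylU
import Cfsg.Agent.Helper2.S4349a
import Cfsg.Agent.Helper2.S4349b
import Cfsg.Agent.Helper8.S4349e
import Cfsg.Agent.Helper26.S4349f
import Cfsg.Agent.Helper26.S4349g
import Cfsg.Agent.Helper28.S4349i
import Cfsg.Agent.Helper2.S4349j
import Cfsg.Agent.Helper6.S4349k
import Cfsg.Agent.Helper6.S4349l
import Cfsg.Agent.Helper2.S4349m

set_option autoImplicit false

namespace Cfsg.Agent.Helper2.S4349x
open Cfsg.Agent.Helper2.SylU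

variable {α : Type*} [Fintype α] [DecidableEq α]

theorem fix_of_good
    (hARall : ∀ (D : Subgroup (Equiv.Perm α)), IsPGroup 2 D → ∀ O : Finset α, IsOrb D O →
      ∀ y ∈ D, Good y O → TransOrFix y O)
    (g : Equiv.Perm α) (hodd : Odd (orderOf g)) :
    ∀ (k : ℕ) (D : Subgroup (Equiv.Perm α)), IsPGroup 2 D → ∀ O : Finset α, O.card ≤ k →
      IsOrb D O → ∀ y ∈ D, Good y O → (∀ d, d ∈ D ↔ g * d * g⁻¹ ∈ D) →
      (∀ a, a ∈ O ↔ g a ∈ O) → ∀ a ∈ O, g a = a := by
  intro k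
  induction k with
  | zero =>
    intro D hD O hk hO y hy hgood hgD hgO a ha
    exfalso
    have := Finset.card_pos.mpr ⟨a, ha⟩
    omega
  | succ k ih =>
    intro D hD O hk hO y hy hgood hgD hgO a ha
    by_cases h2 : 2 ≤ O.card
    · obtain ⟨B, hB, hOB, hOB'⟩ := Cfsg.Agent.Helper26.S4349g.exists_half D hD O hO h2
      have hAR := hARall D hD O hO y hy hgood
      have huniq : ∀ B₂ : Finset α, IsHalf D O B₂ → B₂ = B ∨ B₂ = O \ B :=
        fun B₂ hB₂ => Cfsg.Agent.Helper28.S4349i.half_unique D O hO y hy B B₂ hB hB₂ hAR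
      obtain ⟨hgB, hgM⟩ := Cfsg.Agent.Helper2.S4349j.g_half D O B hB h2 g hgD hgO hodd huniq
      have hMD : stab D B ≤ D := fun d hd => hd.1
      have hM : IsPGroup 2 (stab D B) := hD.to_le hMD
      have hcard : 2 * B.card = O.card := hB.2.1
      have hBO : B ⊆ O := hB.1
      have hsd := Finset.card_sdiff_add_card_eq_card hBO
      have hcB : B.card ≤ k := by omega
      have hcB' : (O \ B).card ≤ k := by omega
      have hgB' : ∀ a, a ∈ O \ B ↔ g a ∈ O \ B := by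
        intro a
        rw [Finset.mem_sdiff, Finset.mem_sdiff, ← hgO a, ← hgB a]
      have key : ∃ y' ∈ stab D B, Good y' B ∧ Good y' (O \ B) := by
        rcases hAR with htr | ⟨β, hβ, β', hβ', hne, hfix, hfix', hC⟩
        · obtain ⟨h1, h2', h3⟩ := Cfsg.Agent.Helper6.S4349k.typeA D O B hO hB h2 y hy htr
          exact ⟨y * y, h1, h2', h3⟩
        · obtain ⟨h1, h2', h3⟩ :=
            Cfsg.Agent.Helper6.S4349l.typeB D O B hO hB y hy hgood β hβ hfix
          exact ⟨y, h1, h2', h3⟩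
      obtain ⟨y', hy', hg1, hg2⟩ := key
      by_cases haB : a ∈ B
      · exact ih (stab D B) hM B hcB hOB y' hy' hg1 hgM hgB a haB
      · exact ih (stab D B) hM (O \ B) hcB' hOB' y' hy' hg2 hgM hgB' a
          (Finset.mem_sdiff.mpr ⟨ha, haB⟩)
    · have h1 : O.card ≤ 1 := by omega
      have hga : g a ∈ O := (hgO a).mp ha
      exact Finset.card_le_one.mp h1 (g a) hga a ha

theorem main_of {n : ℕ} (x : Equiv.Perm (Fin n)) (hx : ∃ k : ℕ, orderOf x = 2 ^ k)
    (hARall : ∀ (D : Subgroup (Equiv.Perm (Fin n))), IsPGroup 2 D → ∀ O : Finset (Fin n),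
      IsOrb D O → ∀ y ∈ D, Good y O → TransOrFix y O)
    (hND : ∀ P : Subgroup (Equiv.Perm (Fin n)), IsPGroup 2 P → x ∈ P →
      (∀ t : Equiv.Perm (Fin n), (∃ j : ℕ, orderOf t = 2 ^ j) → t * x * t⁻¹ ∈ P → t ∈ P) →
      x.cycleType.Nodup) :
    (∃! P : Sylow 2 (Equiv.Perm (Fin n)), x ∈ P) ↔
      (n ≤ x.support.card + 2 ∧ x.cycleType.Nodup) := by
  constructor
  · rintro ⟨P, hxP, huniq⟩
    have hcl : ∀ t : Equiv.Perm (Fin n), (∃ j : ℕ, orderOf t = 2 ^ j) →
        t * x * t⁻¹ ∈ (P : Subgroup (Equiv.Perm (Fin n))) →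
        t ∈ (P : Subgroup (Equiv.Perm (Fin n))) :=
      fun t ht htx => Cfsg.Agent.Helper2.S4349a.closure_mem 2 x P hxP huniq t ht htx
    refine ⟨?_, ?_⟩
    · have h := Cfsg.Agent.Helper2.S4349b.fix_le_two x (P : Subgroup (Equiv.Perm (Fin n)))
        P.isPGroup' hxP hcl
      rwa [Fintype.card_fin] at h
    · exact hND (P : Subgroup (Equiv.Perm (Fin n))) P.isPGroup' hxP hcl
  · rintro ⟨h1, h2⟩
    have hzp : IsPGroup 2 (Subgroup.zpowers x) := by
      obtain ⟨k, hk⟩ := hx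
      apply IsPGroup.of_card (n := k)
      rw [Nat.card_zpowers, hk]
    obtain ⟨P, hP⟩ := hzp.exists_le_sylow
    have hxP : x ∈ P := hP (Subgroup.mem_zpowers x)
    refine ⟨P, hxP, fun Q hxQ => ?_⟩
    by_contra hne
    obtain ⟨D, g, hD, hxD, hgD, hg1, hodd⟩ := Cfsg.Agent.Helper8.S4349e.tame x Q P hxQ hxP hne
    have hgood : Good x Finset.univ :=
      Cfsg.Agent.Helper26.S4349f.good_of_cycleType x (by rw [Fintype.card_fin]; exact h1) h2
    exact hg1 (Cfsg.Agent.Helper2.S4349m.no_odd_norm hARall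
      (fun D hD O hO y hy hgood g hgD hgO hodd =>
        fix_of_good hARall g hodd O.card D hD O le_rfl hO y hy hgood hgD hgO)
      x hgood D hD hxD g hgD hodd)

end Cfsg.Agent.Helper2.S4349x
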